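import Cfsg.Agent.H278.ElSieve

/-!
# TEAM ELUSIVE: alternating groups inside classical groups, by orders

If `T` is a classical simple group of natural dimension `N` (not `PSL_2`) all of whose primes are `≤ m`, where
`5 ≤ m ≤ 10`, or `11 ≤ m ≤ N + 2`, and `m! / 2 ∣ |T|`, then `T` is in a short list (and `m ≤ 10`).
-/

set_option autoImplicit false

namespace Cfsg.Agent.H278.El.AltNum

open Cfsg.Agent.OrdDiv Cfsg.Agent.H436 Cfsg.Agent.H278.El.Num
open Cfsg.Agent.H278.El.SporNum (IsCl prim_le)
open Cfsg.Agent.H278.El.Sieve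

/-- the dimension of the natural module -/
def dimOf : Grp → ℕ
  | .psl n _ => n
  | .psp m _ => 2 * m
  | .psu n _ => n
  | .oodd m _ => 2 * m + 1
  | .oplus m _ => 2 * m
  | .ominus m _ => 2 * m
  | _ => 0

theorem prim_dvd {q e r : ℕ} (h : Prim q e r) : e ∣ r - 1 := by
  have hc : Nat.Coprime q r := ((Nat.Prime.coprime_iff_not_dvd h.prime).2 h.not_dvd).symm
  have h2 := Nat.ModEq.pow_totient hc
  rw [Nat.totient_prime h.prime] at h2
  rcases Nat.eq_zero_or_pos q with rfl | hq
  · exact absurd (dvd_zero r) h.not_dvd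
  · exact (h.dvd_iff _).1 ((Nat.modEq_iff_dvd' (Nat.one_le_pow _ _ hq)).1 h2.symm)

theorem prim_eq {q e r m : ℕ} (h : Prim q e r) (hr : r ≤ m) (hm : m ≤ 2 * e) : r = e + 1 := by
  obtain ⟨k, hk⟩ := prim_dvd h
  have h2 := h.prime.two_le
  have h3 : k = 1 := by
    rcases Nat.lt_or_ge k 2 with h4 | h4
    · rcases Nat.eq_zero_or_pos k with rfl | h5
      · omega
      · omega
    · have : e * 2 ≤ e * k := Nat.mul_le_mul_left _ h4
      omega
  subst h3
  omega

/-- an exponent `e` with `3 ∣ e + 1` cannot be used -/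
theorem no_three {q e m : ℕ} (hq : 2 ≤ q) (he : 6 ≤ e) (h3 : 3 ∣ e + 1) (hm : m ≤ 2 * e)
    (h : ∀ r, Prim q e r → r ≤ m) : False := by
  obtain ⟨r, hr⟩ := exists_prim hq (show 3 ≤ e by omega) (fun h => by omega)
  have h1 := prim_eq hr (h r hr) hm
  rw [← h1] at h3
  have := (Nat.prime_dvd_prime_iff_eq Nat.prime_three hr.prime).1 h3
  omega

/-- an odd exponent cannot be used -/
theorem no_odd {q e m : ℕ} (hq : 2 ≤ q) (he : 3 ≤ e) (h2 : e % 2 = 1) (hm : m ≤ 2 * e)
    (h : ∀ r, Prim q e r → r ≤ m) : False := by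
  obtain ⟨r, hr⟩ := exists_prim hq he (fun h => by omega)
  have h1 := prim_eq hr (h r hr) hm
  have h3 : 2 ∣ r := by omega
  have := (Nat.prime_dvd_prime_iff_eq Nat.prime_two hr.prime).1 h3
  omega

theorem three_cases (k : ℕ) (hk : 3 ≤ k) : 3 ∣ 2 * k + 1 ∨ 3 ∣ 2 * (k - 1) + 1 ∨ 3 ∣ 2 * (k - 2) + 1 := by
  obtain ⟨j, rfl⟩ : ∃ j, k = j + 3 := ⟨k - 3, by omega⟩
  rw [show j + 3 - 1 = j + 2 by omega, show j + 3 - 2 = j + 1 by omega]
  have h : j % 3 = 0 ∨ j % 3 = 1 ∨ j % 3 = 2 := by omega
  rcases h with h | h | h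
  · exact .inr (.inr (by omega))
  · exact .inl (by omega)
  · exact .inr (.inl (by omega))

/-- **Large degree.** -/
theorem alt_big {m : ℕ} {g : Grp} (hg : Cond g) (hcl : IsCl g) {c : ℕ} (he : den g * c = num g)
    (hp : ∀ u : ℕ, u.Prime → u ∣ c → u ≤ m) (hm : 11 ≤ m) (hN : m ≤ dimOf g + 2) : False := by
  cases g with
  | psl n q =>
    have hN : m ≤ n + 2 := hN
    have hq : 2 ≤ q := hg.2.2.two_le
    have key : ∀ i, 1 ≤ i → i ≤ n → ∀ r, Prim q i r → r ≤ m := fun i h1 h2 r hr =>
      hp r hr.prime (psl_dvd (by omega) hq he h2 hr.prime (hr.dvd dvd_rfl) h1)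
    rcases Nat.even_or_odd' n with ⟨k, hk | hk⟩
    · exact no_odd hq (e := n - 1) (by omega) (by omega) (by omega) (key _ (by omega) (by omega))
    · exact no_odd hq (e := n) (by omega) (by omega) (by omega) (key _ (by omega) (by omega))
  | psp k q =>
    have hN : m ≤ 2 * k + 2 := hN
    have hq : 2 ≤ q := hg.2.2.two_le
    have key : ∀ i, 1 ≤ i → i ≤ k → ∀ r, Prim q (2 * i) r → r ≤ m := fun i h1 h2 r hr =>
      hp r hr.prime (psp_dvd (by omega) he h1 h2 hr.prime (hr.dvd dvd_rfl))
    rcases three_cases k (by omega) with h | h | h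
    · exact no_three hq (by omega) h (by omega) (key _ (by omega) (by omega))
    · exact no_three hq (by omega) h (by omega) (key _ (by omega) (by omega))
    · exact no_three hq (by omega) h (by omega) (key _ (by omega) (by omega))
  | oodd k q =>
    have hN : m ≤ 2 * k + 1 + 2 := hN
    have hq : 2 ≤ q := hg.2.2.two_le
    have key : ∀ i, 1 ≤ i → i ≤ k → ∀ r, Prim q (2 * i) r → r ≤ m := fun i h1 h2 r hr =>
      hp r hr.prime (oodd_dvd (by omega) hg.2.1 he h1 h2 hr.prime (hr.dvd dvd_rfl))
    rcases three_cases k (by omega) with h | h | h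
    · exact no_three hq (by omega) h (by omega) (key _ (by omega) (by omega))
    · exact no_three hq (by omega) h (by omega) (key _ (by omega) (by omega))
    · exact no_three hq (by omega) h (by omega) (key _ (by omega) (by omega))
  | oplus k q =>
    have hN : m ≤ 2 * k + 2 := hN
    have hq : 2 ≤ q := hg.2.two_le
    have key : ∀ i, 1 ≤ i → i ≤ k - 1 → ∀ r, Prim q (2 * i) r → r ≤ m := fun i h1 h2 r hr =>
      hp r hr.prime (oplus_dvd hg.1 hq he h1 h2 hr.prime (hr.dvd dvd_rfl))
    rcases three_cases (k - 1) (by omega) with h | h | h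
    · exact no_three hq (by omega) h (by omega) (key _ (by omega) (by omega))
    · exact no_three hq (by omega) h (by omega) (key _ (by omega) (by omega))
    · exact no_three hq (by omega) h (by omega) (key _ (by omega) (by omega))
  | ominus k q =>
    have hN : m ≤ 2 * k + 2 := hN
    have hq : 2 ≤ q := hg.2.two_le
    have key : ∀ i, 1 ≤ i → i ≤ k - 1 → ∀ r, Prim q (2 * i) r → r ≤ m := fun i h1 h2 r hr =>
      hp r hr.prime (ominus_dvd hg.1 hq he h1 h2 hr.prime (hr.dvd dvd_rfl))
    rcases three_cases k (by omega) with h | h | h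
    · refine no_three (m := m) hq (by omega) h (by omega) fun r hr => ?_
      refine hp r hr.prime (ominus_dvd' hg.1 hq he hr.prime (hr.dvd_add (m := k) dvd_rfl ?_))
      intro h2
      have := Nat.le_of_dvd (by omega) h2
      omega
    · exact no_three hq (by omega) h (by omega) (key _ (by omega) (by omega))
    · exact no_three hq (by omega) h (by omega) (key _ (by omega) (by omega))
  | psu n q =>
    have hN : m ≤ n + 2 := hN
    have hq : 2 ≤ q := hg.2.2.two_le
    obtain ⟨e, he1, he2, he3⟩ : ∃ e, e % 2 = 1 ∧ e ≤ n ∧ n ≤ e + 1 := by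
      rcases Nat.even_or_odd' n with ⟨k, hk | hk⟩
      · exact ⟨n - 1, by omega, by omega, by omega⟩
      · exact ⟨n, by omega, le_rfl, by omega⟩
    obtain ⟨r, hr⟩ := exists_prim hq (show 3 ≤ 2 * e by omega) (fun h => by omega)
    have h1 : r ∣ c := by
      refine psu_dvd (by omega) he (show 1 ≤ e by omega) he2 hr.prime ?_
      unfold vU
      rw [he1]
      exact hr.dvd_add (m := e) dvd_rfl fun h2 => by
        have := Nat.le_of_dvd (by omega) h2
        omega
    have h2 := hp r hr.prime h1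
    have h3 := prim_le hr
    omega
  | _ => exact hcl.elim

/-- the survivors -/
def surv : List Grp := [.psl 4 2, .psl 3 4, .psp 2 2, .psp 2 3, .psp 2 7, .psp 3 2, .oplus 4 2, .psu 3 5, .psu 4 2,
  .psu 4 3]

set_option maxRecDepth 100000 in
theorem ok_surv : okB 0 210 60 surv = true := by decide +kernel

set_option maxRecDepth 100000 in
theorem ok_surv7 : okB 0 210 2520 [.psl 4 2, .psl 3 4, .psp 2 7, .psp 3 2, .oplus 4 2, .psu 3 5, .psu 4 3] = true := by
  decide +kernel

/-- **Alternating groups inside classical groups.** -/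
theorem alt_main {m : ℕ} {g : Grp} (hg : Cond g) (hcl : IsCl g) {c : ℕ} (he : den g * c = num g)
    (hc : c = ordN g) (hp : ∀ u : ℕ, u.Prime → u ∣ c → u ≤ m) (h60 : 60 ∣ c)
    (hN : 9 ≤ m → m ≤ dimOf g + 2) : g ∈ surv := by
  rcases Nat.lt_or_ge m 11 with hm | hm
  · refine Sieve.main ok_surv hg hcl ?_ he hc h60 fun u hu hd => ?_
    · rw [zero_dvd_iff]
      have : ∀ q : ℕ, IsPrimePow q → q ≠ 0 := fun q h => h.pos.ne'
      cases g with
      | psl n q => exact this q hg.2.2
      | psp n q => exact this q hg.2.2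
      | psu n q => exact this q hg.2.2
      | oodd n q => exact this q hg.2.2
      | oplus n q => exact this q hg.2
      | ominus n q => exact this q hg.2
      | _ => exact hcl.elim
    · have key : ∀ u ≤ 10, u.Prime → u ∣ 210 := by decide
      exact key u ((hp u hu hd).trans (by omega)) hu
  · exact (alt_big hg hcl he hp hm (hN (by omega))).elim

end Cfsg.Agent.H278.El.AltNum
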