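import Cfsg.Agent.H278.ElCrossNum

/-!
# TEAM ELUSIVE: cross characteristic, large Landazuri-Seitz bound: six primes

* `Six N c` : six distinct primes `≥ N - 11` dividing `c`, five of them `≥ N - 9`;
* `six` : the order of a classical simple group of natural dimension `N ≥ 37` has `Six N`;
* `Few L A` : the primes `≥ L - 11` dividing `A` divide one of at most five numbers `< (L - 11)^2`;
* `not_few` : `Six N c`, `L ≤ N`, primes of `c` divide `A`: not `Few L A`.
-/

set_option autoImplicit false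

namespace Cfsg.Agent.H278.El.CrossNum

open Cfsg.Agent.OrdDiv Cfsg.Agent.H436 Cfsg.Agent.H278.El.Num
open Cfsg.Agent.H278.El.SporNum (IsCl prim_le)
open Cfsg.Agent.H278.El.AltNum (dimOf)

/-- six distinct large primes -/
def Six (N c : ℕ) : Prop := ∃ t : ℕ → ℕ, (∀ i < 6, ∀ j < 6, t i = t j → i = j) ∧
  (∀ i < 6, (t i).Prime ∧ t i ∣ c ∧ N - 11 ≤ t i) ∧ ∀ i < 5, N - 9 ≤ t i

/-- the primes `≥ L - 11` dividing `A` divide one of at most five numbers `< (L - 11)^2` -/
def Few (L A : ℕ) : Prop := ∃ l : List ℕ, l.length ≤ 5 ∧ (∀ x ∈ l, 0 < x ∧ x < (L - 11) ^ 2) ∧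
  ∀ t : ℕ, t.Prime → L - 11 ≤ t → t ∣ A → ∃ x ∈ l, t ∣ x

theorem not_few {N L A c : ℕ} (hS : Six N c) (hL : L ≤ N) (hp : ∀ u : ℕ, u.Prime → u ∣ c → u ∣ A)
    (hF : Few L A) : False := by
  obtain ⟨t, hinj, ht, -⟩ := hS
  obtain ⟨l, hl, hx, hd⟩ := hF
  have h1 : ∀ i < 6, ∃ x ∈ l, t i ∣ x := fun i hi =>
    hd _ (ht i hi).1 (by have := (ht i hi).2.2; omega) (hp _ (ht i hi).1 (ht i hi).2.1)
  -- pigeonhole
  have h2 : ∀ i : Fin 6, ∃ j : Fin l.length, t i ∣ l.get j := fun i => by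
    obtain ⟨x, hx1, hx2⟩ := h1 i i.2
    obtain ⟨j, rfl⟩ := List.get_of_mem hx1
    exact ⟨j, hx2⟩
  choose f hf using h2
  obtain ⟨a, b, hab, hfab⟩ := Fintype.exists_ne_map_eq_of_card_lt f (by
    rw [Fintype.card_fin, Fintype.card_fin]; omega)
  have hne : t a ≠ t b := fun h => hab (Fin.ext (hinj a a.2 b b.2 h))
  have h3 : t a * t b ∣ l.get (f a) := by
    refine Nat.Coprime.mul_dvd_of_dvd_of_dvd ((Nat.coprime_primes (ht a a.2).1 (ht b b.2).1).2 hne) (hf a) ?_
    rw [hfab]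
    exact hf b
  obtain ⟨h4, h5⟩ := hx (l.get (f a)) (List.get_mem l (f a))
  have h6 := Nat.le_of_dvd h4 h3
  have h7 : (L - 11) * (L - 11) ≤ t a * t b :=
    Nat.mul_le_mul (by have := (ht a a.2).2.2; omega) (by have := (ht b b.2).2.2; omega)
  rw [pow_two] at h5
  omega

/-- the exponent is determined by the primitive prime -/
theorem prim_unique {q e e' t : ℕ} (h : Prim q e t) (h' : Prim q e' t) : e = e' :=
  Nat.dvd_antisymm ((h.dvd_iff e').1 (h'.dvd dvd_rfl)) ((h'.dvd_iff e).1 (h.dvd dvd_rfl))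

theorem six_of {q N c : ℕ} (hq : 2 ≤ q) (e : ℕ → ℕ) (he : ∀ i < 6, ∀ j < 6, e i = e j → i = j)
    (h7 : ∀ i < 6, 7 ≤ e i) (hN : ∀ i < 6, N ≤ e i + 12) (hN5 : ∀ i < 5, N ≤ e i + 10)
    (h : ∀ i < 6, ∀ t, Prim q (e i) t → t ∣ c) : Six N c := by
  have h1 : ∀ i, ∃ t, i < 6 → Prim q (e i) t := fun i => by
    by_cases hi : i < 6
    · obtain ⟨t, ht⟩ := exists_prim hq (show 3 ≤ e i by have := h7 i hi; omega)
        (fun h => by have := h7 i hi; omega)
      exact ⟨t, fun _ => ht⟩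
    · exact ⟨0, fun h => absurd h hi⟩
  choose t ht using h1
  refine ⟨t, fun i hi j hj hij => he i hi j hj ?_, fun i hi => ⟨(ht i hi).prime, h i hi _ (ht i hi), ?_⟩,
    fun i hi => ?_⟩
  · have h2 := ht i hi
    rw [hij] at h2
    exact prim_unique h2 (ht j hj)
  · have := prim_le (ht i hi)
    have := hN i hi
    omega
  · have := prim_le (ht i (by omega))
    have := hN5 i hi
    omega

/-- **Six large primes in the orders of the classical groups.** -/
theorem six {g : Grp} (hg : Cond g) (hcl : IsCl g) {c : ℕ} (he : den g * c = num g) (hN : 37 ≤ dimOf g) :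
    Six (dimOf g) c := by
  cases g with
  | psl n q =>
    have hN : 37 ≤ n := hN
    have hq : 2 ≤ q := hg.2.2.two_le
    refine six_of hq (fun i => n - i) (fun i hi j hj h => by omega)
      (fun i hi => by omega) (fun i hi => ?_) (fun i hi => ?_) fun i hi t ht => ?_
    · change n ≤ n - i + 12; omega
    · change n ≤ n - i + 10; omega
    · exact psl_dvd (by omega) hq he (show n - i ≤ n by omega) ht.prime (ht.dvd dvd_rfl) (by omega)
  | psp k q =>
    have hN : 37 ≤ 2 * k := hN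
    have hq : 2 ≤ q := hg.2.2.two_le
    refine six_of hq (fun i => 2 * (k - i)) (fun i hi j hj h => by omega)
      (fun i hi => by omega) (fun i hi => ?_) (fun i hi => ?_) fun i hi t ht => ?_
    · change 2 * k ≤ 2 * (k - i) + 12; omega
    · change 2 * k ≤ 2 * (k - i) + 10; omega
    · exact psp_dvd (by omega) he (show 1 ≤ k - i by omega) (by omega) ht.prime (ht.dvd dvd_rfl)
  | oodd k q =>
    have hN : 37 ≤ 2 * k + 1 := hN
    have hq : 2 ≤ q := hg.2.2.two_le
    refine six_of hq (fun i => 2 * (k - i)) (fun i hi j hj h => by omega)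
      (fun i hi => by omega) (fun i hi => ?_) (fun i hi => ?_) fun i hi t ht => ?_
    · change 2 * k + 1 ≤ 2 * (k - i) + 12; omega
    · change 2 * k + 1 ≤ 2 * (k - i) + 10; omega
    · exact oodd_dvd (by omega) hg.2.1 he (show 1 ≤ k - i by omega) (by omega) ht.prime (ht.dvd dvd_rfl)
  | oplus k q =>
    have hN : 37 ≤ 2 * k := hN
    have hq : 2 ≤ q := hg.2.two_le
    refine six_of hq (fun i => 2 * (k - 1 - i)) (fun i hi j hj h => by omega)
      (fun i hi => by omega) (fun i hi => ?_) (fun i hi => ?_) fun i hi t ht => ?_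
    · change 2 * k ≤ 2 * (k - 1 - i) + 12; omega
    · change 2 * k ≤ 2 * (k - 1 - i) + 10; omega
    · exact oplus_dvd (by omega) hq he (show 1 ≤ k - 1 - i by omega) (by omega) ht.prime (ht.dvd dvd_rfl)
  | ominus k q =>
    have hN : 37 ≤ 2 * k := hN
    have hq : 2 ≤ q := hg.2.two_le
    refine six_of hq (fun i => 2 * (k - i)) (fun i hi j hj h => by omega)
      (fun i hi => by omega) (fun i hi => ?_) (fun i hi => ?_) fun i hi t ht => ?_
    · change 2 * k ≤ 2 * (k - i) + 12; omega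
    · change 2 * k ≤ 2 * (k - i) + 10; omega
    · rcases Nat.eq_zero_or_pos i with rfl | hi0
      · refine ominus_dvd' (by omega) hq he ht.prime (ht.dvd_add (m := k) dvd_rfl fun h2 => ?_)
        have := Nat.le_of_dvd (by omega) h2
        omega
      · exact ominus_dvd (by omega) hq he (show 1 ≤ k - i by omega) (by omega) ht.prime (ht.dvd dvd_rfl)
  | psu n q =>
    have hN : 37 ≤ n := hN
    have hq : 2 ≤ q := hg.2.2.two_le
    obtain ⟨k, hk1, hk2, hk3⟩ : ∃ k, k % 2 = 1 ∧ k ≤ n ∧ n ≤ k + 1 := by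
      rcases Nat.even_or_odd' n with ⟨j, hj | hj⟩
      · exact ⟨n - 1, by omega, by omega, by omega⟩
      · exact ⟨n, by omega, le_rfl, by omega⟩
    refine six_of hq (fun i => 2 * (k - 2 * i)) (fun i hi j hj h => by omega)
      (fun i hi => by omega) (fun i hi => ?_) (fun i hi => ?_) fun i hi t ht => ?_
    · change n ≤ 2 * (k - 2 * i) + 12; omega
    · change n ≤ 2 * (k - 2 * i) + 10; omega
    · refine psu_dvd (by omega) he (show 1 ≤ k - 2 * i by omega) (by omega) ht.prime ?_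
      unfold vU
      have h2 : (k - 2 * i) % 2 = 1 := by omega
      rw [h2]
      exact ht.dvd_add (m := k - 2 * i) dvd_rfl fun h2 => by
        have := Nat.le_of_dvd (by omega) h2
        omega
  | _ => exact hcl.elim

/-- **Large bound.** -/
theorem cross_big {gT g : Grp} (hgT : Cond gT) (hcl : IsCl gT) {cT : ℕ} (heT : den gT * cT = num gT) {A : ℕ}
    (hF : Few (Cfsg.Agent.H927.SgX.lsb g) A) (h37 : 37 ≤ Cfsg.Agent.H927.SgX.lsb g)
    (hN : Cfsg.Agent.H927.SgX.lsb g ≤ dimOf gT) (hp : ∀ u : ℕ, u.Prime → u ∣ cT → u ∣ A) : False :=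
  not_few (six hgT hcl heT (h37.trans hN)) hN hp hF

end Cfsg.Agent.H278.El.CrossNum
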