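import Cfsg.Agent.H278.ElResRow
import Cfsg.Agent.H278.ElCrossIface

/-!
# TEAM ELUSIVE: the residual class, assembly

`res_kill` : `T` classical in characteristic `p` with name `gT`, `R < T` almost simple with socle `S`, `S` a quotient of
a subgroup of `GL(ι, F)`, `|ι| = dimOf gT`: `DerT T R` or `Miss R`, from the row in characteristic `p`
and the cross characteristic row.
-/

set_option autoImplicit false

namespace Cfsg.Agent.H278.El.Asm

open Cfsg Cfsg.Agent.OrdDiv Cfsg.Agent.H436 Cfsg.Agent.H264.FKS Cfsg.Agent.H915.GN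
open Cfsg.Agent.H278.El.SporNum (IsCl exc)
open Cfsg.Agent.H278.El.AltNum (dimOf surv alt_main)
open Cfsg.Agent.H278.El.ResRow
open Cfsg.Agent.H927.SgX (lsb IsLieN)

theorem exists_char_of {q : ℕ} (h : IsPrimePow q) : ∃ s, s.Prime ∧ ∃ f, q = s ^ f := by
  obtain ⟨s, f, hs, -, h⟩ := (isPrimePow_nat_iff q).1 h
  exact ⟨s, hs, f, h.symm⟩

theorem exists_char {g : Grp} (hg : Cond g) (hlie : IsLieN g) : ∃ s, s.Prime ∧ HasChar s g := by
  cases g with
  | psl n q => exact exists_char_of hg.2.2
  | psp n q => exact exists_char_of hg.2.2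
  | psu n q => exact exists_char_of hg.2.2
  | oodd n q => exact exists_char_of hg.2.2
  | oplus n q => exact exists_char_of hg.2
  | ominus n q => exact exists_char_of hg.2
  | g2 q => exact exists_char_of hg.2
  | f4 q => exact exists_char_of hg
  | e6 q => exact exists_char_of hg
  | e7 q => exact exists_char_of hg
  | e8 q => exact exists_char_of hg
  | te6 q => exact exists_char_of hg
  | td4 q => exact exists_char_of hg
  | sz q => obtain ⟨m, -, h⟩ := hg; exact ⟨2, Nat.prime_two, _, h⟩
  | ree q => obtain ⟨m, -, h⟩ := hg; exact ⟨3, Nat.prime_three, _, h⟩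
  | tf4 q => obtain ⟨m, -, h⟩ := hg; exact ⟨2, Nat.prime_two, _, h⟩
  | _ => exact hlie.elim

/-- the three kinds of names -/
theorem name_cases (g : Grp) : (∃ m, g = .alt m) ∨ (∃ x ∈ spor, x.1 = g) ∨ IsLieN g := by
  cases g with
  | alt m => exact .inl ⟨m, rfl⟩
  | psl n q => exact .inr (.inr trivial)
  | psp n q => exact .inr (.inr trivial)
  | psu n q => exact .inr (.inr trivial)
  | oodd n q => exact .inr (.inr trivial)
  | oplus n q => exact .inr (.inr trivial)
  | ominus n q => exact .inr (.inr trivial)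
  | g2 q => exact .inr (.inr trivial)
  | f4 q => exact .inr (.inr trivial)
  | e6 q => exact .inr (.inr trivial)
  | e7 q => exact .inr (.inr trivial)
  | e8 q => exact .inr (.inr trivial)
  | te6 q => exact .inr (.inr trivial)
  | td4 q => exact .inr (.inr trivial)
  | sz q => exact .inr (.inr trivial)
  | ree q => exact .inr (.inr trivial)
  | tf4 q => exact .inr (.inr trivial)
  | _ => exact .inr (.inl (by simp only [spor, List.mem_cons, exists_eq_or_imp, true_or, or_true, reduceCtorEq,
      false_or]))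

section

variable {T : Type} [Group T] [Finite T] {gT : Grp} {R : Subgroup T}

/-- **Residual class.** -/
theorem res_kill {p : ℕ} (hT : IsNamed gT T) (hcl : IsCl gT) (hsurv : gT ∉ surv)
    (hexc : ∀ g, (g, gT) ∉ exc) (S : Subgroup R) [S.Normal] (hC : Subgroup.centralizer (S : Set R) = ⊥)
    {g : Grp} (hS : IsNamed g S)
    {ι : Type} [Fintype ι] [DecidableEq ι] {F : Type} [Field F] [Finite F] {P : Subgroup (GL ι F)}
    {K : Subgroup P} [K.Normal] (e : S ≃* P ⧸ K) (hcard : Fintype.card ι = dimOf gT) {Q : Prop}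
    (hmiss : Miss R → Q) (hsame : HasChar p g → Q)
    (hcross : ∀ s, s.Prime → s ≠ p → HasChar s g → Q) : Q := by
  rcases name_cases g with ⟨m, rfl⟩ | ⟨x, hx, rfl⟩ | hlie
  · obtain ⟨e1⟩ := hS.real
    have hm : 5 ≤ m := hS.cond
    refine hmiss (alt_row hT hcl S hC hm e1 (fun h9 => ?_) hsurv)
    rw [← hcard]
    exact alt_bound P K h9 (e.symm.trans e1)
  · exact hmiss (spor_row hT hcl S hC hx hS (hexc _))
  · obtain ⟨s, hs, hch⟩ := exists_char hS.cond hlie
    by_cases hsp : s = p
    · subst hsp
      exact hsame hch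
    · exact hcross s hs hsp hch

end

end Cfsg.Agent.H278.El.Asm
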