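import Mathlib
import Cfsg.Prelude.Def_Classical
import Cfsg.Agent.H394.SqAlt
import Cfsg.Agent.H357.Syl
import Cfsg.Agent.H278.ElDefs

/-!
# TEAM ELUSIVE: alternating groups

A proper subgroup of an alternating group `A_n`, `n ≥ 5`, misses a class of elements of prime order.
(The arguments of `H394/SqAlt.lean` with Sylvester's theorem instead of the square-free index.)
-/

set_option autoImplicit false

namespace Cfsg.Agent.H278.El.Alt

open MulAction Equiv Equiv.Perm Cfsg.Agent.H396 Cfsg.Agent.H394.SqBasic Cfsg.Agent.H394.SqAlt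
open scoped Pointwise

/-- Sylvester's theorem in the form needed here. -/
theorem exists_num {n k : ℕ} (hn : 5 ≤ n) (hk : 1 ≤ k) (hkn : 2 * k ≤ n) :
    ∃ l : ℕ, l.Prime ∧ (l ≠ 2 ∨ (k = 1 ∧ ∃ a, n = 2 ^ a)) ∧ k < l ∧ l ≤ n ∧ n % l < k := by
  have key : ∃ l i : ℕ, l.Prime ∧ (l ≠ 2 ∨ (k = 1 ∧ ∃ a, n = 2 ^ a)) ∧ k < l ∧ n - k < i ∧ i ≤ n ∧
      l ∣ i := by
    rcases Nat.lt_or_ge n 13 with h13 | h13
    · rcases Nat.lt_or_ge 1 k with hk1 | hk1
      · have key : ∀ n < 13, ∀ k < 7, 4 ≤ n → 2 ≤ k → 2 * k ≤ n →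
            Cfsg.Agent.H357.NT.sylOk n k = true := by decide +kernel
        obtain ⟨t, i, h1, h2, h3, h4⟩ := Cfsg.Agent.H357.NT.of_sylOk
          (key n h13 k (by omega) (by omega) hk1 hkn)
        exact ⟨t, n - i, h1, Or.inl (by omega), h2, by omega, by omega, h4⟩
      · have hk1' : k = 1 := by omega
        rcases Nat.eq_two_pow_or_exists_odd_prime_and_dvd n with ⟨a, ha⟩ | ⟨p, hp, hpn, hodd⟩
        · refine ⟨2, n, Nat.prime_two, Or.inr ⟨hk1', a, ha⟩, by omega, by omega, le_rfl, ?_⟩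
          rw [ha]
          apply dvd_pow_self
          rintro rfl
          omega
        · refine ⟨p, n, hp, Or.inl ?_, by have := hp.two_le; omega, by omega, le_rfl, hpn⟩
          rintro rfl
          exact absurd hodd (by decide)
    · by_cases hgap : ∀ p : ℕ, p.Prime → p ≤ n → p ≤ n - k
      · obtain ⟨t, i, h1, h2, h3, h4, h5, h6⟩ :=
          Cfsg.Agent.H357.NT.exists_large_dvd h13 (m := n - k) (by omega) hgap
        refine ⟨t, i, h1, ?_, by omega, h4, h5, h6⟩
        rcases h2 with h2 | ⟨h2, h2'⟩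
        · exact Or.inl h2
        · exact Or.inr ⟨by omega, h2'⟩
      · push Not at hgap
        obtain ⟨p, hp, hp1, hp2⟩ := hgap
        exact ⟨p, p, hp, Or.inl (by omega), by omega, hp2, hp1, dvd_rfl⟩
  obtain ⟨l, i, hl, h2, hkl, h3, h4, h5⟩ := key
  refine ⟨l, hl, h2, hkl, ?_, ?_⟩
  · exact (Nat.le_of_dvd (by omega) h5).trans h4
  · obtain ⟨c, rfl⟩ := h5
    have h6 : n = l * c + (n - l * c) := by omega
    rw [h6, Nat.mul_add_mod, Nat.mod_eq_of_lt (by omega)]
    omega

/-- for `n = 2 ^ a ≥ 8` there is a fixed-point-free involution. -/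
theorem exists_full_two {n a : ℕ} (hn : 5 ≤ n) (ha : n = 2 ^ a) :
    ∃ g : alternatingGroup (Fin n),
      (g : Perm (Fin n)).cycleType = Multiset.replicate (n / 2) 2 ∧ orderOf g = 2 := by
  obtain ⟨b, rfl⟩ : ∃ b, a = b + 3 := by
    have h3 : 3 ≤ a := by
      by_contra h
      have : a ≤ 2 := by omega
      have := Nat.pow_le_pow_right (show 0 < 2 by norm_num) this
      omega
    exact ⟨a - 3, by omega⟩
  have hb : 1 ≤ 2 ^ b := Nat.one_le_two_pow
  have hn' : n = 8 * 2 ^ b := by rw [ha, pow_add]; ring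
  have hn2 : n / 2 = 4 * 2 ^ b := by omega
  obtain ⟨σ, hσ⟩ : ∃ σ : Perm (Fin n), σ.cycleType = Multiset.replicate (n / 2) 2 := by
    rw [exists_with_cycleType_iff, Multiset.sum_replicate, smul_eq_mul, Fintype.card_fin]
    refine ⟨Nat.div_mul_le_self n 2, ?_⟩
    intro a ha
    rw [Multiset.eq_of_mem_replicate ha]
  have hs : Equiv.Perm.sign σ = 1 := by
    rw [sign_of_cycleType, hσ, Multiset.sum_replicate, Multiset.card_replicate, smul_eq_mul]
    apply Even.neg_one_pow
    rw [hn2]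
    exact ⟨6 * 2 ^ b, by ring⟩
  have ho : orderOf σ = 2 := by
    rw [← lcm_cycleType, hσ]
    apply Nat.dvd_antisymm
    · rw [Multiset.lcm_dvd]
      intro b hb
      rw [Multiset.eq_of_mem_replicate hb]
    · apply Multiset.dvd_lcm
      rw [Multiset.mem_replicate]
      exact ⟨by omega, rfl⟩
  refine ⟨⟨σ, mem_alternatingGroup.2 hs⟩, hσ, ?_⟩
  rw [← Subgroup.orderOf_coe]
  exact ho

section

variable {n : ℕ} (M : Subgroup (alternatingGroup (Fin n)))

/-- Intransitive case. -/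
theorem intrans (hn : 5 ≤ n)
    (hall : ∀ g : alternatingGroup (Fin n), (orderOf g).Prime → ∃ π : Perm (Fin n),
      ∃ h ∈ M, (h : Perm (Fin n)) = π * g * π⁻¹)
    (Δ : Finset (Fin n)) (hΔ1 : 1 ≤ Δ.card) (hΔ2 : 2 * Δ.card ≤ n)
    (hinv : ∀ g ∈ M, ∀ x ∈ Δ, (g : Perm (Fin n)) x ∈ Δ) : False := by
  set k := Δ.card with hk
  obtain ⟨l, hl, hl2, hkl, hln, h3⟩ := exists_num hn hΔ1 hΔ2
  obtain ⟨g, hg, ho⟩ : ∃ g : alternatingGroup (Fin n),
      (g : Perm (Fin n)).cycleType = Multiset.replicate (n / l) l ∧ orderOf g = l := by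
    by_cases h2 : l = 2
    · obtain ⟨-, a, ha⟩ := hl2.resolve_left (fun h => h h2)
      rw [h2]
      exact exists_full_two hn ha
    · exact exists_full n l hl h2 hln
  obtain ⟨π, h, hhM, hh⟩ := hall g (by rw [ho]; exact hl)
  have hct : (h : Perm (Fin n)).cycleType = Multiset.replicate (n / l) l := by
    rw [hh, cycleType_conj, hg]
  have hhl : h ^ l = 1 := by
    apply Subtype.ext
    rw [Subgroup.coe_pow, hh, conj_pow]
    have : (g : Perm (Fin n)) ^ l = 1 := by
      rw [← Subgroup.coe_pow, ← ho, pow_orderOf_eq_one]; rfl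
    rw [this, mul_one, mul_inv_cancel]; rfl
  have hfix : ∀ x ∈ Δ, (h : Perm (Fin n)) x = x := by
    intro x hx
    exact fix_of_lt (G := alternatingGroup (Fin n)) hl hhl (Δ : Set (Fin n)) (Finset.finite_toSet Δ)
      (fun y hy => hinv h hhM y hy) (by rw [Set.ncard_coe_finset]; exact hkl) x hx
  have h1 : Δ ⊆ Finset.univ.filter (fun x => (h : Perm (Fin n)) x = x) := by
    intro x hx
    rw [Finset.mem_filter]
    exact ⟨Finset.mem_univ _, hfix x hx⟩
  have h2 := Finset.card_le_card h1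
  rw [card_fixed_of_cycleType hct] at h2
  omega

/-- Transitivity. -/
theorem trans_of (hn : 5 ≤ n)
    (hall : ∀ g : alternatingGroup (Fin n), (orderOf g).Prime → ∃ π : Perm (Fin n),
      ∃ h ∈ M, (h : Perm (Fin n)) = π * g * π⁻¹) :
    IsPretransitive (M.map (alternatingGroup (Fin n)).subtype) (Fin n) := by
  classical
  by_contra hcon
  set M' := M.map (alternatingGroup (Fin n)).subtype with hM'
  have hex : ∃ x y : Fin n, y ∉ orbit M' x := by
    by_contra h
    push Not at h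
    apply hcon
    exact ⟨fun x y => h x y⟩
  obtain ⟨x, y, hy⟩ := hex
  let Δ : Finset (Fin n) := (orbit M' x).toFinset
  have hinv : ∀ g ∈ M, ∀ z ∈ Δ, (g : Perm (Fin n)) z ∈ Δ := by
    intro g hg z hz
    rw [Set.mem_toFinset] at hz ⊢
    obtain ⟨m, rfl⟩ := hz
    have hgM : (g : Perm (Fin n)) ∈ M' := ⟨g, hg, rfl⟩
    refine ⟨⟨(g : Perm (Fin n)), hgM⟩ * m, ?_⟩
    show ((⟨(g : Perm (Fin n)), hgM⟩ * m : M') • x : Fin n) = _
    rw [mul_smul]
    rfl
  have hinv' : ∀ g ∈ M, ∀ z ∈ Δᶜ, (g : Perm (Fin n)) z ∈ Δᶜ := by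
    intro g hg z hz
    rw [Finset.mem_compl] at hz ⊢
    intro h
    apply hz
    have := hinv g⁻¹ (inv_mem hg) _ h
    rw [Subgroup.coe_inv, Equiv.Perm.inv_def, Equiv.symm_apply_apply] at this
    exact this
  have hx : x ∈ Δ := by rw [Set.mem_toFinset]; exact mem_orbit_self x
  have hy' : y ∈ Δᶜ := by rw [Finset.mem_compl, Set.mem_toFinset]; exact hy
  have hc : Δᶜ.card = n - Δ.card := by rw [Finset.card_compl, Fintype.card_fin]
  have h1 : 1 ≤ Δ.card := Finset.card_pos.2 ⟨x, hx⟩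
  have h2 : 1 ≤ Δᶜ.card := Finset.card_pos.2 ⟨y, hy'⟩
  rcases Nat.lt_or_ge n (2 * Δ.card) with h | h
  · exact intrans M hn hall Δᶜ h2 (by omega) hinv'
  · exact intrans M hn hall Δ h1 h hinv

/-- Primitivity. -/
theorem prim_of (hn : 5 ≤ n)
    (hall : ∀ g : alternatingGroup (Fin n), (orderOf g).Prime → ∃ π : Perm (Fin n),
      ∃ h ∈ M, (h : Perm (Fin n)) = π * g * π⁻¹) :
    IsPreprimitive (M.map (alternatingGroup (Fin n)).subtype) (Fin n) := by
  classical
  have htr := trans_of M hn hall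
  set M' := M.map (alternatingGroup (Fin n)).subtype with hM'
  obtain ⟨l, hl, hl1, hl2⟩ := Nat.exists_prime_lt_and_le_two_mul (n / 2) (by omega)
  have hln : l ≤ n := by omega
  have h2l : n < 2 * l := by omega
  obtain ⟨g, hg, ho⟩ := exists_full n l hl (by omega) hln
  obtain ⟨π, h, hhM, hh⟩ := hall g (by rw [ho]; exact hl)
  have hhl : (h : Perm (Fin n)) ^ l = 1 := by
    rw [hh, conj_pow]
    have : (g : Perm (Fin n)) ^ l = 1 := by
      rw [← Subgroup.coe_pow, ← ho, pow_orderOf_eq_one]; rfl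
    rw [this, mul_one, mul_inv_cancel]
  have hh1 : (h : Perm (Fin n)) ≠ 1 := by
    intro h1
    rw [hh] at h1
    have h2 : (g : Perm (Fin n)) = 1 := by
      have := congrArg (fun z => π⁻¹ * z * π) h1
      simpa [mul_assoc] using this
    have h3 : g = 1 := Subtype.ext h2
    rw [h3, orderOf_one] at ho
    exact hl.one_lt.ne ho
  let hM : M' := ⟨(h : Perm (Fin n)), ⟨h, hhM, rfl⟩⟩
  have hMl : hM ^ l = 1 := Subtype.ext hhl
  have hne : Nonempty (Fin n) := ⟨⟨0, by omega⟩⟩
  refine ⟨fun {B} hB => ?_⟩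
  by_contra hnt
  rw [IsTrivialBlock, not_or] at hnt
  obtain ⟨hns, hnu⟩ := hnt
  have hBne : B.Nonempty := by
    by_contra h0
    rw [Set.not_nonempty_iff_eq_empty] at h0
    exact hns (h0 ▸ Set.subsingleton_empty)
  have hcard := hB.ncard_block_mul_ncard_orbit_eq hBne
  have hcn : Nat.card (Fin n) = n := by rw [Nat.card_eq_fintype_card, Fintype.card_fin]
  rw [hcn] at hcard
  have hB2 : 2 ≤ B.ncard := by
    rw [Nat.succ_le_iff, Set.one_lt_ncard (Set.toFinite B)]
    rw [Set.not_subsingleton_iff] at hns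
    obtain ⟨a, ha, b, hb, hab⟩ := hns
    exact ⟨a, ha, b, hb, hab⟩
  have hO2 : 2 ≤ (orbit M' B).ncard := by
    by_contra hlt
    have h1 : (orbit M' B).ncard = 0 ∨ (orbit M' B).ncard = 1 := by omega
    rcases h1 with h1 | h1
    · rw [h1] at hcard; omega
    · rw [h1, mul_one] at hcard
      apply hnu
      apply Set.eq_of_subset_of_ncard_le (Set.subset_univ B)
      rw [Set.ncard_univ, hcn, hcard]
  have hO : (orbit M' B).ncard < l := by
    by_contra hge
    push Not at hge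
    have : 2 * l ≤ B.ncard * (orbit M' B).ncard := Nat.mul_le_mul hB2 hge
    omega
  have hBl : B.ncard < l := by
    by_contra hge
    push Not at hge
    have : l * 2 ≤ B.ncard * (orbit M' B).ncard := Nat.mul_le_mul hge hO2
    omega
  -- `hM` fixes every block in the orbit
  have hfixB : ∀ C ∈ orbit M' B, hM • C = C := by
    intro C hC
    refine fix_of_lt hl hMl (orbit M' B) (Set.toFinite _) ?_ hO C hC
    intro D hD
    exact MulAction.mem_orbit_of_mem_orbit hM hD
  apply hh1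
  ext x : 1
  -- `x` lies in some block
  obtain ⟨b, hb⟩ := hBne
  obtain ⟨m, hm⟩ := htr.exists_smul_eq b x
  have hx : x ∈ m • B := by rw [← hm]; exact Set.smul_mem_smul_set hb
  have h1 := hfixB (m • B) ⟨m, rfl⟩
  have h2 := fix_of_lt hl hMl (m • B) (Set.toFinite _) (fun y hy => by
    have : hM • y ∈ hM • (m • B) := Set.smul_mem_smul_set hy
    rwa [h1] at this) (by rw [Set.ncard_smul_set]; exact hBl) x hx
  exact h2


theorem top_of_hall (hn : 5 ≤ n) 
    (hall : ∀ g : alternatingGroup (Fin n), (orderOf g).Prime → ∃ π : Perm (Fin n),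
      ∃ h ∈ M, (h : Perm (Fin n)) = π * g * π⁻¹) : M = ⊤ := by
  have hprim := prim_of M hn hall
  obtain ⟨c, hc⟩ : ∃ σ : Perm (Fin n), σ.cycleType = {3} := by
    rw [exists_with_cycleType_iff]
    simp only [Multiset.sum_singleton, Multiset.mem_singleton, forall_eq, Fintype.card_fin]
    omega
  have hc3 : c.IsThreeCycle := hc
  obtain ⟨π, h, hhM, hh⟩ := hall ⟨c, hc3.mem_alternatingGroup⟩ (by
    rw [← Subgroup.orderOf_coe, hc3.orderOf]
    exact Nat.prime_three)
  have hh3 : (h : Perm (Fin n)).IsThreeCycle := by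
    rw [hh]
    show (π * c * π⁻¹).cycleType = {3}
    rw [cycleType_conj, hc]
  have hle := alternatingGroup_le_of_isPreprimitive_of_isThreeCycle_mem hprim hh3 ⟨h, hhM, rfl⟩
  rw [eq_top_iff]
  intro g _
  obtain ⟨g', hg', hgg⟩ := hle g.2
  rw [← Subtype.ext (p := (· ∈ alternatingGroup (Fin n))) hgg]
  exact hg'

end

theorem derT_alt (n : ℕ) (hn : 5 ≤ n) (M : Subgroup (alternatingGroup (Fin n))) (hM : M ≠ ⊤) :
    DerT (alternatingGroup (Fin n)) M := by
  by_contra hD
  apply hM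
  apply top_of_hall M hn
  intro g hg
  obtain ⟨π, hπ⟩ := exists_conj_of_not_derT hD g hg
  exact ⟨π, _, hπ, rfl⟩

/-- no proper subgroup of `A_n`, `n ≥ 7`, meets all `Aut(A_n)`-classes of elements of prime order -/
theorem der_alt (n : ℕ) (hn : 7 ≤ n) (M : Subgroup (alternatingGroup (Fin n))) (hM : M ≠ ⊤) :
    Der (alternatingGroup (Fin n)) M := by
  by_contra hD
  obtain ⟨ψ, hψ⟩ := Cfsg.Agent.StandardComponent.AltAut.exists_autHom n hn
  apply hM
  apply top_of_hall M (by omega)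
  intro g hg
  by_contra hcon
  push Not at hcon
  exact hD ⟨g, hg, fun φ hφ => hcon (ψ φ) (φ g) hφ (hψ φ g)⟩

theorem der_alt_five (M : Subgroup (alternatingGroup (Fin 5))) (hM : M ≠ ⊤) :
    Der (alternatingGroup (Fin 5)) M := by
  by_contra hD
  have hcard : Nat.card (alternatingGroup (Fin 5)) = 60 := card_alt 5 (by norm_num)
  have h30 : 30 ∣ Nat.card M := by
    have h : ∀ p : ℕ, p.Prime → p ∣ 60 → p ∣ Nat.card M := by
      intro p hp hd
      by_contra hn
      exact hD (der_of_prime hp (by rw [hcard]; exact hd) hn)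
    have h2 := h 2 (by norm_num) (by norm_num)
    have h3 := h 3 (by norm_num) (by norm_num)
    have h5 := h 5 (by norm_num) (by norm_num)
    omega
  have hidx : M.index ∣ 2 := by
    have h1 := Subgroup.card_mul_index M
    obtain ⟨c, hc⟩ := h30
    rw [hcard, hc] at h1
    exact ⟨c, by nlinarith⟩
  have hsq : Squarefree M.index := Squarefree.squarefree_of_dvd hidx Nat.prime_two.squarefree
  rcases sq_five M hM hsq with h | ⟨⟨e⟩, -⟩
  · exact hD h
  · have h1 := Nat.card_congr e.toEquiv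
    rw [hcard, card_alt 6 (by norm_num)] at h1
    exact absurd h1 (by decide)

theorem clMax_alt {T : Type*} [Group T] (h : Cfsg.IsAlternating T) : ClMax T := by
  obtain ⟨n, hn, ⟨e⟩⟩ := h
  exact ClMax.congr e.symm fun M hM => derT_alt n hn M hM.1

theorem clMaxA_alt {T : Type*} [Group T] (h : Cfsg.IsAlternating T)
    (h6 : ¬ Nonempty (T ≃* alternatingGroup (Fin 6))) : ClMaxA T := by
  obtain ⟨n, hn, ⟨e⟩⟩ := h
  refine ClMaxA.congr e.symm fun M hM => ?_
  rcases Nat.lt_or_ge n 7 with h7 | h7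
  · have h8 : n = 5 ∨ n = 6 := by omega
    rcases h8 with rfl | rfl
    · exact der_alt_five M hM.1
    · exact absurd ⟨e⟩ h6
  · exact der_alt n h7 M hM.1

end Cfsg.Agent.H278.El.Alt
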