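import Cfsg.Agent.H278.ElFamA
import Cfsg.Agent.H278.ElAlt
import Cfsg.Agent.H251.Small.Main
import Cfsg.Agent.H503.El.L44
import Cfsg.Agent.H503.El.L62
import Cfsg.Agent.H503.El.Lin
import Cfsg.Agent.H503.El.Om
import Cfsg.Agent.H503.El.Sp8
import Cfsg.Agent.H503.El.O8Fin
import Cfsg.Agent.H947.El.A6
import Cfsg.Agent.H947.El.PsuC
import Cfsg.Agent.H304.Psl3
import Cfsg.Agent.H262.ElSympRes
import Cfsg.Agent.H180.LElSpFinal
import Cfsg.Agent.S0256

/-!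
# TEAM ELUSIVE: all classical groups, from the cross characteristic rows
-/

set_option autoImplicit false

namespace Cfsg.Agent.H278.El.Asm

open Cfsg Cfsg.Geo Cfsg.Agent.OrdDiv Cfsg.Agent.H436 Cfsg.Agent.H264.FKS Cfsg.Agent.H915.GN
open Cfsg.Agent.H278.El.SporNum (IsCl exc)
open Cfsg.Agent.H278.El.AltNum (dimOf surv alt_main)
open scoped MatrixGroups

/-- every simple group is known -/
abbrev Kn : Prop := ∀ (X : Type) [Group X] [Finite X] [IsSimpleGroup X], Cfsg.IsKnownSimple' X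

/-- the cross characteristic rows -/
structure CrossRows : Prop where
  psl : ∀ {F : Type} [Field F] [Fintype F] {n p : ℕ}, p.Prime → p ∣ Fintype.card F → 4 ≤ n →
    ¬ (Fintype.card F = 2 ∧ (n = 4 ∨ n = 6 ∨ n = 7)) → ¬ (Fintype.card F = 4 ∧ n = 4) →
    CrossRowM p (Matrix.ProjectiveSpecialLinearGroup (Fin n) F) (Fin n) F
  psp : ∀ {F : Type} [Field F] [Fintype F] {m p : ℕ}, p.Prime → p ∣ Fintype.card F → 3 ≤ m →
    ¬ Odd (Fintype.card F) → ¬ (Fintype.card F = 2 ∧ m ≤ 4) → CrossRow p (PSp m F) (Fin m ⊕ Fin m) F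
  psu : ∀ {F : Type} [Field F] [Fintype F] {n p q : ℕ}, Fintype.card F = q ^ 2 → p.Prime → p ∣ q → 4 ≤ n →
    ¬ (q = 2 ∧ n ≤ 6) → ¬ (n = 4 ∧ q = 3) → CrossRowM p (PSU n F q) (Fin n) F
  oodd : ∀ {F : Type} [Field F] [Fintype F] {m p : ℕ}, p.Prime → p ∣ Fintype.card F → 3 ≤ m →
    Odd (Fintype.card F) → CrossRow p (POmega F (quadFormOdd m F)) (Unit ⊕ (Fin m ⊕ Fin m)) F
  oplus : ∀ {F : Type} [Field F] [Fintype F] {m p : ℕ}, p.Prime → p ∣ Fintype.card F → 4 ≤ m →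
    ¬ (Fintype.card F = 2 ∧ m ≤ 5) → CrossRow p (POmega F (quadFormPlus m F)) (Fin m ⊕ Fin m) F
  ominus : ∀ {F : Type} [Field F] [Fintype F] {m p : ℕ} {a b : F}, p.Prime → p ∣ Fintype.card F → 4 ≤ m →
    (∀ z₁ z₂ : F, z₁ ^ 2 + a * z₁ * z₂ + b * z₂ ^ 2 = 0 → z₁ = 0 ∧ z₂ = 0) →
    ¬ (Fintype.card F = 2 ∧ m = 4) →
    CrossRowM p (POmega F (quadFormMinus (m - 1) F a b)) ((Fin (m - 1) ⊕ Fin (m - 1)) ⊕ Fin 2) F

variable {F : Type} [Field F] [Fintype F]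

theorem exists_char_card : ∃ p : ℕ, p.Prime ∧ p ∣ Fintype.card F := by
  have h : IsPrimePow (Fintype.card F) := Fintype.isPrimePow_card_of_field
  obtain ⟨p, f, hp, hf, h⟩ := (isPrimePow_nat_iff _).1 h
  exact ⟨p, hp, h ▸ dvd_pow_self p hf.ne'⟩

/-- **`PSL_n(q)`.** -/
theorem clT_psl (tab : OrderTable.{0}) (hK : Kn) (hc : CrossRows) {n : ℕ} (hn : 2 ≤ n)
    (h4 : n = 2 → 4 ≤ Fintype.card F) : ClT (Matrix.ProjectiveSpecialLinearGroup (Fin n) F) := by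
  have hfin : Finite (Matrix.ProjectiveSpecialLinearGroup (Fin n) F) := Quotient.finite _
  obtain ⟨p, hp, hpF⟩ := exists_char_card (F := F)
  rcases Nat.lt_or_ge n 4 with h | h
  · have h23 : n = 2 ∨ n = 3 := by omega
    rcases h23 with rfl | rfl
    · exact (H947.El.clMax_psl2 (h4 rfl)).clT
    · exact H304.Psl3.clMaxA.clMax.clT
  · by_cases h1 : Fintype.card F = 2 ∧ (n = 4 ∨ n = 6 ∨ n = 7)
    · obtain ⟨hF, rfl | rfl | rfl⟩ := h1
      · obtain ⟨e⟩ := S0256.result hF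
        exact (Alt.clMax_alt ⟨8, by norm_num, ⟨e⟩⟩).clT
      · exact (H503.El.clMaxA_psl62 tab hK F hF).clMax.clT
      · exact (H503.El.clMaxA_psl72 tab hK F hF).clMax.clT
    · by_cases h2 : Fintype.card F = 4 ∧ n = 4
      · obtain ⟨hF, rfl⟩ := h2
        exact (H503.El.clMaxA_psl44 tab hK F hF).clMax.clT
      · exact (psl_row tab hK hp hpF h h1 h2 (hc.psl hp hpF h h1 h2)).clMax.clT

theorem clT_of_all {T : Type*} [Group T] (h : ∀ R : Subgroup T, R ≠ ⊤ → DerT T R) : ClT T :=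
  fun R hR => .inl (h R hR)

/-- **`PSp_2m(q)`.** -/
theorem clT_psp (tab : OrderTable.{0}) (hK : Kn) (hc : CrossRows) {m : ℕ} (hm : 2 ≤ m)
    (h3 : m = 2 → 3 ≤ Fintype.card F) : ClT (PSp m F) := by
  have hfin : Finite (PSp m F) := Quotient.finite _
  obtain ⟨p, hp, hpF⟩ := exists_char_card (F := F)
  by_cases hodd : Odd (Fintype.card F)
  · exact clT_of_all fun R hR => H262.El.derT_odd hm hodd hR
  rcases Nat.lt_or_ge m 3 with h | h
  · obtain rfl : m = 2 := by omega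
    have h5 := h3 rfl
    have h4 : 4 ≤ Fintype.card F := by
      rw [Nat.not_odd_iff_even] at hodd
      obtain ⟨k, hk⟩ := hodd
      omega
    exact clT_of_all fun R hR => derT_psp_four hodd h4 R hR
  · by_cases h1 : Fintype.card F = 2 ∧ m ≤ 4
    · obtain ⟨hF, hm4⟩ := h1
      have h34 : m = 3 ∨ m = 4 := by omega
      rcases h34 with rfl | rfl
      · exact (H180.LEl.clMaxA_sp62 hF ⟨MulEquiv.refl _⟩).clMax.clT
      · exact (H503.El.clMaxA_sp82 tab hK F hF).clMax.clT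
    · exact clT_of_all fun R hR => psp_row tab hK hp hpF h h1 (hc.psp hp hpF h hodd h1) hR

/-- **`PSU_n(q)`.** -/
theorem clT_psu (tab : OrderTable.{0}) (hK : Kn) (hc : CrossRows) {n q : ℕ} (hF : Fintype.card F = q ^ 2)
    (hn : 3 ≤ n) (h32 : ¬ (n = 3 ∧ q = 2)) (hq : IsPrimePow q) : ClT (PSU n F q) := by
  have hfin : Finite (PSU n F q) := Quotient.finite _
  have hq2 := hq.two_le
  obtain ⟨p, f, hp, hf, hpf⟩ := (isPrimePow_nat_iff _).1 hq
  have hpq : p ∣ q := hpf ▸ dvd_pow_self p hf.ne'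
  rcases Nat.lt_or_ge n 4 with h | h
  · obtain rfl : n = 3 := by omega
    exact (H947.El.clMaxA_psu3 hF (by omega)).clMax.clT
  · by_cases h1 : q = 2 ∧ n ≤ 6
    · obtain ⟨rfl, hn6⟩ := h1
      have h456 : n = 4 ∨ n = 5 ∨ n = 6 := by omega
      rcases h456 with rfl | rfl | rfl
      · exact (H251.Small.clMaxA_u42 tab hK hF).clMax.clT
      · exact (H251.Small.clMaxA_u5 tab hK hF).clMax.clT
      · exact (H251.Small.clMaxA_u6 tab hK hF).clMax.clT
    · by_cases h2 : n = 4 ∧ q = 3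
      · obtain ⟨rfl, rfl⟩ := h2
        exact (H251.Small.clMaxA_u43 tab hK hF).clMax.clT
      · exact clT_of_all fun R hR =>
          (psu_row tab hK hF hp hpq h h1 h2 (hc.psu hF hp hpq h h1 h2) hR).derT

/-- **`Ω_{2m+1}(q)`.** -/
theorem clT_oodd (tab : OrderTable.{0}) (hK : Kn) (hc : CrossRows) {m : ℕ} (hm : 3 ≤ m)
    (hodd : Odd (Fintype.card F)) : ClT (POmega F (quadFormOdd m F)) := by
  obtain ⟨p, hp, hpF⟩ := exists_char_card (F := F)
  exact clT_of_all fun R hR => oodd_row tab hK hp hpF hm hodd (hc.oodd hp hpF hm hodd) hR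

/-- **`PΩ^+_{2m}(q)`.** -/
theorem clT_oplus (tab : OrderTable.{0}) (hK : Kn) (hc : CrossRows) {m : ℕ} (hm : 4 ≤ m) :
    ClT (POmega F (quadFormPlus m F)) := by
  have hfin : Finite (POmega F (quadFormPlus m F)) := Quotient.finite _
  obtain ⟨p, hp, hpF⟩ := exists_char_card (F := F)
  by_cases h1 : Fintype.card F = 2 ∧ m ≤ 5
  · obtain ⟨hF, hm5⟩ := h1
    have h45 : m = 4 ∨ m = 5 := by omega
    rcases h45 with rfl | rfl
    · exact (H503.El.clMax_o8p tab hK F hF).clT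
    · exact (H503.El.clMaxA_o10p tab hK F hF).clMax.clT
  · exact clT_of_all fun R hR => oplus_row tab hK hp hpF hm h1 (hc.oplus hp hpF hm h1) hR

/-- **`PΩ^-_{2m}(q)`.** -/
theorem clT_ominus (tab : OrderTable.{0}) (hK : Kn) (hc : CrossRows) {m : ℕ} (hm : 4 ≤ m) {a b : F}
    (hab : ∀ z₁ z₂ : F, z₁ ^ 2 + a * z₁ * z₂ + b * z₂ ^ 2 = 0 → z₁ = 0 ∧ z₂ = 0) :
    ClT (POmega F (quadFormMinus (m - 1) F a b)) := by
  have hfin : Finite (POmega F (quadFormMinus (m - 1) F a b)) := Quotient.finite _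
  obtain ⟨p, hp, hpF⟩ := exists_char_card (F := F)
  by_cases h1 : Fintype.card F = 2 ∧ m = 4
  · obtain ⟨hF, rfl⟩ := h1
    exact (H503.El.clMaxA_o8m tab hK F hF a b hab).clMax.clT
  · exact clT_of_all fun R hR => (ominus_row tab hK hp hpF hm hab h1 (hc.ominus hp hpF hm hab h1) hR).derT

end Cfsg.Agent.H278.El.Asm
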