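import Cfsg.Agent.H278.ElClassical
import Cfsg.Agent.H884.CxMain

/-!
# TEAM ELUSIVE: the cross characteristic rows
-/

set_option autoImplicit false

namespace Cfsg.Agent.H278.El.Asm

open Cfsg Cfsg.Geo Cfsg.Agent.OrdDiv Cfsg.Agent.H436 Cfsg.Agent.H264.FKS Cfsg.Agent.H915.GN
open Cfsg.Agent.H278.El.SporNum (IsCl exc)
open Cfsg.Agent.H278.El.AltNum (dimOf surv alt_main)
open Cfsg.Agent.H884.Cx (excP cross_row)
open scoped MatrixGroups

theorem charP_of {F : Type} [Field F] [Fintype F] {p : ℕ} (hp : p.Prime) (h : p ∣ Fintype.card F) : CharP F p := by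
  obtain ⟨r, hr⟩ := CharP.exists F
  obtain ⟨n, hrp, hn⟩ := FiniteField.card F r
  rw [hn] at h
  have h1 : p = r := (Nat.prime_dvd_prime_iff_eq hp hrp).1 (hp.dvd_of_dvd_pow h)
  rw [h1]
  exact hr

theorem hasChar_card {F : Type} [Field F] [Fintype F] {p : ℕ} (hp : p.Prime) (h : p ∣ Fintype.card F) :
    ∃ f, Fintype.card F = p ^ f := by
  have := charP_of hp h
  obtain ⟨n, -, hn⟩ := FiniteField.card F p
  exact ⟨n, hn⟩

section

variable {T : Type} [Group T] [Finite T] {gT : Grp} {p : ℕ}

/-- the cross characteristic row, with the exceptional pairs -/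
theorem cross_gen (hp : p.Prime) (hT : IsNamed gT T) (hcl : IsCl gT) (hchT : HasChar p gT)
    {ι : Type} [Fintype ι] [DecidableEq ι] (hi : Fintype.card ι = dimOf gT) {F : Type} [Field F] [Fintype F]
    (hF : p ∣ Fintype.card F) {R : Subgroup T} (S : Subgroup R) (hn : S.Normal) (hs : IsSimpleGroup S)
    (hna : ¬ IsMulCommutative S) (hC : Subgroup.centralizer (S : Set R) = ⊥) {H P : Subgroup (GL ι F)}
    (hP : IsResidualCore H P) (e : Nonempty (S ≃* P ⧸ (scalars ι F).subgroupOf P)) {s : ℕ} {g : Grp} (hsp : s.Prime)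
    (hne : s ≠ p) (hS : IsNamed g S) (hch : HasChar s g) : Miss R ∨ (g, gT) ∈ excP := by
  have := charP_of hp hF
  obtain ⟨e⟩ := e
  exact cross_row hp hT hcl hchT hi S hna hC hP.perfect e hsp hne hS hch

end

/-- the three surviving pairs -/
structure Surv : Prop where
  sz : ∀ {F : Type} [Field F] [Fintype F], Fintype.card F = 3 → ∀ {ι : Type} [Fintype ι] [DecidableEq ι],
    Fintype.card ι ≤ 8 → ∀ {H P : Subgroup (GL ι F)}, IsResidualCore H P → ∀ {S : Type} [Group S] [Finite S],
    (S ≃* P ⧸ (scalars ι F).subgroupOf P) → IsNamed (.sz 8) S → False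
  g2 : ∀ {F : Type} [Field F] [Fintype F], Fintype.card F = 3 → ∀ {R : Subgroup (POmega F (quadFormPlus 4 F))},
    R ≠ ⊤ → ∀ (S : Subgroup R), S.Normal → Subgroup.centralizer (S : Set R) = ⊥ → IsNamed (.g2 4) S → False

/-- **The cross characteristic rows.** -/
theorem crossRows (hs : Surv) : CrossRows where
  psl := by
    intro F _ _ n p hp hpF hn h2 h4 R hR S hSn hSs hna hC H P hP e s g hsp hne hS hch
    have hfin : Finite (Matrix.ProjectiveSpecialLinearGroup (Fin n) F) := Quotient.finite _
    have hT : IsNamed (.psl n (Fintype.card F)) (Matrix.ProjectiveSpecialLinearGroup (Fin n) F) :=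
      named_psl (F := F) (n := n) (by omega) (by omega)
    rcases cross_gen hp hT (show 3 ≤ n by omega) (hasChar_card hp hpF) (Fintype.card_fin n) hpF S hSn hSs hna hC hP e
      hsp hne hS hch with h | h
    · exact h
    · simp only [excP, List.mem_cons, Prod.mk.injEq, Grp.psl.injEq, reduceCtorEq, and_false, false_and, or_false,
        false_or, List.not_mem_nil] at h
      omega
  psp := by
    intro F _ _ m p hp hpF hm hodd h2 R hR S hSn hSs hna hC H P hP e s g hsp hne hS hch
    have hfin : Finite (PSp m F) := Quotient.finite _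
    have hT : IsNamed (.psp m (Fintype.card F)) (PSp m F) := named_psp (F := F) (n := m) (by omega) (by omega)
    rcases cross_gen hp hT trivial (hasChar_card hp hpF) (by
        rw [Fintype.card_sum, Fintype.card_fin]; exact (two_mul m).symm) hpF S hSn hSs hna hC hP e
      hsp hne hS hch with h | h
    · exact (h : Miss R).derT
    · simp only [excP, List.mem_cons, Prod.mk.injEq, Grp.psp.injEq, reduceCtorEq, and_false, false_and, or_false,
        false_or, List.not_mem_nil] at h
      omega
  psu := by
    intro F _ _ n p q hF hp hpq hn h2 h3 R hR S hSn hSs hna hC H P hP e s g hsp hne hS hch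
    have hfin : Finite (PSU n F q) := Quotient.finite _
    have hT : IsNamed (.psu n q) (PSU n F q) := named_psu (F := F) hF (by omega) (by omega)
    have hpF : p ∣ Fintype.card F := hF ▸ (hpq.trans (dvd_pow_self q (by norm_num)))
    obtain ⟨p', f, hp', hf, hpf⟩ := (isPrimePow_nat_iff _).1 hT.cond.2.2
    have hpp : p = p' := by
      rw [← hpf] at hpq
      exact (Nat.prime_dvd_prime_iff_eq hp hp').1 (hp.dvd_of_dvd_pow hpq)
    rcases cross_gen hp hT trivial ⟨f, by rw [hpp, hpf]⟩ (Fintype.card_fin n) hpF S hSn hSs hna hC hP e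
      hsp hne hS hch with h | h
    · exact h
    · simp only [excP, List.mem_cons, Prod.mk.injEq, Grp.psu.injEq, reduceCtorEq, and_false, false_and, or_false,
        false_or, List.not_mem_nil] at h
      omega
  oodd := by
    intro F _ _ m p hp hpF hm hodd R hR S hSn hSs hna hC H P hP e s g hsp hne hS hch
    have hfin : Finite (POmega F (quadFormOdd m F)) := Quotient.finite _
    have hT : IsNamed (.oodd m (Fintype.card F)) (POmega F (quadFormOdd m F)) := named_oodd (F := F) hm hodd
    have hι : Fintype.card (Unit ⊕ (Fin m ⊕ Fin m)) = 2 * m + 1 := by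
      rw [Fintype.card_sum, Fintype.card_sum, Fintype.card_fin, Fintype.card_unit]
      omega
    rcases cross_gen hp hT trivial (hasChar_card hp hpF) hι hpF S hSn hSs hna hC hP e
      hsp hne hS hch with h | h
    · exact (h : Miss R).derT
    · simp only [excP, List.mem_cons, Prod.mk.injEq, Grp.oodd.injEq, reduceCtorEq, and_false, or_false,
        false_or, List.not_mem_nil] at h
      obtain ⟨rfl, rfl, h3⟩ := h
      obtain ⟨e⟩ := e
      exact (hs.sz h3 (by rw [hι]; omega) hP e hS).elim
  oplus := by
    intro F _ _ m p hp hpF hm h2 R hR S hSn hSs hna hC H P hP e s g hsp hne hS hch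
    have hfin : Finite (POmega F (quadFormPlus m F)) := Quotient.finite _
    have hT : IsNamed (.oplus m (Fintype.card F)) (POmega F (quadFormPlus m F)) := named_oplus (F := F) hm
    have hι : Fintype.card (Fin m ⊕ Fin m) = 2 * m := by
      rw [Fintype.card_sum, Fintype.card_fin]; exact (two_mul m).symm
    rcases cross_gen hp hT trivial (hasChar_card hp hpF) hι hpF S hSn hSs hna hC hP e
      hsp hne hS hch with h | h
    · exact (h : Miss R).derT
    · simp only [excP, List.mem_cons, Prod.mk.injEq, Grp.oplus.injEq, reduceCtorEq, and_false, or_false,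
        false_or, List.not_mem_nil] at h
      rcases h with ⟨rfl, rfl, h3⟩ | ⟨rfl, rfl, h3⟩
      · exact (hs.g2 h3 hR S hSn hC hS).elim
      · obtain ⟨e⟩ := e
        exact (hs.sz h3 (by rw [hι]) hP e hS).elim
  ominus := by
    intro F _ _ m p a b hp hpF hm hab h2 R hR S hSn hSs hna hC H P hP e s g hsp hne hS hch
    have hfin : Finite (POmega F (quadFormMinus (m - 1) F a b)) := Quotient.finite _
    have hT : IsNamed (.ominus m (Fintype.card F)) (POmega F (quadFormMinus (m - 1) F a b)) :=
      named_ominus (F := F) hm hab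
    have hι : Fintype.card ((Fin (m - 1) ⊕ Fin (m - 1)) ⊕ Fin 2) = 2 * m := by
      rw [Fintype.card_sum, Fintype.card_sum, Fintype.card_fin, Fintype.card_fin]
      omega
    rcases cross_gen hp hT trivial (hasChar_card hp hpF) hι hpF S hSn hSs hna hC hP e
      hsp hne hS hch with h | h
    · exact h
    · simp only [excP, List.mem_cons, Prod.mk.injEq, reduceCtorEq, and_false, or_false, List.not_mem_nil] at h

end Cfsg.Agent.H278.El.Asm
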