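import Cfsg.Agent.H278.ElWreath

/-!
# Quasiprimitive groups with one class of derangements of prime order: reduction of S3503
-/

set_option autoImplicit false

namespace Cfsg.Agent.H278.El

open Subgroup MulAction Cfsg.Agent.PermutationGroups.OnanScott Cfsg.Agent.Lib.MinNormal

universe u

/-- a finite group all of whose elements of prime order have the same order `p` is a `p`-group;
hence a non-abelian simple group has elements of two different prime orders. -/
theorem exists_two_primes {S : Type*} [Group S] [Finite S] [IsSimpleGroup S]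
    (hna : ∃ a b : S, a * b ≠ b * a) :
    ∃ x y : S, (orderOf x).Prime ∧ (orderOf y).Prime ∧ orderOf x ≠ orderOf y := by
  have h1 : Nat.card S ≠ 1 := by have := Finite.one_lt_card (α := S); omega
  obtain ⟨p, hp, hpd⟩ := Nat.exists_prime_and_dvd h1
  have := Fact.mk hp
  obtain ⟨x, hx⟩ := exists_prime_orderOf_dvd_card' p hpd
  by_contra hcon
  push Not at hcon
  have hpg : IsPGroup p S := by
    rw [IsPGroup.iff_card]
    have h2 : ∀ q : ℕ, q.Prime → q ∣ Nat.card S → q = p := by
      intro q hq hqd
      have := Fact.mk hq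
      obtain ⟨y, hy⟩ := exists_prime_orderOf_dvd_card' q hqd
      have h3 := hcon x y (by rw [hx]; exact hp) (by rw [hy]; exact hq)
      rw [hx, hy] at h3
      exact h3.symm
    exact ⟨_, Nat.eq_prime_pow_of_unique_prime_dvd Nat.card_pos.ne' fun {q} hq hqd => h2 q hq hqd⟩
  have hnt : Nontrivial (Subgroup.center S) := hpg.center_nontrivial
  rcases IsSimpleGroup.eq_bot_or_eq_top_of_normal (Subgroup.center S) inferInstance with h3 | h3
  · rw [h3] at hnt
    exact not_nontrivial _ hnt
  · obtain ⟨a, b, hab⟩ := hna
    have h4 : a ∈ Subgroup.center S := by rw [h3]; trivial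
    exact hab ((Subgroup.mem_center_iff.1 h4 b).symm)

section

variable {G : Type u} {Ω : Type*} [Group G] [Finite G] [MulAction G Ω]

/-- `S3503` from the core theorem. -/
theorem s3503_of
    (hcore : ∀ (T : Type u) [Group T] [Finite T] [IsSimpleGroup T], (∃ a b : T, a * b ≠ b * a) →
      ClT T)
    [Fintype Ω] [FaithfulSMul G Ω] (hΩ : 2 ≤ Fintype.card Ω)
    (hqp : IsQuasiPreprimitive G Ω)
    (hae : Nat.card {c : ConjClasses G // ∃ g : G, ConjClasses.mk g = c ∧ (orderOf g).Prime ∧
      ∀ ω : Ω, g • ω ≠ ω} = 1) :
    (∃ T : Subgroup G, T.Normal ∧ IsSimpleGroup T ∧ ¬ IsMulCommutative T ∧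
      Subgroup.centralizer (T : Set G) = ⊥) ∨
    (IsMultiplyPretransitive G Ω 2 ∧ ∃ N : Subgroup G, N.Normal ∧ N ≠ ⊥ ∧ IsMulCommutative N ∧
      ∀ ω : Ω, stabilizer N ω = ⊥) := by
  have hGt : IsPretransitive G Ω := hqp.toIsPretransitive
  -- the class
  obtain ⟨⟨⟨c0, d, hd, hdp, hdf⟩⟩, huni⟩ :
      Nonempty {c : ConjClasses G // ∃ g : G, ConjClasses.mk g = c ∧ (orderOf g).Prime ∧
        ∀ ω : Ω, g • ω ≠ ω} ∧ Subsingleton {c : ConjClasses G // ∃ g : G,
        ConjClasses.mk g = c ∧ (orderOf g).Prime ∧ ∀ ω : Ω, g • ω ≠ ω} := by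
    rw [Nat.card_eq_one_iff_unique] at hae
    exact ⟨hae.2, hae.1⟩
  have huniq : ∀ x y : G, (orderOf x).Prime → (orderOf y).Prime → (∀ ω : Ω, x • ω ≠ ω) →
      (∀ ω : Ω, y • ω ≠ ω) → IsConj x y := by
    intro x y hx hy hxf hyf
    have h1 := huni.elim ⟨ConjClasses.mk x, x, rfl, hx, hxf⟩ ⟨ConjClasses.mk y, y, rfl, hy, hyf⟩
    exact ConjClasses.mk_eq_mk_iff_isConj.1 (congrArg Subtype.val h1)
  have hntΩ : Nontrivial Ω := Fintype.one_lt_card_iff_nontrivial.1 hΩ
  obtain ⟨ω⟩ : Nonempty Ω := inferInstance
  have hnt : Nontrivial G := by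
    by_contra hcon
    rw [not_nontrivial_iff_subsingleton] at hcon
    rw [Subsingleton.elim d 1, orderOf_one] at hdp
    exact Nat.not_prime_one hdp
  -- normal subgroups are transitive
  have hnormt : ∀ M : Subgroup G, M.Normal → M ≠ ⊥ → IsPretransitive M Ω := by
    intro M hM hM1
    have := hM
    apply hqp.isPretransitive_of_normal
    intro h
    apply hM1
    rw [eq_bot_iff]
    intro x hx
    rw [Subgroup.mem_bot]
    apply FaithfulSMul.eq_of_smul_eq_smul (α := Ω)
    intro a
    have h1 : a ∈ fixedPoints M Ω := by rw [h]; trivial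
    rw [one_smul]
    exact h1 ⟨x, hx⟩
  -- a minimal normal subgroup
  obtain ⟨N, hN, hN1, hmin⟩ : ∃ N : Subgroup G, N.Normal ∧ N ≠ ⊥ ∧
      ∀ K : Subgroup G, K.Normal → K ≤ N → K = ⊥ ∨ K = N := by
    have hne : Nonempty {N : Subgroup G // N.Normal ∧ N ≠ ⊥} :=
      ⟨⟨⊤, inferInstance, top_ne_bot⟩⟩
    obtain ⟨N, hN⟩ := Finite.exists_min (fun N : {N : Subgroup G // N.Normal ∧ N ≠ ⊥} =>
      Nat.card (N : Subgroup G))
    refine ⟨N, N.2.1, N.2.2, fun K hK hKN => ?_⟩
    by_cases hK1 : K = ⊥
    · exact Or.inl hK1
    · right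
      exact Subgroup.eq_of_le_of_card_ge hKN (hN ⟨K, hK, hK1⟩)
  have hNt := hnormt N hN hN1
  by_cases hab : ∀ x ∈ N, ∀ y ∈ N, Commute x y
  · -- the affine case
    right
    have hreg : ∀ n ∈ N, ∀ a : Ω, n • a = a → n = 1 := fun n hn a ha =>
      eq_one_of_commute_of_fix N hNt n (fun n' hn' => (hab n hn n' hn').eq) a ha
    obtain ⟨p, hp, -, hpow⟩ := Cfsg.Agent.Lib.MinNormalNonabelian.abelian_structure N hN1 hmin hab
    have := Fact.mk hp
    have hord : ∀ n ∈ N, n ≠ 1 → (orderOf n).Prime := fun n hn hn1 => by
      rw [orderOf_eq_prime (hpow n hn) hn1]; exact hp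
    refine ⟨?_, N, hN, hN1, ⟨⟨fun a b => Subtype.ext (hab a a.2 b b.2).eq⟩⟩, fun a => ?_⟩
    · rw [is_two_pretransitive_iff]
      intro a b c d' hab' hcd
      obtain ⟨n, hn⟩ := hNt.exists_smul_eq a c
      have hn' : (n : G) • a = c := hn
      obtain ⟨x, hx⟩ := hNt.exists_smul_eq c ((n : G) • b)
      have hx' : (x : G) • c = (n : G) • b := hx
      obtain ⟨y, hy⟩ := hNt.exists_smul_eq c d'
      have hy' : (y : G) • c = d' := hy
      have hx1 : (x : G) ≠ 1 := by
        intro h
        rw [h, one_smul] at hx'
        apply hab'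
        have h2 : (n : G) • a = (n : G) • b := by rw [hn', ← hx']
        exact MulAction.injective (n : G) h2
      have hy1 : (y : G) ≠ 1 := by
        intro h
        rw [h, one_smul] at hy'
        exact hcd hy'
      have hxf : ∀ ω : Ω, (x : G) • ω ≠ ω := fun ω h => hx1 (hreg x x.2 ω h)
      have hyf : ∀ ω : Ω, (y : G) • ω ≠ ω := fun ω h => hy1 (hreg y y.2 ω h)
      obtain ⟨g, hg⟩ := isConj_iff.1 (huniq x y (hord x x.2 hx1) (hord y y.2 hy1) hxf hyf)
      obtain ⟨h, hh, k, hk, hgk⟩ := exists_factor_of_transitive N hNt c g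
      have h1 : h * (x : G) * h⁻¹ = y := by
        rw [← hg, ← hgk]
        have h2 : k * (x : G) * k⁻¹ = x := by
          rw [(hab k hk x x.2).eq, mul_inv_cancel_right]
        have h3 : h * k * (x : G) * (h * k)⁻¹ = h * (k * (x : G) * k⁻¹) * h⁻¹ := by group
        rw [h3, h2]
      refine ⟨h * n, ?_, ?_⟩
      · rw [mul_smul, hn']; exact hh
      · rw [mul_smul, ← hx', ← hy', ← h1]
        rw [mul_smul, mul_smul]
        have h4 : h⁻¹ • c = c := by rw [inv_smul_eq_iff]; exact hh.symm
        rw [h4]
    · rw [eq_bot_iff]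
      intro n hn
      rw [Subgroup.mem_bot]
      exact Subtype.ext (hreg n n.2 a hn)
  · -- the non-abelian case
    left
    obtain ⟨m, T, e, hm, hsimple, hTna, hTinj, hTN, hTn, hconj, htrans, he, hcoord⟩ :=
      exists_coordinates N hmin hab
    have hclT : ∀ i, ClT (T i) := fun i => by
      have := hsimple i
      exact hcore (T i) (hTna i)
    have hHN := exists_factor_of_transitive N hNt ω
    set H := stabilizer G ω with hHdef
    -- derangements
    have hder : ∀ x : G, (∀ g : G, g * x * g⁻¹ ∉ H) → ∀ a : Ω, x • a ≠ a := by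
      intro x hx a ha
      obtain ⟨g, rfl⟩ := hGt.exists_smul_eq ω a
      refine hx g⁻¹ ?_
      rw [hHdef, mem_stabilizer_iff, inv_inv, mul_smul, mul_smul, ha, inv_smul_smul]
    -- not all elements of prime order of `T i` are derangements
    have htwo : ∀ i, ¬ ∀ t : T i, (orderOf t).Prime → ∀ a : Ω, (t : G) • a ≠ a := by
      intro i h
      have := hsimple i
      obtain ⟨x, y, hx, hy, hxy⟩ := exists_two_primes (hTna i)
      have h1 := huniq x y (by rw [Subgroup.orderOf_coe]; exact hx)
        (by rw [Subgroup.orderOf_coe]; exact hy) (h x hx) (h y hy)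
      apply hxy
      obtain ⟨c, hc⟩ := isConj_iff.1 h1
      have h2 : orderOf (MulAut.conj c (x : G)) = orderOf (x : G) :=
        orderOf_injective (MulAut.conj c).toMonoidHom (MulAut.conj c).injective (x : G)
      rw [← Subgroup.orderOf_coe x, ← Subgroup.orderOf_coe y, ← hc]
      exact h2.symm
    have hNH : ¬ N ≤ H := by
      intro hle
      apply hN1
      rw [eq_bot_iff]
      intro n hn
      rw [Subgroup.mem_bot]
      apply FaithfulSMul.eq_of_smul_eq_smul (α := Ω)
      intro a
      obtain ⟨g, rfl⟩ := hGt.exists_smul_eq ω a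
      have h1 : g⁻¹ * n * g ∈ N := by
        have := hN.conj_mem n hn g⁻¹
        rwa [inv_inv] at this
      have h2 := hle h1
      rw [hHdef, mem_stabilizer_iff, mul_smul, mul_smul, inv_smul_eq_iff] at h2
      rw [one_smul, h2]
    -- `R_i = 1` is impossible
    have hRbot : ∀ i, H.subgroupOf (T i) ≠ ⊥ := by
      intro i hi
      apply htwo i
      intro t ht
      apply hder
      intro g hg
      obtain ⟨s, hs⟩ := exists_conj_factor e he H hHN i t ⟨g, hg⟩
      rw [hi, Subgroup.mem_bot] at hs
      have h1 : t = 1 := by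
        have h2 : t = s⁻¹ * (s * t * s⁻¹) * s := by group
        rw [h2, hs]; group
      rw [h1, orderOf_one] at ht
      exact Nat.not_prime_one ht
    have hRtop : ∀ i, H.subgroupOf (T i) ≠ ⊤ := by
      intro i hi
      apply hNH
      apply le_of_factors e he
      intro j
      obtain ⟨g, hg⟩ := htrans i j
      obtain ⟨h, hh, n, hn, rfl⟩ := hHN g
      have h1 : (T i).map (MulAut.conj n).toMonoidHom = T i :=
        mem_normalizer_iff_map_conj_eq.mp (hTn i hn)
      have hj : T j = (T i).map (MulAut.conj h).toMonoidHom := by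
        rw [hg, ← map_conj_map_conj, h1]
      rw [Subgroup.subgroupOf_eq_top] at hi
      rw [hj]
      rintro _ ⟨t, ht, rfl⟩
      exact H.mul_mem (H.mul_mem hh (hi ht)) (H.inv_mem hh)
    -- the centraliser of `N`
    have hCN : centralizer (N : Set G) = ⊥ := by
      by_contra hC
      have hCt := hnormt (centralizer (N : Set G)) inferInstance hC
      apply htwo ⟨0, hm⟩
      intro t ht a ha
      have h1 := eq_one_of_commute_of_fix (centralizer (N : Set G)) hCt (t : G)
        (fun n hn => (Subgroup.mem_centralizer_iff.1 hn (t : G) (hTN _ t.2))) a ha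
      have h2 : t = 1 := Subtype.ext h1
      rw [h2, orderOf_one] at ht
      exact Nat.not_prime_one ht
    by_cases hm1 : m = 1
    · subst hm1
      have hN0 : N = T 0 := by
        apply le_antisymm
        · apply le_of_factors e he
          intro i
          rw [Subsingleton.elim i 0]
        · exact hTN 0
      refine ⟨N, hN, by rw [hN0]; exact hsimple 0, ?_, hCN⟩
      intro hcom
      apply hab
      intro x hx y hy
      exact congrArg Subtype.val (hcom.is_comm.comm (⟨x, hx⟩ : N) ⟨y, hy⟩)
    exfalso
    -- the projections are proper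
    have hPtop : ∀ i, proj e H i ≠ ⊤ := by
      intro i hi
      have hs := hsimple i
      have hnorm : (H.subgroupOf (T i)).Normal := ⟨fun t ht s =>
        proj_le_normalizer e he H i s (by rw [hi]; trivial) t ht⟩
      rcases IsSimpleGroup.eq_bot_or_eq_top_of_normal _ hnorm with h1 | h1
      · exact hRbot i h1
      · exact hRtop i h1
    -- the projections meet all classes
    have hPmeet : ∀ i, ¬ DerT (T i) (proj e H i) := by
      rintro i ⟨t, ht, hn⟩
      obtain ⟨j, hj⟩ : ∃ j : Fin m, j ≠ i := by
        by_contra hcon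
        push Not at hcon
        apply hm1
        have h1 : Nat.card (Fin m) = 1 := Nat.card_eq_one_iff_unique.2
          ⟨⟨fun a b => (hcon a).trans (hcon b).symm⟩, ⟨i⟩⟩
        simpa using h1
      obtain ⟨g, hg⟩ := htrans i j
      have ht' : g * (t : G) * g⁻¹ ∈ T j := by rw [hg]; exact ⟨t, t.2, rfl⟩
      set t' : T j := ⟨_, ht'⟩ with ht'def
      have hp := ht
      have := Fact.mk ht
      set p := orderOf t with hpdef
      have ht'p : t' ^ p = 1 := by
        apply Subtype.ext
        push_cast
        rw [ht'def]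
        change (g * (t : G) * g⁻¹) ^ p = 1
        rw [conj_pow, ← Subgroup.coe_pow, hpdef, pow_orderOf_eq_one]
        simp
      let y : N := e.symm (Pi.mulSingle i t * Pi.mulSingle j t')
      have hyi : e y i = t := by
        change e (e.symm _) i = t
        rw [e.apply_symm_apply, Pi.mul_apply, Pi.mulSingle_eq_same,
          Pi.mulSingle_eq_of_ne hj.symm, mul_one]
      have hyj : e y j = t' := by
        change e (e.symm _) j = t'
        rw [e.apply_symm_apply, Pi.mul_apply, Pi.mulSingle_eq_same,
          Pi.mulSingle_eq_of_ne hj, one_mul]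
      have ht1 : t ≠ 1 := by
        intro h
        rw [hpdef, h, orderOf_one] at hp
        exact Nat.not_prime_one hp
      have ht'1 : t' ≠ 1 := by
        intro h
        apply ht1
        have h1 : g * (t : G) * g⁻¹ = 1 := congrArg Subtype.val h
        apply Subtype.ext
        have h2 : (t : G) = g⁻¹ * (g * (t : G) * g⁻¹) * g := by group
        rw [h2, h1]; simp
      have hyp : y ^ p = 1 := by
        apply e.injective
        rw [map_pow, map_one]
        funext l
        rw [Pi.pow_apply]
        by_cases hli : l = i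
        · subst hli
          rw [hyi, hpdef, pow_orderOf_eq_one]; rfl
        · by_cases hlj : l = j
          · subst hlj
            rw [hyj, ht'p]; rfl
          · have : e y l = 1 := by
              change e (e.symm _) l = 1
              rw [e.apply_symm_apply, Pi.mul_apply, Pi.mulSingle_eq_of_ne hli,
                Pi.mulSingle_eq_of_ne hlj, one_mul]
            rw [this, one_pow]; rfl
      have hy1 : y ≠ 1 := by
        intro h
        apply ht1
        rw [← hyi, h, map_one]; rfl
      have hyord : orderOf y = p := orderOf_eq_prime hyp hy1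
      -- both are derangements
      have hxd : ∀ a : Ω, (t : G) • a ≠ a := by
        apply hder
        intro c hc
        obtain ⟨s, hs⟩ := exists_conj_factor e he H hHN i t ⟨c, hc⟩
        exact hn s (subgroupOf_le_proj e he H i hs)
      have hyd : ∀ a : Ω, (y : G) • a ≠ a := by
        apply hder
        intro c hc
        obtain ⟨h, hh, n, hnN, rfl⟩ := hHN c
        have h1 : n * (y : G) * n⁻¹ ∈ H := by
          have h2 := H.mul_mem (H.mul_mem (H.inv_mem hh) hc) hh
          have h3 : h⁻¹ * (h * n * (y : G) * (h * n)⁻¹) * h = n * y * n⁻¹ := by group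
          rwa [h3] at h2
        refine hn (e ⟨n, hnN⟩ i) ?_
        rw [mem_proj]
        refine ⟨⟨n, hnN⟩ * y * ⟨n, hnN⟩⁻¹, h1, ?_⟩
        rw [map_mul, map_mul, map_inv, Pi.mul_apply, Pi.mul_apply, Pi.inv_apply, hyi]
      have hcj := huniq (t : G) (y : G) (by rw [Subgroup.orderOf_coe]; exact hp)
        (by rw [Subgroup.orderOf_coe, hyord]; exact hp) hxd hyd
      obtain ⟨c, hc⟩ := isConj_iff.1 hcj
      obtain ⟨k, hk⟩ := hconj c i
      have hyk : (y : G) ∈ T k := by
        rw [hk, ← hc]; exact ⟨t, t.2, rfl⟩
      have hy2 : y = e.symm (Pi.mulSingle k ⟨_, hyk⟩) := by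
        apply Subtype.ext
        rw [he]
      have hyl : ∀ l, l ≠ k → e y l = 1 := by
        intro l hl
        rw [hy2, e.apply_symm_apply, Pi.mulSingle_eq_of_ne hl]
      by_cases hik : i = k
      · have h1 := hyl j (by rw [← hik]; exact hj)
        rw [hyj] at h1
        exact ht'1 h1
      · have h1 := hyl i hik
        rw [hyi] at h1
        exact ht1 h1
    have hpair : ∀ i, M11Pair (T i) (proj e H i) := fun i =>
      (hclT i _ (hPtop i)).resolve_left (hPmeet i)
    -- the projection equals the intersection
    have hPR : ∀ i, proj e H i = H.subgroupOf (T i) := by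
      intro i
      have hs : IsSimpleGroup (proj e H i) := (hpair i).2.2
      have hle := subgroupOf_le_proj e he H i
      have hnorm : ((H.subgroupOf (T i)).subgroupOf (proj e H i)).Normal :=
        ⟨fun t ht s => proj_le_normalizer e he H i s s.2 t ht⟩
      rcases IsSimpleGroup.eq_bot_or_eq_top_of_normal _ hnorm with h1 | h1
      · exfalso
        apply hRbot i
        rw [eq_bot_iff]
        intro t ht
        have h2 : (⟨t, hle ht⟩ : proj e H i) ∈
            (H.subgroupOf (T i)).subgroupOf (proj e H i) := ht
        rw [h1, Subgroup.mem_bot] at h2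
        exact congrArg Subtype.val h2
      · rw [Subgroup.subgroupOf_eq_top] at h1
        exact le_antisymm h1 hle
    have hprod : ∀ n : N, (n : G) ∈ H ↔ ∀ i, e n i ∈ H.subgroupOf (T i) := by
      intro n
      constructor
      · intro hn i
        rw [← hPR i]
        exact (mem_proj e H i _).2 ⟨n, hn, rfl⟩
      · exact fun h => mem_of_coords e he H n h
    have hfinT : ∀ i, Finite (T i) := fun i => inferInstance
    -- every element of prime order fixes a point
    obtain ⟨g, hg⟩ := exists_conj_of_product e he hTN hTn hconj H hHN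
      (fun i φ => Cfsg.Agent.UGT.End.MEleven.inner (hpair i).1 φ)
      (fun i s hs => by
        have := hsimple i
        have h1 : s ∈ Subgroup.center (T i) := Subgroup.mem_center_iff.2 fun t => (hs t).symm
        rcases IsSimpleGroup.eq_bot_or_eq_top_of_normal (Subgroup.center (T i)) inferInstance
          with h2 | h2
        · rw [h2, Subgroup.mem_bot] at h1
          exact h1
        · exfalso
          obtain ⟨a, b, hab'⟩ := hTna i
          have h4 : a ∈ Subgroup.center (T i) := by rw [h2]; trivial
          exact hab' ((Subgroup.mem_center_iff.1 h4 b).symm))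
      (fun i s hs => by
        -- the normaliser
        have hsi := hsimple i
        have hpi := hpair i
        rw [hPR i] at hpi
        have hNe : normalizer ((H.subgroupOf (T i) : Subgroup (T i)) : Set (T i)) ≠ ⊤ := by
          intro h
          have hnorm : (H.subgroupOf (T i)).Normal := Subgroup.normalizer_eq_top_iff.1 h
          rcases IsSimpleGroup.eq_bot_or_eq_top_of_normal _ hnorm with h1 | h1
          · exact hRbot i h1
          · exact hRtop i h1
        have hle : H.subgroupOf (T i) ≤
            normalizer ((H.subgroupOf (T i) : Subgroup (T i)) : Set (T i)) := le_normalizer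
        have hnd : ¬ DerT (T i)
            (normalizer ((H.subgroupOf (T i) : Subgroup (T i)) : Set (T i))) := by
          intro h
          have h1 := h.mono hle
          rw [← hPR i] at h1
          exact hPmeet i h1
        have hp2 := (hclT i _ hNe).resolve_left hnd
        have heq : H.subgroupOf (T i) =
            normalizer ((H.subgroupOf (T i) : Subgroup (T i)) : Set (T i)) := by
          apply Subgroup.eq_of_le_of_card_ge hle
          rw [hp2.2.1, hpi.2.1]
        have h5 : s ∈ normalizer ((H.subgroupOf (T i) : Subgroup (T i)) : Set (T i)) := by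
          rw [mem_normalizer_iff_map_conj_eq]
          apply Subgroup.eq_of_le_of_card_ge
          · rintro _ ⟨t, ht, rfl⟩
            exact hs t ht
          · exact (Nat.card_congr ((H.subgroupOf (T i)).equivMapOfInjective
              (MulAut.conj s).toMonoidHom (MulAut.conj s).injective).toEquiv).le
        rw [heq]
        exact h5)
      hprod
      (fun i t ht => by
        have h1 := exists_conj_of_not_derT (hPmeet i) t ht
        rwa [hPR i] at h1)
      d hdp
    refine hdf (g • ω) ?_
    rw [hHdef, mem_stabilizer_iff, mul_smul, mul_smul, inv_smul_eq_iff] at hg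
    exact hg

end

end Cfsg.Agent.H278.El
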