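import Cfsg.Agent.H278.ElMin
import Cfsg.Agent.UGT.End.MEleven

/-!
# Elusive groups with a transitive minimal normal subgroup: reduction of S3552 to the core
-/

set_option autoImplicit false

namespace Cfsg.Agent.H278.El

open Subgroup MulAction Cfsg.Agent.PermutationGroups.OnanScott

universe u

section

variable {G : Type u} {Ω : Type*} [Group G] [Finite G] [MulAction G Ω]

omit [Finite G] in
/-- factorisation `G = G_ω N` for a transitive normal subgroup -/
theorem exists_factor_of_transitive (N : Subgroup G) (hNt : IsPretransitive N Ω) (ω : Ω) (g : G) :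
    ∃ h ∈ stabilizer G ω, ∃ n ∈ N, h * n = g := by
  obtain ⟨n, hn⟩ := hNt.exists_smul_eq ω (g⁻¹ • ω)
  refine ⟨g * n, ?_, (n : G)⁻¹, N.inv_mem n.2, by group⟩
  rw [mem_stabilizer_iff, mul_smul]
  change g • (n • ω) = ω
  rw [hn, smul_inv_smul]

omit [Finite G] in
/-- an element commuting with a transitive subgroup and fixing a point is trivial -/
theorem eq_one_of_commute_of_fix [FaithfulSMul G Ω] (N : Subgroup G)
    (hNt : IsPretransitive N Ω) (x : G) (hx : ∀ n ∈ N, x * n = n * x) (ω : Ω) (hω : x • ω = ω) :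
    x = 1 := by
  apply FaithfulSMul.eq_of_smul_eq_smul (α := Ω)
  intro a
  obtain ⟨n, rfl⟩ := hNt.exists_smul_eq ω a
  change x • ((n : G) • ω) = (1 : G) • (n : G) • ω
  rw [one_smul, ← mul_smul, hx n n.2, mul_smul, hω]

theorem exists_prime_order_of_ne_bot {X : Type*} [Group X] [Finite X] (M : Subgroup X)
    (hM : M ≠ ⊥) : ∃ x ∈ M, (orderOf x).Prime := by
  obtain ⟨p, hp, hpd⟩ := Nat.exists_prime_and_dvd (n := Nat.card M)
    (by rw [Ne, Subgroup.card_eq_one]; exact hM)
  have := Fact.mk hp
  obtain ⟨x, hx⟩ := exists_prime_orderOf_dvd_card' p hpd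
  exact ⟨x, x.2, by rw [Subgroup.orderOf_coe, hx]; exact hp⟩

/-- `S3552` from the core theorem. -/
theorem s3552_of
    (hcore : ∀ (T : Type u) [Group T] [Finite T] [IsSimpleGroup T], (∃ a b : T, a * b ≠ b * a) →
      ClT T)
    [FaithfulSMul G Ω] [Finite Ω]
    (helus : ∀ g : G, (orderOf g).Prime → ∃ ω : Ω, g • ω = ω)
    (N : Subgroup G) (hN : N.Normal) (hN1 : N ≠ ⊥)
    (hmin : ∀ M : Subgroup G, M.Normal → M ≤ N → M = ⊥ ∨ M = N)
    (hNt : IsPretransitive N Ω) :
    (∀ M : Subgroup G, M.Normal → M ≠ ⊥ → N ≤ M) ∧ IsPreprimitive G Ω ∧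
    ∃ k : ℕ, 1 ≤ k ∧ Nat.card Ω = 12 ^ k ∧
      ∃ (S : Type) (_ : Group S), IsSimpleGroup S ∧ Nat.card S = 7920 ∧
        Nonempty (↥N ≃* (Fin k → S)) := by
  have hGt : IsPretransitive G Ω :=
    ⟨fun a b => by
      obtain ⟨n, hn⟩ := hNt.exists_smul_eq a b
      exact ⟨n, hn⟩⟩
  -- nonempty
  obtain ⟨x0, hx0, hx0p⟩ := exists_prime_order_of_ne_bot N hN1
  obtain ⟨ω, -⟩ := helus x0 hx0p
  -- uniqueness
  have huniq : ∀ M : Subgroup G, M.Normal → M ≠ ⊥ → N ≤ M := by
    intro M hM hM1
    rcases hmin (M ⊓ N) inferInstance inf_le_right with h | h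
    · exfalso
      obtain ⟨x, hx, hxp⟩ := exists_prime_order_of_ne_bot M hM1
      obtain ⟨a, ha⟩ := helus x hxp
      have hcomm : ∀ n ∈ N, x * n = n * x := by
        intro n hn
        exact (Subgroup.commute_of_normal_of_disjoint M N hM hN
          (disjoint_iff.2 h) x n hx hn).eq
      have h1 := eq_one_of_commute_of_fix N hNt x hcomm a ha
      rw [h1, orderOf_one] at hxp
      exact Nat.not_prime_one hxp
    · exact inf_eq_right.1 h
  -- nonabelian
  have hna : ¬ ∀ x ∈ N, ∀ y ∈ N, Commute x y := by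
    intro hab
    obtain ⟨a, ha⟩ := helus x0 hx0p
    have h1 := eq_one_of_commute_of_fix N hNt x0 (fun n hn => (hab x0 hx0 n hn).eq) a ha
    rw [h1, orderOf_one] at hx0p
    exact Nat.not_prime_one hx0p
  obtain ⟨m, T, e, hm, hsimple, hTna, hTinj, hTN, hTn, hconj, htrans, he, hcoord⟩ :=
    exists_coordinates N hmin hna
  have hclT : ∀ i, ClT (T i) := fun i => by
    have := hsimple i
    exact hcore (T i) (hTna i)
  -- general facts on subgroups containing the stabiliser
  have key : ∀ K : Subgroup G, stabilizer G ω ≤ K → ¬ N ≤ K →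
      (∀ i, M11Pair (T i) (K.subgroupOf (T i))) ∧
      ∀ n : N, (n : G) ∈ K ↔ ∀ i, e n i ∈ K.subgroupOf (T i) := by
    intro K hK hNK
    refine structure_of_core e he hsimple hclT K ?_ hNK ?_ ?_
    · intro g
      obtain ⟨h, hh, n, hn, hg⟩ := exists_factor_of_transitive N hNt ω g
      exact ⟨h, hK hh, n, hn, hg⟩
    · intro i j
      obtain ⟨g, hg⟩ := htrans i j
      obtain ⟨h, hh, n, hn, rfl⟩ := exists_factor_of_transitive N hNt ω g
      refine ⟨h, hK hh, ?_⟩
      have h1 : (T i).map (MulAut.conj n).toMonoidHom = T i :=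
        mem_normalizer_iff_map_conj_eq.mp (hTn i hn)
      rw [hg]
      conv_rhs => rw [← h1]
      rw [Subgroup.map_map]
      congr 1
      ext x
      simp [mul_assoc]
    · intro i t ht
      obtain ⟨a, ha⟩ := helus (t : G) (by rw [Subgroup.orderOf_coe]; exact ht)
      obtain ⟨g, rfl⟩ := hGt.exists_smul_eq ω a
      refine ⟨g⁻¹, hK ?_⟩
      rw [mem_stabilizer_iff, inv_inv, mul_smul, mul_smul, ha, inv_smul_smul]
  have hNstab : ¬ N ≤ stabilizer G ω := by
    intro hle
    apply hN1
    rw [eq_bot_iff]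
    intro n hn
    rw [Subgroup.mem_bot]
    apply FaithfulSMul.eq_of_smul_eq_smul (α := Ω)
    intro a
    obtain ⟨g, rfl⟩ := hGt.exists_smul_eq ω a
    have h1 : g⁻¹ * n * g ∈ N := by
      have := hN.conj_mem n hn g⁻¹
      rwa [inv_inv] at this
    have h2 := hle h1
    rw [mem_stabilizer_iff, mul_smul, mul_smul, inv_smul_eq_iff] at h2
    rw [one_smul, h2]
  obtain ⟨hpair, hmem⟩ := key _ le_rfl hNstab
  have hntΩ : Nontrivial Ω := by
    by_contra hcon
    rw [not_nontrivial_iff_subsingleton] at hcon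
    apply hNstab
    intro n _
    rw [mem_stabilizer_iff]
    exact Subsingleton.elim _ _
  refine ⟨huniq, ?_, m, hm, ?_, ?_⟩
  · rw [← isCoatom_stabilizer_iff_preprimitive G ω]
    refine ⟨fun h => hNstab (by rw [h]; exact le_top), fun K hK => ?_⟩
    by_contra hKtop
    have hNK : ¬ N ≤ K := by
      intro hle
      apply hKtop
      rw [eq_top_iff]
      intro g _
      obtain ⟨h, hh, n, hn, rfl⟩ := exists_factor_of_transitive N hNt ω g
      exact K.mul_mem (hK.le hh) (hle hn)
    obtain ⟨hpK, hmK⟩ := key K hK.le hNK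
    have heq : ∀ i, (stabilizer G ω).subgroupOf (T i) = K.subgroupOf (T i) := by
      intro i
      have hfin : Finite (K.subgroupOf (T i)) :=
        Nat.finite_of_card_ne_zero (by rw [(hpK i).2.1]; norm_num)
      apply Subgroup.eq_of_le_of_card_ge
      · exact Subgroup.comap_mono hK.le
      · rw [(hpK i).2.1, (hpair i).2.1]
    apply hK.ne
    apply le_antisymm hK.le
    intro k hk
    obtain ⟨h, hh, n, hn, rfl⟩ := exists_factor_of_transitive N hNt ω k
    refine Subgroup.mul_mem _ hh ?_
    have h1 : n ∈ K := by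
      have h2 := K.mul_mem (K.inv_mem (hK.le hh)) hk
      rwa [inv_mul_cancel_left] at h2
    refine (hmem ⟨n, hn⟩).2 ?_
    intro i
    rw [heq i]
    exact (hmK ⟨n, hn⟩).1 h1 i
  · -- the degree
    have h1 : (stabilizer N ω).index = Nat.card Ω := index_stabilizer_of_transitive N ω
    have h2 : stabilizer N ω = (Subgroup.pi Set.univ
        (fun i => (stabilizer G ω).subgroupOf (T i))).comap e.toMonoidHom := by
      ext n
      rw [Subgroup.mem_comap, Subgroup.mem_pi]
      have h3 := hmem n
      constructor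
      · intro hn i _
        exact h3.1 hn i
      · intro hn
        exact h3.2 fun i => hn i trivial
    have hcN : Nat.card N = 7920 ^ m := by
      rw [Nat.card_congr e.toEquiv, Nat.card_pi]
      rw [Finset.prod_congr rfl fun i _ => (Cfsg.Agent.UGT.End.MEleven.isM11 (hpair i).1).2]
      simp
    have hcS : Nat.card (stabilizer N ω) = 660 ^ m := by
      rw [h2]
      have f : (Subgroup.pi Set.univ
        (fun i => (stabilizer G ω).subgroupOf (T i))).comap e.toMonoidHom ≃
          ∀ i, (stabilizer G ω).subgroupOf (T i) :=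
        { toFun := fun x i => ⟨e x.1 i, x.2 i trivial⟩
          invFun := fun y => ⟨e.symm fun i => (y i).1, by
            rw [Subgroup.mem_comap, Subgroup.mem_pi]
            intro i _
            change e (e.symm _) i ∈ _
            rw [e.apply_symm_apply]
            exact (y i).2⟩
          left_inv := fun x => by
            apply Subtype.ext
            apply e.injective
            rw [e.apply_symm_apply]
          right_inv := fun y => by
            funext i
            apply Subtype.ext
            change e (e.symm _) i = _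
            rw [e.apply_symm_apply] }
      rw [Nat.card_congr f, Nat.card_pi]
      rw [Finset.prod_congr rfl fun i _ => (hpair i).2.1]
      simp
    have h4 := Subgroup.card_mul_index (stabilizer N ω)
    rw [hcS, hcN, h1] at h4
    have h5 : (7920 : ℕ) ^ m = 660 ^ m * 12 ^ m := by rw [← mul_pow]; norm_num
    rw [h5] at h4
    exact Nat.eq_of_mul_eq_mul_left (by positivity) h4
  · have h0 := (hpair ⟨0, hm⟩).1
    have hM := Cfsg.Agent.UGT.End.MEleven.isM11 (X := Cfsg.Spor.M11) ⟨MulEquiv.refl _⟩
    refine ⟨Cfsg.Spor.M11, inferInstance, hM.1, hM.2, ?_⟩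
    have f : ∀ i, T i ≃* Cfsg.Spor.M11 := fun i => (hpair i).1.some
    exact ⟨e.trans (MulEquiv.piCongrRight f)⟩

end

end Cfsg.Agent.H278.El
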