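import Cfsg.Agent.H278.ElFks
import Cfsg.Agent.H180.KM11

/-!
# TEAM ELUSIVE: derangements of prime power order from derangements of prime order
-/

set_option autoImplicit false

namespace Cfsg.Agent.H278.El

/-- `M11` contains an element of order `8`, a group of order `660` does not -/
theorem ClT.derPP {T : Type*} [Group T] [Finite T] (h : ClT T) {R : Subgroup T} (hR : R ≠ ⊤) : DerPP T R := by
  rcases h R hR with h1 | ⟨h1, h2, -⟩
  · exact h1.derPP
  · obtain ⟨x, hx⟩ := Cfsg.Agent.H180.KM11.exists_eight h1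
    refine ⟨x, ⟨2, 3, Nat.prime_two, by rw [hx]; norm_num⟩, fun g hg => ?_⟩
    have h3 : orderOf (g * x * g⁻¹) = 8 := by
      rw [← hx]
      exact orderOf_injective (MulAut.conj g).toMonoidHom (MulAut.conj g).injective x
    have h4 : orderOf (⟨g * x * g⁻¹, hg⟩ : R) = 8 := by
      rw [← h3]
      exact Subgroup.orderOf_mk _ _
    have h5 := orderOf_dvd_natCard (⟨g * x * g⁻¹, hg⟩ : R)
    rw [h4, h2] at h5
    exact absurd h5 (by norm_num)

end Cfsg.Agent.H278.El
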