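import Cfsg.Agent.H278.ElCore
import Cfsg.Agent.H278.ElPP
import Cfsg.Agent.H278.El3552
import Cfsg.Agent.H278.El3503

/-!
# TEAM ELUSIVE: the final statements from the core
-/

set_option autoImplicit false

namespace Cfsg.Agent.H278.El

universe u v

/-- the core in universe `u` -/
def CoreStmt : Prop :=
  ∀ (T : Type u) [Group T] [Finite T] [IsSimpleGroup T], (∃ a b : T, a * b ≠ b * a) → ClT T

/-- **Fein-Kantor-Schacher.** -/
theorem s3388_of (hcore : CoreStmt.{u}) {G : Type u} [Group G] [Finite G] {Ω : Type v} [MulAction G Ω]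
    (ht : MulAction.IsPretransitive G Ω) (hΩ : 1 < Nat.card Ω) :
    ∃ (p k : ℕ) (g : G), p.Prime ∧ 1 ≤ k ∧ orderOf g = p ^ k ∧ ∀ ω : Ω, g • ω ≠ ω :=
  fks_of_simple (fun T _ _ _ hna _ hR => (hcore T hna).derPP hR) ht hΩ

end Cfsg.Agent.H278.El
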