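import Cfsg.Agent.H278.ElCrossRows
import Cfsg.Agent.H768.El.SzRes
import Cfsg.Agent.H262.ElG24Main
import Cfsg.Agent.S0296

/-!
# TEAM ELUSIVE: the two surviving cross characteristic pairs
-/

set_option autoImplicit false

namespace Cfsg.Agent.H278.El.Asm

open Cfsg Cfsg.Lie Cfsg.Agent.OrdDiv Cfsg.Agent.H436

theorem oplus43_not_comm {T : Type} [Group T] [Finite T] (hs : IsSimpleGroup T) (hT : IsNamed (.oplus 4 3) T) :
    ¬ IsMulCommutative T := by
  intro hc
  have h1 : den (.oplus 4 3) = 4 := by decide +kernel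
  have h2 : num (.oplus 4 3) = 4 * 4952179814400 := by decide +kernel
  have h3 := hT.eq
  rw [h1, h2] at h3
  have h4 : Nat.card T = 4952179814400 := by omega
  let : CommGroup T := { (inferInstance : Group T) with mul_comm := hc.is_comm.comm }
  have h5 : (Nat.card T).Prime := IsSimpleGroup.prime_card
  rw [h4] at h5
  exact absurd h5 (by norm_num)

theorem survAll : Surv where
  sz hF _ _ _ hi _ _ h _ _ _ e hS := H768.El.sz_res hF hi h e hS
  g2 := by
    intro F _ _ hF R hR S hSn hC hS
    have hfin : Finite (POmega F (quadFormPlus 4 F)) := Quotient.finite _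
    have hT : IsNamed (.oplus 4 3) (POmega F (quadFormPlus 4 F)) := by
      have h := H264.FKS.named_oplus (F := F) (n := 4) (by norm_num)
      rwa [hF] at h
    have hs : IsSimpleGroup (POmega F (quadFormPlus 4 F)) := S0296.result 4 le_rfl
    exact H262.ElSurv.no_g24 hs (oplus43_not_comm hs hT) hT hR S hS

end Cfsg.Agent.H278.El.Asm
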