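import Mathlib
import Cfsg.Agent.H278.MinSection
import Cfsg.Agent.H278.OrbitIndep
import Cfsg.Agent.H278.ThompsonSurj

/-!
# Abelian subgroups of largest order act trivially on abelian `K / Q` for `p ≥ 5`
-/

set_option autoImplicit false

namespace Cfsg.Agent.H278.AbelianOffender

open Subgroup
open scoped commutatorElement

universe u

/-- The module `B / M`. -/
theorem exists_module {G : Type u} [Group G] [Finite G] {p : ℕ} [hp : Fact p.Prime]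
    (B M : Subgroup G) [hBn : B.Normal] [hMn : M.Normal]
    (hab : ∀ x ∈ B, ∀ y ∈ B, ⁅x, y⁆ ∈ M) (hpow : ∀ x ∈ B, x ^ p ∈ M) :
    ∃ (Γ : Type u) (_ : Group Γ) (_ : Finite Γ) (W : Type u) (_ : AddCommGroup W)
      (_ : Module (ZMod p) W) (_ : Finite W) (_ : DistribMulAction Γ W)
      (φ : G →* Γ) (cl : B → W),
      (∀ x y : B, cl (x * y) = cl x + cl y) ∧ Function.Surjective cl ∧
      (∀ x : B, cl x = 0 ↔ (x : G) ∈ M) ∧
      (∀ (g : G) (x : B), φ g • (cl x) = cl ⟨g * x * g⁻¹, hBn.conj_mem x x.2 g⟩) ∧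
      (∀ g : G, (∀ b ∈ B, ⁅g, b⁆ ∈ M) → φ g = 1) := by
  obtain ⟨M', hM'⟩ : ∃ M' : Subgroup B, M' = M.subgroupOf B := ⟨_, rfl⟩
  have hM'n : M'.Normal := by rw [hM']; infer_instance
  have hmem : ∀ x : B, x ∈ M' ↔ (x : G) ∈ M := fun x => by rw [hM']; exact Iff.rfl
  let X := B ⧸ M'
  let cX : CommGroup X := { (inferInstance : Group (B ⧸ M')) with
    mul_comm := fun a b => by
      obtain ⟨x, rfl⟩ := QuotientGroup.mk'_surjective M' a
      obtain ⟨y, rfl⟩ := QuotientGroup.mk'_surjective M' b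
      change (QuotientGroup.mk' M' x) * (QuotientGroup.mk' M' y) =
        (QuotientGroup.mk' M' y) * (QuotientGroup.mk' M' x)
      rw [← map_mul, ← map_mul]
      refine (QuotientGroup.eq (s := M') (a := x * y) (b := y * x)).mpr ?_
      rw [hmem]
      have h1 := hab (y : G)⁻¹ (inv_mem y.2) (x : G)⁻¹ (inv_mem x.2)
      have e : ((((x * y)⁻¹ * (y * x) : B)) : G) = ⁅(y : G)⁻¹, (x : G)⁻¹⁆ := by
        rw [commutatorElement_def]
        simp only [Subgroup.coe_mul, Subgroup.coe_inv]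
        group
      rw [e]; exact h1 }
  let W := Additive X
  let cl : B → W := fun x => Additive.ofMul ((QuotientGroup.mk' M' x : B ⧸ M') : X)
  have hcls : Function.Surjective cl := by
    intro w
    obtain ⟨x, hx⟩ := QuotientGroup.mk'_surjective M' (Additive.toMul w)
    exact ⟨x, hx⟩
  have hcl : ∀ x y : B, cl (x * y) = cl x + cl y := fun x y => rfl
  have hcl0 : ∀ x : B, cl x = 0 ↔ (x : G) ∈ M := by
    intro x
    rw [← hmem, ← QuotientGroup.eq_one_iff]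
    rfl
  have hclp : ∀ (n : ℕ) (x : B), n • cl x = cl (x ^ n) := by
    intro n x
    induction n with
    | zero =>
      rw [zero_nsmul, pow_zero]
      exact ((hcl0 1).mpr (one_mem M)).symm
    | succ n ih => rw [succ_nsmul, ih, pow_succ, hcl]
  let hmod : Module (ZMod p) W := AddCommGroup.zmodModule (n := p) (fun w => by
    obtain ⟨x, rfl⟩ := hcls w
    rw [hclp]
    exact (hcl0 _).mpr (hpow x x.2))
  -- the action
  have hconj : ∀ g : G, M'.map ((MulAut.conjNormal g : MulAut B) : B →* B) = M' := by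
    intro g
    ext x
    constructor
    · rintro ⟨y, hy, rfl⟩
      rw [hmem]
      exact hMn.conj_mem y ((hmem y).mp hy) g
    · intro hx
      refine ⟨(MulAut.conjNormal g)⁻¹ x, ?_, ?_⟩
      · rw [SetLike.mem_coe, hmem, MulAut.conjNormal_inv_apply]
        have := hMn.conj_mem x ((hmem x).mp hx) g⁻¹
        rwa [inv_inv] at this
      · exact (MulAut.conjNormal g : MulAut B).apply_symm_apply x
  let ψ : G → MulAut X := fun g => QuotientGroup.congr M' M' (MulAut.conjNormal g) (hconj g)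
  have hψ : ∀ (g : G) (x : B), ψ g (QuotientGroup.mk' M' x) =
      QuotientGroup.mk' M' ⟨g * x * g⁻¹, hBn.conj_mem x x.2 g⟩ := by
    intro g x
    rfl
  let φ : G →* MulAut X :=
    { toFun := ψ
      map_one' := by
        ext x
        obtain ⟨y, rfl⟩ := QuotientGroup.mk'_surjective M' x
        rw [hψ]
        change _ = QuotientGroup.mk' M' y
        congr 1
        apply Subtype.ext
        simp
      map_mul' := fun g h => by
        ext x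
        obtain ⟨y, rfl⟩ := QuotientGroup.mk'_surjective M' x
        rw [hψ, MulAut.mul_apply, hψ, hψ]
        congr 1
        apply Subtype.ext
        simp only [mul_inv_rev, mul_assoc] }
  let act : DistribMulAction (MulAut X) W :=
    { smul := fun f w => Additive.ofMul (f (Additive.toMul w))
      one_smul := fun w => rfl
      mul_smul := fun f g w => rfl
      smul_zero := fun f => by
        change Additive.ofMul (f 1) = Additive.ofMul 1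
        rw [map_one]
      smul_add := fun f w w' => by
        change Additive.ofMul (f (Additive.toMul w * Additive.toMul w')) = _
        rw [map_mul]
        rfl }
  refine ⟨MulAut X, inferInstance, inferInstance, W, inferInstance, hmod, ?_, act, φ, cl, hcl, hcls,
    hcl0, fun g x => rfl, ?_⟩
  · exact (inferInstance : Finite (B ⧸ M'))
  · intro g hg
    ext x
    obtain ⟨y, rfl⟩ := QuotientGroup.mk'_surjective M' x
    change ψ g (QuotientGroup.mk' M' y) = QuotientGroup.mk' M' y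
    rw [hψ]
    refine ((QuotientGroup.eq (s := M')).mpr ?_).symm
    rw [hmem]
    have h1 := hg (y : G) y.2
    have h2 := hMn.conj_mem _ h1 (y : G)⁻¹
    have e : ((y⁻¹ * ⟨g * y * g⁻¹, hBn.conj_mem y y.2 g⟩ : B) : G) =
      (y : G)⁻¹ * ⁅g, (y : G)⁆ * (y : G)⁻¹⁻¹ := by
      rw [commutatorElement_def]
      simp only [Subgroup.coe_mul, Subgroup.coe_inv]
      group
    rw [e]; exact h2

theorem offender_step {G : Type u} [Group G] [Finite G] {p : ℕ} [hpf : Fact p.Prime] (hp : 5 ≤ p)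
    (Q K A : Subgroup G) [hQn : Q.Normal] [hKn : K.Normal] (hQ : IsPGroup p Q)
    (hKc : ∀ s ∈ K, ∀ t ∈ K, ⁅s, t⁆ ∈ Q) (hKi : (Q.relIndex K).Coprime p)
    (hC : K ⊓ centralizer (Q : Set G) ≤ Q) (hAp : IsPGroup p A)
    (hAc : ∀ a ∈ A, ∀ b ∈ A, a * b = b * a)
    (hmax : ∀ D : Subgroup G, D ≤ Q ⊔ A → (∀ x ∈ D, ∀ y ∈ D, x * y = y * x) →
      Nat.card D ≤ Nat.card A)
    (hKA : K ≤ ⁅K, A⁆ ⊔ Q) : K ≤ Q := by
  classical
  by_contra hKQ
  obtain ⟨B, M, hBn, hMn, hBQ, hMB, hBM, hBB, hBMc, hpow, hQB, ⟨L, hKL, hLM⟩, hfixM⟩ :=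
    MinSection.exists_BM Q K hQ hKi hC hKQ
  obtain ⟨Γ, _, _, W, _, _, _, _, φ, cl, hcl, hcls, hcl0, hφ, hφ1⟩ :=
    exists_module (p := p) B M hBB hpow
  have hcli : ∀ x : B, cl x⁻¹ = - cl x := by
    intro x
    have h1 := hcl x x⁻¹
    rw [mul_inv_cancel] at h1
    have h2 : cl 1 = 0 := (hcl0 1).mpr (one_mem M)
    rw [h2] at h1
    exact (neg_eq_of_add_eq_zero_right h1.symm).symm
  have hcleq : ∀ x y : B, cl x = cl y ↔ (x : G) * (y : G)⁻¹ ∈ M := by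
    intro x y
    rw [← sub_eq_zero, sub_eq_add_neg, ← hcli, ← hcl, hcl0]
    rfl
  have hφQ : ∀ q ∈ Q, φ q = 1 := fun q hq => hφ1 q (hQB q hq)
  -- `K̂` and `Â`
  have hAK : A.map φ ≤ normalizer ((K.map φ : Subgroup Γ) : Set Γ) := by
    have h1 := Subgroup.le_normalizer_map (H := K) φ
    rw [Subgroup.normalizer_eq_top_iff.mpr hKn] at h1
    exact (map_mono le_top).trans h1
  have hKcomm : ∀ x ∈ K.map φ, ∀ y ∈ K.map φ, x * y = y * x := by
    rintro _ ⟨s, hs, rfl⟩ _ ⟨t, ht, rfl⟩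
    have h1 := hφQ _ (hKc s hs t ht)
    rw [commutatorElement_def, map_mul, map_mul, map_mul, map_inv, map_inv] at h1
    rw [mul_inv_eq_one, mul_inv_eq_iff_eq_mul] at h1
    exact h1
  have hcopK : ¬ p ∣ Nat.card (K.map φ) := by
    intro hdvd
    obtain ⟨x, hx⟩ := exists_prime_orderOf_dvd_card' p hdvd
    obtain ⟨k, hk, hkx⟩ := x.2
    have h1 : k ^ (Q.relIndex K) ∈ Q := Subgroup.pow_index_mem (H := Q.subgroupOf K) (⟨k, hk⟩ : K)
    have h2 : x ^ (Q.relIndex K) = 1 := by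
      apply Subtype.ext
      rw [Subgroup.coe_pow, ← hkx, ← map_pow, hφQ _ h1, Subgroup.coe_one]
    have h3 : p ∣ Q.relIndex K := by
      rw [← hx]; exact orderOf_dvd_of_pow_eq_one h2
    have h4 := Nat.dvd_gcd h3 dvd_rfl
    rw [hKi] at h4
    exact hpf.out.one_lt.ne' (Nat.dvd_one.mp h4)
  have hcop : (Nat.card (A.map φ)).Coprime (Nat.card (K.map φ)) := by
    obtain ⟨n, hn⟩ := IsPGroup.iff_card.mp (hAp.map φ)
    rw [hn]
    exact Nat.Coprime.pow_left n ((Nat.Prime.coprime_iff_not_dvd hpf.out).mpr hcopK)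
  have hKle : K.map φ ≤ ⁅K.map φ, A.map φ⁆ := by
    have h1 := map_mono (f := φ) hKA
    rw [Subgroup.map_sup, Subgroup.map_commutator] at h1
    refine h1.trans (sup_le le_rfl ?_)
    rintro _ ⟨q, hq, rfl⟩
    rw [hφQ q hq]; exact one_mem _
  have hfix : ∀ k ∈ K.map φ, (∀ a ∈ A.map φ, a * k = k * a) → k = 1 := by
    intro k hk hka
    have h1 := Lib.CoprimeAbelian.inf_commutator_eq_bot (A.map φ) (K.map φ) hKcomm hAK hcop
    have h2 : k ∈ (K.map φ ⊓ centralizer ((A.map φ : Subgroup Γ) : Set Γ)) ⊓ ⁅K.map φ, A.map φ⁆ :=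
      ⟨⟨hk, mem_centralizer_iff.mpr hka⟩, hKle hk⟩
    rw [h1] at h2
    exact Subgroup.mem_bot.mp h2
  have hW : ∀ w : W, (∀ k ∈ K.map φ, k • w = w) → w = 0 := by
    intro w hw
    obtain ⟨b, rfl⟩ := hcls w
    rw [hcl0]
    apply hfixM b b.2
    intro k hk
    have h1 := hw (φ k) ⟨k, hk, rfl⟩
    rw [hφ, hcleq] at h1
    exact h1
  -- a fixed vector of `A`
  obtain ⟨v, hv, hAv⟩ : ∃ v : W, v ≠ 0 ∧ ∀ a ∈ A.map φ, a • v = v := by
    have hnt : Nontrivial W := by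
      obtain ⟨b, hb, hbM⟩ := SetLike.not_le_iff_exists.mp hBM
      exact ⟨cl ⟨b, hb⟩, 0, fun h => hbM ((hcl0 _).mp h)⟩
    have hcard : p ∣ Nat.card W := by
      rw [Module.natCard_eq_pow_finrank (K := ZMod p), Nat.card_zmod]
      exact dvd_pow_self p (Module.finrank_pos (R := ZMod p) (M := W)).ne'
    obtain ⟨v, hv, hne⟩ := (hAp.map φ).exists_fixed_point_of_prime_dvd_card_of_fixed_point W hcard
      (a := 0) (fun a => smul_zero (a : Γ))
    exact ⟨v, hne.symm, fun a ha => hv ⟨a, ha⟩⟩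
  obtain ⟨_, ⟨k, hk, rfl⟩, _, ⟨a₀, ha₀, rfl⟩, hgood⟩ := OrbitIndep.exists_good (p := p) hp
    (K.map φ) (A.map φ) hAK (hAp.map φ) hfix hW v hv hAv
  -- the element `y`
  obtain ⟨⟨y₀, hy₀⟩, hy₀v⟩ := hcls v
  have hcj : ∀ g : G, ∀ b ∈ B, g * b * g⁻¹ ∈ B := fun g b hb => hBn.conj_mem b hb g
  obtain ⟨Y, hY⟩ : ∃ Y : G → G, ∀ s, Y s = (s * y₀ * s⁻¹) * (s⁻¹ * y₀ * s) := ⟨_, fun _ => rfl⟩
  have hcj' : ∀ s, s⁻¹ * y₀ * s ∈ B := by
    intro s
    have := hcj s⁻¹ y₀ hy₀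
    rwa [inv_inv] at this
  have hYB : ∀ s, Y s ∈ B := fun s => by rw [hY]; exact mul_mem (hcj s y₀ hy₀) (hcj' s)
  obtain ⟨y, hy⟩ : ∃ y, y = Y k := ⟨_, rfl⟩
  have hyB : y ∈ B := by rw [hy]; exact hYB k
  have hcly : cl ⟨y, hyB⟩ = φ k • v + (φ k)⁻¹ • v := by
    rw [← hy₀v, ← map_inv, hφ, hφ, ← hcl]
    congr 1
    apply Subtype.ext
    change y = k * y₀ * k⁻¹ * (k⁻¹ * y₀ * k⁻¹⁻¹)
    rw [hy, hY, inv_inv]
  have hYY : ∀ s ∈ K, ∀ t ∈ K, Commute (Y s) (Y t) := by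
    intro s hs t ht
    rw [hY, hY]
    exact MinSection.iso_comm hMB hBB hBMc hQB hKL hLM hKc hy₀ hs ht
  have hconjY : ∀ a ∈ A, ∃ m ∈ M, a * y * a⁻¹ = m * Y (a * k * a⁻¹) := by
    intro a ha
    have h1 : a * y₀ * a⁻¹ * y₀⁻¹ ∈ M := by
      have h2 := hAv (φ a) ⟨a, ha, rfl⟩
      rw [← hy₀v, hφ, hcleq] at h2
      exact h2
    obtain ⟨m, hm⟩ : ∃ m, m = a * y₀ * a⁻¹ * y₀⁻¹ := ⟨_, rfl⟩
    rw [← hm] at h1
    have h3 : a * y₀ * a⁻¹ = m * y₀ := by rw [hm]; group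
    obtain ⟨s, hs⟩ : ∃ s, s = a * k * a⁻¹ := ⟨_, rfl⟩
    have h4 : a * y * a⁻¹ = (s * m * s⁻¹) * (s * y₀ * s⁻¹) * ((s⁻¹ * m * s) * (s⁻¹ * y₀ * s)) := by
      have e : a * y * a⁻¹ = (s * (a * y₀ * a⁻¹) * s⁻¹) * (s⁻¹ * (a * y₀ * a⁻¹) * s) := by
        rw [hy, hY, hs]; group
      rw [e, h3]; group
    have h5 : s * m * s⁻¹ ∈ M := hMn.conj_mem m h1 s
    have h6 : s⁻¹ * m * s ∈ M := by
      have := hMn.conj_mem m h1 s⁻¹
      rwa [inv_inv] at this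
    refine ⟨(s * m * s⁻¹) * (s⁻¹ * m * s), mul_mem h5 h6, ?_⟩
    rw [h4, hY, ← hs]
    have h7 := hBMc _ (hcj s y₀ hy₀) _ h6
    calc (s * m * s⁻¹) * (s * y₀ * s⁻¹) * ((s⁻¹ * m * s) * (s⁻¹ * y₀ * s))
        = (s * m * s⁻¹) * ((s * y₀ * s⁻¹) * (s⁻¹ * m * s)) * (s⁻¹ * y₀ * s) := by
          simp only [mul_assoc]
      _ = _ := by rw [h7]; simp only [mul_assoc]
  have hXX : ∀ a ∈ A, ∀ b ∈ A, Commute (a * y * a⁻¹) (b * y * b⁻¹) := by
    intro a ha b hb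
    obtain ⟨m, hm, h1⟩ := hconjY a ha
    obtain ⟨m', hm', h2⟩ := hconjY b hb
    rw [h1, h2]
    have hkK : ∀ a, a * k * a⁻¹ ∈ K := fun a => hKn.conj_mem k hk a
    have c1 : Commute m m' := (hBMc m (hMB hm) m' hm')
    have c2 : Commute m (Y (b * k * b⁻¹)) := (hBMc _ (hYB _) m hm).symm
    have c3 : Commute (Y (a * k * a⁻¹)) m' := hBMc _ (hYB _) m' hm'
    have c4 := hYY _ (hkK a) _ (hkK b)
    exact (c1.mul_right c2).mul_left (c3.mul_right c4)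
  -- the subgroup `V`
  obtain ⟨V, hV⟩ : ∃ V, V = closure {x : G | ∃ a ∈ A, x = a * y * a⁻¹ * y⁻¹} := ⟨_, rfl⟩
  have hVQ : V ≤ Q := by
    rw [hV, closure_le]
    rintro _ ⟨a, ha, rfl⟩
    exact hBQ (mul_mem (hcj a y hyB) (inv_mem hyB))
  have hVc : ∀ x ∈ V, ∀ z ∈ V, x * z = z * x := by
    rw [hV]
    apply ThompsonSurj.comm_closure
    rintro _ ⟨a, ha, rfl⟩ _ ⟨b, hb, rfl⟩
    have h1 : Commute (a * y * a⁻¹) y := by
      have := hXX a ha 1 (one_mem A)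
      simpa using this
    have h2 : Commute (b * y * b⁻¹) y := by
      have := hXX b hb 1 (one_mem A)
      simpa using this
    have h3 := hXX a ha b hb
    exact ((h3.mul_right h1.inv_right).mul_left
      ((h2.symm.mul_right ((Commute.refl y).inv_right)).inv_left))
  have hδ : ∀ a ∈ A, a * y * a⁻¹ * y⁻¹ ∈ B := fun a ha => mul_mem (hcj a y hyB) (inv_mem hyB)
  obtain ⟨a, ha, z, hz, hzA, hzeq⟩ := ThompsonSurj.exists_eq hAc hmax hV hVQ hVc
    ((a₀ * y * a₀⁻¹ * y⁻¹) * (a₀ * y * a₀⁻¹ * y⁻¹)) (by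
      have : a₀ * y * a₀⁻¹ * y⁻¹ ∈ V := by rw [hV]; exact Subgroup.subset_closure ⟨a₀, ha₀, rfl⟩
      exact mul_mem this this)
  have hzB : z ∈ B := by
    have h1 : z = (a * y * a⁻¹ * y⁻¹)⁻¹ * ((a₀ * y * a₀⁻¹ * y⁻¹) * (a₀ * y * a₀⁻¹ * y⁻¹)) := by
      rw [hzeq]; group
    rw [h1]
    exact mul_mem (inv_mem (hδ a ha)) (mul_mem (hδ a₀ ha₀) (hδ a₀ ha₀))
  have hclδ : ∀ (a : G) (ha : a ∈ A), cl ⟨a * y * a⁻¹ * y⁻¹, hδ a ha⟩ =
      φ a • cl ⟨y, hyB⟩ - cl ⟨y, hyB⟩ := by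
    intro a ha
    rw [hφ, sub_eq_add_neg, ← hcli, ← hcl]
    rfl
  have h1 : cl ⟨a₀ * y * a₀⁻¹ * y⁻¹, hδ a₀ ha₀⟩ + cl ⟨a₀ * y * a₀⁻¹ * y⁻¹, hδ a₀ ha₀⟩ =
      cl ⟨a * y * a⁻¹ * y⁻¹, hδ a ha⟩ + cl ⟨z, hzB⟩ := by
    rw [← hcl, ← hcl]
    congr 1
    exact Subtype.ext hzeq
  rw [hclδ a₀ ha₀, hclδ a ha] at h1
  obtain ⟨_, ⟨b, hb, rfl⟩, hne⟩ := hgood (φ a) ⟨a, ha, rfl⟩
  apply hne
  rw [← hcly]
  have h2 : φ a₀ • cl ⟨y, hyB⟩ + φ a₀ • cl ⟨y, hyB⟩ - φ a • cl ⟨y, hyB⟩ - cl ⟨y, hyB⟩ =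
      cl ⟨z, hzB⟩ := by
    rw [eq_comm, ← sub_eq_zero]
    have h3 : cl ⟨z, hzB⟩ = (φ a₀ • cl ⟨y, hyB⟩ - cl ⟨y, hyB⟩) + (φ a₀ • cl ⟨y, hyB⟩ - cl ⟨y, hyB⟩)
        - (φ a • cl ⟨y, hyB⟩ - cl ⟨y, hyB⟩) := by
      rw [h1]; abel
    rw [h3]; abel
  rw [h2, hφ]
  congr 1
  apply Subtype.ext
  change b * z * b⁻¹ = z
  rw [hzA b hb]; group

end Cfsg.Agent.H278.AbelianOffender
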