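import Mathlib
import Cfsg.Prelude.Def_Transfer
import Cfsg.Agent.Transfer.NormalPComplement
import Cfsg.Agent.Transfer.FusionCases

/-!
# The automizer of a self-centralizing subgroup of a Sylow subgroup

`hnc_normalizer_iff`: let `K ≤ S`, `S` a Sylow `p`-subgroup of `G` with `S ≤ N_G(K)` and
`C_S(K) ≤ K`. Then `N_G(K)` has a normal `p`-complement iff every element of `N_G(K)` of order prime to
`p` centralizes `K`.
-/

set_option autoImplicit false

namespace Cfsg.Agent.H278.Automizer

open Subgroup Cfsg
open Cfsg.Agent.Transfer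
open Cfsg.Agent.Transfer.FusionBasic

variable {G : Type*} [Group G]

/-- In a group with a normal `p`-complement, elements of order prime to `p` centralize every normal
`p`-subgroup. -/
theorem commute_of_hnc [Finite G] {p : ℕ} [Fact p.Prime] (h : HasNormalPComplement p G)
    (K : Subgroup G) [K.Normal] (hK : IsPGroup p K) {g : G} (hg : (orderOf g).Coprime p) {k : G}
    (hk : k ∈ K) : g * k = k * g := by
  obtain ⟨N, hN, h1, h2⟩ := NormalPComplement.hasNormalPComplement_iff.mp h
  have hgN : g ∈ N := (NormalPComplement.mem_iff_coprime_orderOf' N h1 h2 g).mpr hg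
  have h3 : g * k * g⁻¹ * k⁻¹ ∈ K :=
    mul_mem (Normal.conj_mem inferInstance k hk g) (inv_mem hk)
  have h4 : g * k * g⁻¹ * k⁻¹ ∈ N := by
    have := mul_mem hgN (hN.conj_mem _ (inv_mem hgN) k)
    have e : g * (k * g⁻¹ * k⁻¹) = g * k * g⁻¹ * k⁻¹ := by group
    rwa [e] at this
  have h5 := eq_one_of_mem_of_coprime hK h1 h3 h4
  have h6 : g * k * g⁻¹ = k := by
    rw [mul_inv_eq_one] at h5; exact h5
  rw [mul_inv_eq_iff_eq_mul] at h6
  exact h6

open scoped IsMulCommutative in
/-- A finite group with a central Sylow `p`-subgroup has a normal `p`-complement. -/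
theorem hnc_of_central_sylow {C : Type*} [Group C] [Finite C] {p : ℕ} [Fact p.Prime] (T : Sylow p C)
    (hT : (T : Subgroup C) ≤ center C) : HasNormalPComplement p C := by
  have hTn : (T : Subgroup C).Normal := ⟨fun t ht c => by
    have := (Subgroup.mem_center_iff.mp (hT ht)) c
    rw [this, mul_inv_cancel_right]; exact ht⟩
  obtain ⟨n, hn⟩ : ∃ n, n = (T : Subgroup C).index := ⟨_, rfl⟩
  have hmul : ∀ x y : C, (x * y) ^ n = x ^ n * y ^ n := by
    rw [hn]; exact FusionCases.mul_pow_index_of_central (T : Subgroup C) hT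
  have hncop : n.Coprime p := by
    rw [hn]
    exact ((Nat.Prime.coprime_iff_not_dvd Fact.out).mpr T.not_dvd_index).symm
  let f : C →* C := { toFun := fun x => x ^ n, map_one' := one_pow n, map_mul' := hmul }
  have hf : ∀ x, f x ∈ (T : Subgroup C) := by
    intro x
    change x ^ n ∈ (T : Subgroup C)
    rw [hn]
    exact Subgroup.pow_index_mem _ x
  have hker : f.ker.Normal := inferInstance
  refine NormalPComplement.hasNormalPComplement_iff.mpr ⟨f.ker, hker, ?_, ?_⟩
  · refine ((Nat.Prime.coprime_iff_not_dvd Fact.out).mpr ?_).symm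
    intro hdvd
    obtain ⟨x, hx⟩ := exists_prime_orderOf_dvd_card' p hdvd
    have h1 : (x : C) ^ n = 1 := x.2
    have h2 : orderOf (x : C) = p := by rw [Subgroup.orderOf_coe]; exact hx
    have h3 : p ∣ n := by rw [← h2]; exact orderOf_dvd_of_pow_eq_one h1
    have h4 : p ∣ 1 := by
      have := Nat.dvd_gcd h3 (dvd_refl p)
      rwa [hncop] at this
    exact (Fact.out : p.Prime).one_lt.ne' (Nat.dvd_one.mp h4)
  · have hr : IsPGroup p f.range := by
      refine T.isPGroup'.to_le ?_
      rintro _ ⟨x, rfl⟩
      exact hf x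
    exact hr.of_equiv (QuotientGroup.quotientKerEquivRange f).symm

/-- Extensions: a normal subgroup with a normal `p`-complement and `p`-power index. -/
theorem hnc_of_isPGroup_quotient [Finite G] {p : ℕ} [Fact p.Prime] (C : Subgroup G) [C.Normal]
    (hC : HasNormalPComplement p C) (hq : IsPGroup p (G ⧸ C)) : HasNormalPComplement p G := by
  rw [NormalPComplement.hasNormalPComplement_iff_coprime] at hC ⊢
  have h1 : pResidual p G ≤ C := by
    have := NormalPComplement.pResidual_le_ker hq (QuotientGroup.mk' C)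
    rwa [QuotientGroup.ker_mk'] at this
  have h2 : pResidual p G ≤ (pResidual p C).map C.subtype := by
    rw [pResidual, closure_le]
    intro g hg
    have hgC : g ∈ C := h1 (subset_closure hg)
    refine ⟨⟨g, hgC⟩, subset_closure ?_, rfl⟩
    change Nat.Coprime (orderOf (⟨g, hgC⟩ : C)) p
    rw [← Subgroup.orderOf_coe]
    exact hg
  have h3 : Nat.card ((pResidual p C).map C.subtype) = Nat.card (pResidual p C) :=
    (Nat.card_congr ((pResidual p C).equivMapOfInjective _ C.subtype_injective).toEquiv).symm
  have h4 := Subgroup.card_dvd_of_le h2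
  rw [h3] at h4
  exact Nat.Coprime.coprime_dvd_left h4 hC

theorem normalizer_le_normalizer_centralizer (K : Subgroup G) :
    normalizer (K : Set G) ≤ normalizer ((centralizer (K : Set G) : Subgroup G) : Set G) := by
  have key : ∀ g ∈ normalizer (K : Set G), ∀ c ∈ centralizer (K : Set G),
      g * c * g⁻¹ ∈ centralizer (K : Set G) := by
    intro g hg c hc
    rw [Subgroup.mem_centralizer_iff] at hc ⊢
    intro k hk
    have h1 : g⁻¹ * k * g ∈ K := (Subgroup.mem_normalizer_iff''.mp hg k).mp hk
    have h2 := hc _ h1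
    calc k * (g * c * g⁻¹) = g * (g⁻¹ * k * g * c) * g⁻¹ := by group
      _ = g * (c * (g⁻¹ * k * g)) * g⁻¹ := by rw [h2]
      _ = g * c * g⁻¹ * k := by group
  intro g hg
  rw [Subgroup.mem_normalizer_iff]
  intro c
  refine ⟨key g hg c, fun h => ?_⟩
  have := key g⁻¹ (inv_mem hg) _ h
  have e : g⁻¹ * (g * c * g⁻¹) * g⁻¹⁻¹ = c := by group
  rwa [e] at this

theorem hnc_normalizer_of_automizer [Finite G] {p : ℕ} [Fact p.Prime] (S : Sylow p G)
    (K : Subgroup G) (hSK : (S : Subgroup G) ≤ normalizer (K : Set G))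
    (hC : (S : Subgroup G) ⊓ centralizer (K : Set G) ≤ K)
    (h : ∀ g ∈ normalizer (K : Set G), (orderOf g).Coprime p → g ∈ centralizer (K : Set G)) :
    HasNormalPComplement p (normalizer (K : Set G)) := by
  -- the centralizer, as a subgroup of the normalizer
  have hle : centralizer (K : Set G) ≤ normalizer (K : Set G) :=
    Subgroup.centralizer_le_normalizer (K : Set G)
  let C : Subgroup (normalizer (K : Set G)) := (centralizer (K : Set G)).subgroupOf _
  have hCn : C.Normal := by
    refine (normal_subgroupOf_iff_le_normalizer hle).mpr ?_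
    exact normalizer_le_normalizer_centralizer K
  have hS : SylIn p (S : Subgroup G) (normalizer (K : Set G)) :=
    ⟨hSK, S.isPGroup', fun R hR _ hRp => S.is_maximal' hRp hR⟩
  have hSC : SylIn p ((S : Subgroup G) ⊓ centralizer (K : Set G)) (centralizer (K : Set G)) :=
    hS.inf hle (normalizer_le_normalizer_centralizer K)
  obtain ⟨T, hT⟩ := hSC.exists_sylow
  have hTc : (T : Subgroup (centralizer (K : Set G))) ≤ center (centralizer (K : Set G)) := by
    intro t ht
    have h1 : (t : G) ∈ (S : Subgroup G) ⊓ centralizer (K : Set G) := by rw [← hT]; exact ⟨t, ht, rfl⟩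
    rw [Subgroup.mem_center_iff]
    intro c
    exact Subtype.ext ((Subgroup.mem_centralizer_iff.mp c.2) _ (hC h1)).symm
  have h1 : HasNormalPComplement p (centralizer (K : Set G)) := hnc_of_central_sylow T hTc
  have h2 : HasNormalPComplement p C :=
    (NormalPComplement.congr (Subgroup.subgroupOfEquivOfLe hle)).mpr h1
  refine hnc_of_isPGroup_quotient C h2 ?_
  refine NormalPComplement.isPGroup_quotient_of_coprime_mem C fun g hg => ?_
  rw [mem_subgroupOf]
  apply h g g.2
  rwa [Subgroup.orderOf_coe]

theorem hnc_normalizer_iff [Finite G] {p : ℕ} [Fact p.Prime] (S : Sylow p G)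
    (K : Subgroup G) (hKS : K ≤ (S : Subgroup G)) (hSK : (S : Subgroup G) ≤ normalizer (K : Set G))
    (hC : (S : Subgroup G) ⊓ centralizer (K : Set G) ≤ K) :
    HasNormalPComplement p (normalizer (K : Set G)) ↔
      ∀ g ∈ normalizer (K : Set G), (orderOf g).Coprime p → g ∈ centralizer (K : Set G) := by
  refine ⟨fun h g hg hgp => ?_, hnc_normalizer_of_automizer S K hSK hC⟩
  have hKn : (K.subgroupOf (normalizer (K : Set G))).Normal := inferInstance
  have hKp : IsPGroup p (K.subgroupOf (normalizer (K : Set G))) :=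
    (S.isPGroup'.to_le hKS).comap_of_injective _ (Subgroup.subtype_injective _)
  rw [Subgroup.mem_centralizer_iff]
  intro k hk
  have h1 := commute_of_hnc h (K.subgroupOf (normalizer (K : Set G))) hKp
    (g := ⟨g, hg⟩) (by rw [← Subgroup.orderOf_coe]; exact hgp)
    (k := ⟨k, le_normalizer hk⟩) (by rw [mem_subgroupOf]; exact hk)
  exact (congrArg Subtype.val h1).symm

end Cfsg.Agent.H278.Automizer
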