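import Cfsg.Agent.H278.ElAsm
import Cfsg.Agent.H304.L62
import Cfsg.Agent.H304.PslRes
import Cfsg.Agent.H264.FKS.SpFour
import Cfsg.Agent.H264.FKS.ResCore
import Cfsg.Agent.H251.GeoUMain
import Cfsg.Agent.H884.ElFin
import Cfsg.Agent.H884.ElO8

/-!
# TEAM ELUSIVE: the classical families from the geometric rows, the residual rows and the cross characteristic row
-/

set_option autoImplicit false

namespace Cfsg.Agent.H278.El.Asm

open Cfsg Cfsg.Geo Cfsg.Agent.OrdDiv Cfsg.Agent.H436 Cfsg.Agent.H264.FKS Cfsg.Agent.H915.GN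
open Cfsg.Agent.H278.El.SporNum (IsCl exc)
open Cfsg.Agent.H278.El.AltNum (dimOf surv alt_main)
open scoped MatrixGroups

/-- the cross characteristic row -/
def CrossRow (p : ℕ) (T : Type) [Group T] (ι : Type) [Fintype ι] [DecidableEq ι] (F : Type) [Field F] : Prop :=
  ∀ R : Subgroup T, R ≠ ⊤ → ∀ S : Subgroup R, S.Normal → IsSimpleGroup S → ¬ IsMulCommutative S →
    Subgroup.centralizer (S : Set R) = ⊥ → ∀ H P : Subgroup (GL ι F), IsResidualCore H P →
    Nonempty (S ≃* P ⧸ (scalars ι F).subgroupOf P) → ∀ s g, s.Prime → s ≠ p → IsNamed g S → HasChar s g → DerT T R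

/-- the cross characteristic row with a missing prime -/
def CrossRowM (p : ℕ) (T : Type) [Group T] (ι : Type) [Fintype ι] [DecidableEq ι] (F : Type) [Field F] : Prop :=
  ∀ R : Subgroup T, R ≠ ⊤ → ∀ S : Subgroup R, S.Normal → IsSimpleGroup S → ¬ IsMulCommutative S →
    Subgroup.centralizer (S : Set R) = ⊥ → ∀ H P : Subgroup (GL ι F), IsResidualCore H P →
    Nonempty (S ≃* P ⧸ (scalars ι F).subgroupOf P) → ∀ s g, s.Prime → s ≠ p → IsNamed g S → HasChar s g → Miss R

theorem named_of_simple (tab : OrderTable.{0}) (hK : ∀ (X : Type) [Group X] [Finite X] [IsSimpleGroup X],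
    Cfsg.IsKnownSimple' X) {S : Type} [Group S] [Finite S] [IsSimpleGroup S] (hna : ¬ IsMulCommutative S) :
    ∃ g, IsNamed g S :=
  exists_named tab (hK S) fun h => hna ⟨⟨h⟩⟩

theorem der_of_miss {T : Type} [Group T] [Finite T] {R : Subgroup T} (h : Miss R) : H396.Der T R :=
  H396.der_of_prime h.choose_spec.1 h.choose_spec.2.1 h.choose_spec.2.2

section psl

variable {F : Type} [Field F] [Fintype F] {n : ℕ}

/-- **`PSL_n(q)`, `n ≥ 4`**, except `L4(2)`, `L6(2)`, `L7(2)`, `L4(4)`. -/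
theorem psl_row (tab : OrderTable.{0}) (hK : ∀ (X : Type) [Group X] [Finite X] [IsSimpleGroup X],
    Cfsg.IsKnownSimple' X) {p : ℕ} (hp : p.Prime) (hpF : p ∣ Fintype.card F) (hn : 4 ≤ n)
    (h2 : ¬ (Fintype.card F = 2 ∧ (n = 4 ∨ n = 6 ∨ n = 7))) (h4 : ¬ (Fintype.card F = 4 ∧ n = 4))
    (hc : CrossRowM p (Matrix.ProjectiveSpecialLinearGroup (Fin n) F) (Fin n) F) :
    ClMaxA (Matrix.ProjectiveSpecialLinearGroup (Fin n) F) := by
  intro M hM
  have hT : IsNamed (.psl n (Fintype.card F)) (Matrix.ProjectiveSpecialLinearGroup (Fin n) F) :=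
    named_psl (F := F) (n := n) (by omega) (by omega)
  have hfin : Finite (Matrix.ProjectiveSpecialLinearGroup (Fin n) F) := Quotient.finite _
  rcases H304.GeoL.der_or_residual (by omega) hM with h | ⟨P, hP, -⟩
  · exact h
  · obtain ⟨S, hSn, hSs, hna, hC, ⟨e⟩⟩ := exists_socle
      (Matrix.SpecialLinearGroup.toGL (n := Fin n) (R := F)) H304.PslT.toGL_injective
      (H304.PslT.pr n F) (QuotientGroup.mk'_surjective _)
      (fun x => (QuotientGroup.eq_one_iff x).trans (H304.PslT.center_iff (by omega))) hP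
    obtain ⟨g, hg⟩ := named_of_simple tab hK hna
    refine der_of_miss (res_kill (p := p) hT (show 3 ≤ n by omega) ?_ ?_ S hC hg e (Fintype.card_fin n) id ?_ ?_)
    · simp only [surv, List.mem_cons, Grp.psl.injEq, reduceCtorEq, or_false, List.not_mem_nil, not_or]
      exact ⟨fun h => h2 ⟨h.2, .inl h.1⟩, by omega⟩
    · intro g' hg'
      simp only [exc, List.mem_cons, Prod.mk.injEq, Grp.psl.injEq, reduceCtorEq, and_false, or_false, false_or,
        List.not_mem_nil] at hg'
      omega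
    · exact fun hch => charRow_psl hp hpF hT hn h2 h4 M hM.1 S hSn hSs hna hC g hg hch
    · exact fun s hs hsp hch => hc M hM.1 S hSn hSs hna hC _ P hP ⟨e⟩ s g hs hsp hg hch

/-- **`PSp_2m(q)`, `m ≥ 3`**, except `Sp6(2)`, `Sp8(2)`. -/
theorem psp_row (tab : OrderTable.{0}) (hK : ∀ (X : Type) [Group X] [Finite X] [IsSimpleGroup X],
    Cfsg.IsKnownSimple' X) {p : ℕ} (hp : p.Prime) (hpF : p ∣ Fintype.card F) {m : ℕ} (hn : 3 ≤ m)
    (h2 : ¬ (Fintype.card F = 2 ∧ m ≤ 4))
    (hc : CrossRow p (PSp m F) (Fin m ⊕ Fin m) F) {R : Subgroup (PSp m F)} (hR : R ≠ ⊤) : DerT (PSp m F) R := by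
  have hT : IsNamed (.psp m (Fintype.card F)) (PSp m F) := named_psp (F := F) (n := m) (by omega) (by omega)
  have hfin : Finite (PSp m F) := Quotient.finite _
  rcases H262.El.derT_or_residual (by omega) (by omega) hR with h | ⟨P, hP, -⟩
  · exact h
  · obtain ⟨S, hSn, hSs, hna, hC, ⟨e⟩⟩ := exists_socle
      (Cfsg.Agent.H876.spToGL m F) H262.El.spToGL_injective _ (QuotientGroup.mk'_surjective _) hker_sp hP
    obtain ⟨g, hg⟩ := named_of_simple tab hK hna
    refine res_kill (p := p) hT trivial ?_ ?_ S hC hg e ?_ (fun h => (h : Miss R).derT) ?_ ?_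
    · simp only [surv, List.mem_cons, Grp.psp.injEq, reduceCtorEq, or_false, false_or, List.not_mem_nil, not_or]
      exact ⟨by omega, by omega, by omega, by omega⟩
    · intro g' hg'
      simp only [exc, List.mem_cons, Prod.mk.injEq, reduceCtorEq, and_false, or_false, List.not_mem_nil] at hg'
    · rw [Fintype.card_sum, Fintype.card_fin]
      exact (two_mul m).symm
    · exact fun hch => charRow_psp hp hpF hT hn h2 R hR S hSn hSs hna hC g hg hch
    · exact fun s hs hsp hch => hc R hR S hSn hSs hna hC _ P hP ⟨e⟩ s g hs hsp hg hch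

/-- **`PSU_n(q)`, `n ≥ 4`**, except `U4(2)`, `U5(2)`, `U6(2)`, `U4(3)`. -/
theorem psu_row (tab : OrderTable.{0}) (hK : ∀ (X : Type) [Group X] [Finite X] [IsSimpleGroup X],
    Cfsg.IsKnownSimple' X) {p q : ℕ} (hF : Fintype.card F = q ^ 2) (hp : p.Prime) (hpF : p ∣ q) (hn : 4 ≤ n)
    (h2 : ¬ (q = 2 ∧ n ≤ 6)) (h3 : ¬ (n = 4 ∧ q = 3)) (hc : CrossRowM p (PSU n F q) (Fin n) F)
    {R : Subgroup (PSU n F q)} (hR : R ≠ ⊤) : Miss R := by
  have hT : IsNamed (.psu n q) (PSU n F q) := named_psu (F := F) hF (by omega) (by omega)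
  have hfin : Finite (PSU n F q) := Quotient.finite _
  rcases H251.GeoU.geoU hF hn (by omega) R hR with h | ⟨P, hP, -⟩
  · exact h
  · obtain ⟨S, hSn, hSs, hna, hC, ⟨e⟩⟩ := exists_res_psu hF (by omega) hP
    obtain ⟨g, hg⟩ := named_of_simple tab hK hna
    refine res_kill (p := p) hT trivial ?_ ?_ S hC hg e (Fintype.card_fin n) id ?_ ?_
    · simp only [surv, List.mem_cons, Grp.psu.injEq, reduceCtorEq, or_false, false_or, List.not_mem_nil, not_or]
      exact ⟨by omega, by omega, by omega⟩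
    · intro g' hg'
      simp only [exc, List.mem_cons, Prod.mk.injEq, Grp.psu.injEq, reduceCtorEq, and_false, or_false,
        List.not_mem_nil] at hg'
      omega
    · exact fun hch => charRow_psu hp hpF hT hn h2 R hR S hSn hSs hna hC g hg hch
    · exact fun s hs hsp hch => hc R hR S hSn hSs hna hC _ P hP ⟨e⟩ s g hs hsp hg hch

/-- **`Ω_{2m+1}(q)`, `q` odd, `m ≥ 3`.** -/
theorem oodd_row (tab : OrderTable.{0}) (hK : ∀ (X : Type) [Group X] [Finite X] [IsSimpleGroup X],
    Cfsg.IsKnownSimple' X) {p : ℕ} (hp : p.Prime) (hpF : p ∣ Fintype.card F) {m : ℕ} (hm : 3 ≤ m)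
    (hodd : Odd (Fintype.card F))
    (hc : CrossRow p (POmega F (quadFormOdd m F)) (Unit ⊕ (Fin m ⊕ Fin m)) F)
    {R : Subgroup (POmega F (quadFormOdd m F))} (hR : R ≠ ⊤) : DerT _ R := by
  have hT : IsNamed (.oodd m (Fintype.card F)) (POmega F (quadFormOdd m F)) := named_oodd (F := F) hm hodd
  have hfin : Finite (POmega F (quadFormOdd m F)) := Quotient.finite _
  rcases H884.El.geo_odd hm hodd R with h | ⟨P, hP, -⟩
  · exact h
  · obtain ⟨S, hSn, hSs, hna, hC, ⟨e⟩⟩ := exists_res_odd hm hodd (M := R) hP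
    obtain ⟨g, hg⟩ := named_of_simple tab hK hna
    refine res_kill (p := p) hT trivial ?_ ?_ S hC hg e ?_ (fun h => (h : Miss R).derT) ?_ ?_
    · simp only [surv, List.mem_cons, reduceCtorEq, or_false, List.not_mem_nil, not_false_eq_true]
    · intro g' hg'
      simp only [exc, List.mem_cons, Prod.mk.injEq, reduceCtorEq, and_false, or_false, List.not_mem_nil] at hg'
    · rw [Fintype.card_sum, Fintype.card_sum, Fintype.card_fin, Fintype.card_unit]
      change 1 + (m + m) = 2 * m + 1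
      omega
    · exact fun hch => charRow_oodd hp hpF hT R hR S hSn hSs hna hC g hg hch
    · exact fun s hs hsp hch => hc R hR S hSn hSs hna hC _ P hP ⟨e⟩ s g hs hsp hg hch

/-- **`PΩ^+_{2m}(q)`, `m ≥ 4`**, except `O8+(2)`, `O10+(2)`. -/
theorem oplus_row (tab : OrderTable.{0}) (hK : ∀ (X : Type) [Group X] [Finite X] [IsSimpleGroup X],
    Cfsg.IsKnownSimple' X) {p : ℕ} (hp : p.Prime) (hpF : p ∣ Fintype.card F) {m : ℕ} (hm : 4 ≤ m)
    (h2 : ¬ (Fintype.card F = 2 ∧ m ≤ 5))
    (hc : CrossRow p (POmega F (quadFormPlus m F)) (Fin m ⊕ Fin m) F)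
    {R : Subgroup (POmega F (quadFormPlus m F))} (hR : R ≠ ⊤) : DerT _ R := by
  have hT : IsNamed (.oplus m (Fintype.card F)) (POmega F (quadFormPlus m F)) := named_oplus (F := F) hm
  have hfin : Finite (POmega F (quadFormPlus m F)) := Quotient.finite _
  rcases H884.El.geo_plus_all hm R with h | ⟨P, hP, -⟩
  · exact h
  · obtain ⟨S, hSn, hSs, hna, hC, ⟨e⟩⟩ := exists_res_plus hm (M := R) hP
    obtain ⟨g, hg⟩ := named_of_simple tab hK hna
    refine res_kill (p := p) hT trivial ?_ ?_ S hC hg e ?_ (fun h => (h : Miss R).derT) ?_ ?_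
    · simp only [surv, List.mem_cons, Grp.oplus.injEq, reduceCtorEq, or_false, false_or, List.not_mem_nil]
      omega
    · intro g' hg'
      simp only [exc, List.mem_cons, Prod.mk.injEq, Grp.oplus.injEq, reduceCtorEq, and_false, or_false, false_or,
        List.not_mem_nil] at hg'
      omega
    · rw [Fintype.card_sum, Fintype.card_fin]
      exact (two_mul m).symm
    · exact fun hch => charRow_oplus hp hpF hT h2 R hR S hSn hSs hna hC g hg hch
    · exact fun s hs hsp hch => hc R hR S hSn hSs hna hC _ P hP ⟨e⟩ s g hs hsp hg hch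

/-- **`PΩ^-_{2m}(q)`, `m ≥ 4`**, except `O8-(2)`. -/
theorem ominus_row (tab : OrderTable.{0}) (hK : ∀ (X : Type) [Group X] [Finite X] [IsSimpleGroup X],
    Cfsg.IsKnownSimple' X) {p : ℕ} (hp : p.Prime) (hpF : p ∣ Fintype.card F) {m : ℕ} (hm : 4 ≤ m) {a b : F}
    (hab : ∀ z₁ z₂ : F, z₁ ^ 2 + a * z₁ * z₂ + b * z₂ ^ 2 = 0 → z₁ = 0 ∧ z₂ = 0)
    (h2 : ¬ (Fintype.card F = 2 ∧ m = 4))
    (hc : CrossRowM p (POmega F (quadFormMinus (m - 1) F a b)) ((Fin (m - 1) ⊕ Fin (m - 1)) ⊕ Fin 2) F)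
    {R : Subgroup (POmega F (quadFormMinus (m - 1) F a b))} (hR : R ≠ ⊤) : Miss R := by
  have hT : IsNamed (.ominus m (Fintype.card F)) (POmega F (quadFormMinus (m - 1) F a b)) := named_ominus (F := F) hm hab
  have hfin : Finite (POmega F (quadFormMinus (m - 1) F a b)) := Quotient.finite _
  rcases H884.El.geo_minus hm hab R with h | ⟨P, hP, -⟩
  · exact h
  · obtain ⟨S, hSn, hSs, hna, hC, ⟨e⟩⟩ := exists_res_minus hm a b hab (M := R) hP
    obtain ⟨g, hg⟩ := named_of_simple tab hK hna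
    refine res_kill (p := p) hT trivial ?_ ?_ S hC hg e ?_ id ?_ ?_
    · simp only [surv, List.mem_cons, reduceCtorEq, or_false, List.not_mem_nil, not_false_eq_true]
    · intro g' hg'
      simp only [exc, List.mem_cons, Prod.mk.injEq, reduceCtorEq, and_false, or_false, List.not_mem_nil] at hg'
    · rw [Fintype.card_sum, Fintype.card_sum, Fintype.card_fin, Fintype.card_fin]
      change m - 1 + (m - 1) + 2 = 2 * m
      omega
    · exact fun hch => charRow_ominus hp hpF hT h2 R hR S hSn hSs hna hC g hg hch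
    · exact fun s hs hsp hch => hc R hR S hSn hSs hna hC _ P hP ⟨e⟩ s g hs hsp hg hch

end psl

end Cfsg.Agent.H278.El.Asm
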