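import Cfsg.Agent.H278.ElCrossRows
import Cfsg.Agent.H947.El.Sz
import Cfsg.Agent.H947.El.Ree

/-!
# TEAM ELUSIVE: the core statement from the rows of the exceptional and of the sporadic groups
-/

set_option autoImplicit false

namespace Cfsg.Agent.H278.El.Asm

open Cfsg Cfsg.Agent.OrdDiv Cfsg.Agent.H436

universe u

/-- the rows of the exceptional groups of Lie type -/
structure ExcRows : Prop where
  g2 : ∀ {q : ℕ} {T : Type} [Group T] [Finite T], IsNamed (.g2 q) T → ClT T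
  f4 : ∀ {q : ℕ} {T : Type} [Group T] [Finite T], IsNamed (.f4 q) T → ClT T
  e6 : ∀ {q : ℕ} {T : Type} [Group T] [Finite T], IsNamed (.e6 q) T → ClT T
  e7 : ∀ {q : ℕ} {T : Type} [Group T] [Finite T], IsNamed (.e7 q) T → ClT T
  e8 : ∀ {q : ℕ} {T : Type} [Group T] [Finite T], IsNamed (.e8 q) T → ClT T
  te6 : ∀ {q : ℕ} {T : Type} [Group T] [Finite T], IsNamed (.te6 q) T → ClT T
  td4 : ∀ {q : ℕ} {T : Type} [Group T] [Finite T], IsNamed (.td4 q) T → ClT T
  tf4 : ∀ {q : ℕ} {T : Type} [Group T] [Finite T], IsNamed (.tf4 q) T → ClT T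

/-- the rows of the sporadic groups and of the Tits group -/
structure SporRows : Prop where
  tits : ∀ {T : Type} [Group T] [Finite T], Lie.IsoTits T → ClT T
  m11 : ∀ {T : Type} [Group T] [Finite T], Spor.IsoM11 T → ClT T
  m12 : ∀ {T : Type} [Group T] [Finite T], Spor.IsoM12 T → ClT T
  m22 : ∀ {T : Type} [Group T] [Finite T], Spor.IsoM22 T → ClT T
  m23 : ∀ {T : Type} [Group T] [Finite T], Spor.IsoM23 T → ClT T
  m24 : ∀ {T : Type} [Group T] [Finite T], Spor.IsoM24 T → ClT T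
  j1 : ∀ {T : Type} [Group T] [Finite T], Spor.IsoJ1 T → ClT T
  j2 : ∀ {T : Type} [Group T] [Finite T], Spor.IsoJ2 T → ClT T
  j3 : ∀ {T : Type} [Group T] [Finite T], Spor.IsoJ3 T → ClT T
  j4 : ∀ {T : Type} [Group T] [Finite T], Spor.IsoJ4 T → ClT T
  co1 : ∀ {T : Type} [Group T] [Finite T], Spor.IsoCo1 T → ClT T
  co2 : ∀ {T : Type} [Group T] [Finite T], Spor.IsoCo2 T → ClT T
  co3 : ∀ {T : Type} [Group T] [Finite T], Spor.IsoCo3 T → ClT T
  mcl : ∀ {T : Type} [Group T] [Finite T], Spor.IsoMcL T → ClT T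
  hs : ∀ {T : Type} [Group T] [Finite T], Spor.IsoHS T → ClT T
  suz : ∀ {T : Type} [Group T] [Finite T], Spor.IsoSuz T → ClT T
  he : ∀ {T : Type} [Group T] [Finite T], Spor.IsoHe T → ClT T
  ru : ∀ {T : Type} [Group T] [Finite T], Spor.IsoRu T → ClT T
  on : ∀ {T : Type} [Group T] [Finite T], Spor.IsoON T → ClT T
  ly : ∀ {T : Type} [Group T] [Finite T], Spor.IsoLy T → ClT T
  fi22 : ∀ {T : Type} [Group T] [Finite T], Spor.IsoFi22 T → ClT T
  fi23 : ∀ {T : Type} [Group T] [Finite T], Spor.IsoFi23 T → ClT T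
  fi24 : ∀ {T : Type} [Group T] [Finite T], Spor.IsoFi24' T → ClT T
  hn : ∀ {T : Type} [Group T] [Finite T], Spor.IsoHN T → ClT T
  th : ∀ {T : Type} [Group T] [Finite T], Spor.IsoTh T → ClT T
  b : ∀ {T : Type} [Group T] [Finite T], Spor.IsoB T → ClT T
  m : ∀ {T : Type} [Group T] [Finite T], Spor.IsoM T → ClT T

/-- **The core statement for a named group.** -/
theorem clT_named (tab : OrderTable.{0}) (hK : Kn) (hc : CrossRows) (he : ExcRows) (hsp : SporRows) {T : Type}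
    [Group T] [Finite T] {g : Grp} (h : IsNamed g T) : ClT T := by
  obtain ⟨hr, hcond, -, -⟩ := id h
  cases g with
  | alt n =>
    obtain ⟨e⟩ := hr
    exact (Alt.clMax_alt ⟨n, hcond, ⟨e⟩⟩).clT
  | psl n q =>
    obtain ⟨F, _, _, rfl, ⟨e⟩⟩ := hr
    exact (clT_psl tab hK hc hcond.1 hcond.2.1).congr e.symm
  | psp m q =>
    obtain ⟨F, _, _, rfl, ⟨e⟩⟩ := hr
    exact (clT_psp tab hK hc hcond.1 hcond.2.1).congr e.symm
  | psu n q =>
    obtain ⟨F, _, _, hF, ⟨e⟩⟩ := hr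
    exact (clT_psu tab hK hc hF hcond.1 hcond.2.1 hcond.2.2).congr e.symm
  | oodd m q =>
    obtain ⟨F, _, _, rfl, ⟨e⟩⟩ := hr
    exact (clT_oodd tab hK hc hcond.1 hcond.2.1).congr e.symm
  | oplus m q =>
    obtain ⟨F, _, _, rfl, ⟨e⟩⟩ := hr
    exact (clT_oplus tab hK hc hcond.1).congr e.symm
  | ominus m q =>
    obtain ⟨F, _, _, a, b, rfl, hab, ⟨e⟩⟩ := hr
    exact (clT_ominus tab hK hc hcond.1 hab).congr e.symm
  | g2 q => exact he.g2 h
  | f4 q => exact he.f4 h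
  | e6 q => exact he.e6 h
  | e7 q => exact he.e7 h
  | e8 q => exact he.e8 h
  | te6 q => exact he.te6 h
  | td4 q => exact he.td4 h
  | sz q =>
    obtain ⟨F, i1, i2, m, hm, hF, hq, ⟨e⟩⟩ := hr
    exact (H947.El.clMaxA_sz ⟨F, i1, i2, m, hm, hF.trans hq, ⟨e⟩⟩).clMax.clT
  | ree q =>
    obtain ⟨F, i1, i2, m, hm, hF, hq, ⟨e⟩⟩ := hr
    exact (H947.El.clMaxA_ree ⟨F, i1, i2, m, hm, hF.trans hq, ⟨e⟩⟩).clMax.clT
  | tf4 q => exact he.tf4 h
  | tits => exact hsp.tits hr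
  | m11 => exact hsp.m11 hr
  | m12 => exact hsp.m12 hr
  | m22 => exact hsp.m22 hr
  | m23 => exact hsp.m23 hr
  | m24 => exact hsp.m24 hr
  | j1 => exact hsp.j1 hr
  | j2 => exact hsp.j2 hr
  | j3 => exact hsp.j3 hr
  | j4 => exact hsp.j4 hr
  | co1 => exact hsp.co1 hr
  | co2 => exact hsp.co2 hr
  | co3 => exact hsp.co3 hr
  | mcl => exact hsp.mcl hr
  | hs => exact hsp.hs hr
  | suz => exact hsp.suz hr
  | he => exact hsp.he hr
  | ru => exact hsp.ru hr
  | on => exact hsp.on hr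
  | ly => exact hsp.ly hr
  | fi22 => exact hsp.fi22 hr
  | fi23 => exact hsp.fi23 hr
  | fi24 => exact hsp.fi24 hr
  | hn => exact hsp.hn hr
  | th => exact hsp.th hr
  | b => exact hsp.b hr
  | m => exact hsp.m hr

/-- **The core statement.** -/
theorem core (tab : OrderTable.{0}) (hK : Kn) (hc : CrossRows) (he : ExcRows) (hsp : SporRows) {T : Type u}
    [Group T] [Finite T] [IsSimpleGroup T] (hna : ∃ a b : T, a * b ≠ b * a) : ClT T := by
  let e : Shrink.{0} T ≃* T := (Shrink.mulEquiv : Shrink.{0} T ≃* T)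
  have hfin : Finite (Shrink.{0} T) := Finite.of_equiv T e.symm.toEquiv
  have hs : IsSimpleGroup (Shrink.{0} T) := e.isSimpleGroup
  have hna' : ¬ IsMulCommutative (Shrink.{0} T) := by
    intro hcomm
    obtain ⟨a, b, hab⟩ := hna
    apply hab
    apply e.symm.injective
    rw [map_mul, map_mul]
    exact hcomm.is_comm.comm _ _
  obtain ⟨g, hg⟩ := named_of_simple tab hK hna'
  exact (clT_named tab hK hc he hsp hg).congr e

end Cfsg.Agent.H278.El.Asm
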