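import Cfsg.Agent.H278.ElAltNum
import Cfsg.Agent.H927.SgXFam3

/-!
# TEAM ELUSIVE: cross characteristic, small Landazuri-Seitz bound, by orders

`crossList` : all names `g` of groups of Lie type with `lsb g ≤ 36`, with the characteristic `s`, the field exponent,
and the list of the classical names (not `PSL_2`) in characteristic `≠ s` of groups `T` with `|g| ∣ |T|` and
`π(T) ⊆ π(6 f |g|)`.
-/

set_option autoImplicit false

namespace Cfsg.Agent.H278.El.CrossNum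

open Cfsg.Agent.OrdDiv Cfsg.Agent.H436 Cfsg.Agent.H278.El.Num
open Cfsg.Agent.H278.El.SporNum (IsCl prim_le)
open Cfsg.Agent.H278.El.Sieve

/-- an entry -/
structure Ent where
  g : Grp
  s : ℕ
  f : ℕ
  E : List Grp

/-- part 1 of the list -/
def list0 : List Ent := [
  ⟨.psl 2 4, 2, 2, [.psp 2 3]⟩,
  ⟨.psl 2 5, 5, 1, [.psp 2 2, .psp 2 3, .psu 4 2]⟩,
  ⟨.psl 2 7, 7, 1, [.psl 3 2, .psu 3 3]⟩,
  ⟨.psl 2 8, 2, 3, [.psu 3 3]⟩,
  ⟨.psl 2 9, 3, 2, [.psp 2 2, .psu 4 2]⟩,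
  ⟨.psl 2 11, 11, 1, [.psu 5 2]⟩,
  ⟨.psl 2 13, 13, 1, []⟩,
  ⟨.psl 2 16, 2, 4, []⟩,
  ⟨.psl 2 17, 17, 1, []⟩,
  ⟨.psl 2 19, 19, 1, []⟩,
  ⟨.psl 2 23, 23, 1, []⟩,
  ⟨.psl 2 25, 5, 2, [.psu 3 4]⟩,
  ⟨.psl 2 27, 3, 3, []⟩]

set_option maxRecDepth 100000 in
theorem ok0 : (list0.all fun x => okB x.s (6 * x.f * ordN x.g) (ordN x.g) x.E) = true := by decide +kernel

/-- part 2 of the list -/
def list1 : List Ent := [
  ⟨.psl 2 29, 29, 1, []⟩,
  ⟨.psl 2 31, 31, 1, [.psl 3 5]⟩,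
  ⟨.psl 2 32, 2, 5, []⟩,
  ⟨.psl 2 37, 37, 1, []⟩,
  ⟨.psl 2 41, 41, 1, []⟩,
  ⟨.psl 2 43, 43, 1, []⟩,
  ⟨.psl 2 47, 47, 1, []⟩,
  ⟨.psl 2 49, 7, 2, []⟩,
  ⟨.psl 2 53, 53, 1, []⟩,
  ⟨.psl 2 59, 59, 1, []⟩,
  ⟨.psl 2 61, 61, 1, []⟩,
  ⟨.psl 2 64, 2, 6, [.oodd 3 3, .oplus 4 3, .psl 3 9, .psp 3 3, .psu 4 5]⟩,
  ⟨.psl 2 67, 67, 1, []⟩]

set_option maxRecDepth 100000 in
theorem ok1 : (list1.all fun x => okB x.s (6 * x.f * ordN x.g) (ordN x.g) x.E) = true := by decide +kernel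

/-- part 3 of the list -/
def list2 : List Ent := [
  ⟨.psl 2 71, 71, 1, []⟩,
  ⟨.psl 2 73, 73, 1, []⟩,
  ⟨.psl 3 2, 2, 1, [.psu 3 3]⟩,
  ⟨.psl 3 3, 3, 1, []⟩,
  ⟨.psl 3 4, 2, 2, [.psp 2 7, .psu 4 3]⟩,
  ⟨.psl 3 5, 5, 1, []⟩,
  ⟨.psl 4 2, 2, 1, [.psp 2 7, .psu 4 3]⟩,
  ⟨.psl 4 3, 3, 1, []⟩,
  ⟨.psl 5 2, 2, 1, []⟩,
  ⟨.psl 6 2, 2, 1, []⟩,
  ⟨.psp 2 3, 3, 1, [.psu 4 2]⟩,
  ⟨.psp 2 4, 2, 2, []⟩,
  ⟨.psp 2 5, 5, 1, []⟩]

set_option maxRecDepth 100000 in
theorem ok2 : (list2.all fun x => okB x.s (6 * x.f * ordN x.g) (ordN x.g) x.E) = true := by decide +kernel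

/-- part 4 of the list -/
def list3 : List Ent := [
  ⟨.psp 2 7, 7, 1, []⟩,
  ⟨.psp 3 2, 2, 1, []⟩,
  ⟨.psp 3 3, 3, 1, []⟩,
  ⟨.psp 4 2, 2, 1, []⟩,
  ⟨.psp 5 2, 2, 1, []⟩,
  ⟨.psu 3 3, 3, 1, []⟩,
  ⟨.oodd 3 3, 3, 1, []⟩,
  ⟨.psu 3 4, 2, 2, [.psp 2 5]⟩,
  ⟨.psu 3 5, 5, 1, []⟩,
  ⟨.psu 4 2, 2, 1, [.psp 2 3]⟩,
  ⟨.psu 4 3, 3, 1, []⟩,
  ⟨.oodd 4 3, 3, 1, []⟩,
  ⟨.psu 5 2, 2, 1, []⟩]

set_option maxRecDepth 100000 in
theorem ok3 : (list3.all fun x => okB x.s (6 * x.f * ordN x.g) (ordN x.g) x.E) = true := by decide +kernel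

/-- part 5 of the list -/
def list4 : List Ent := [
  ⟨.psu 6 2, 2, 1, []⟩,
  ⟨.psu 7 2, 2, 1, []⟩,
  ⟨.oplus 4 2, 2, 1, []⟩,
  ⟨.ominus 4 2, 2, 1, []⟩,
  ⟨.oplus 4 3, 3, 1, []⟩,
  ⟨.ominus 4 3, 3, 1, []⟩,
  ⟨.oplus 5 2, 2, 1, []⟩,
  ⟨.ominus 5 2, 2, 1, []⟩,
  ⟨.ominus 5 3, 3, 1, []⟩,
  ⟨.oplus 6 2, 2, 1, []⟩,
  ⟨.ominus 6 2, 2, 1, []⟩,
  ⟨.ominus 7 2, 2, 1, []⟩,
  ⟨.g2 3, 3, 1, []⟩]

set_option maxRecDepth 100000 in
theorem ok4 : (list4.all fun x => okB x.s (6 * x.f * ordN x.g) (ordN x.g) x.E) = true := by decide +kernel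

/-- part 6 of the list -/
def list5 : List Ent := [
  ⟨.g2 4, 2, 2, [.oplus 4 3]⟩,
  ⟨.g2 5, 5, 1, []⟩,
  ⟨.td4 2, 2, 1, []⟩,
  ⟨.te6 2, 2, 1, []⟩,
  ⟨.f4 2, 2, 1, []⟩,
  ⟨.td4 3, 3, 1, []⟩,
  ⟨.sz 8, 2, 3, [.oodd 3 3, .oplus 4 3, .psl 3 9, .psp 3 3, .psu 4 5]⟩,
  ⟨.ree 27, 3, 3, []⟩,
  ⟨.sz 32, 2, 5, []⟩]

set_option maxRecDepth 100000 in
theorem ok5 : (list5.all fun x => okB x.s (6 * x.f * ordN x.g) (ordN x.g) x.E) = true := by decide +kernel

/-- the list -/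
def crossList : List Ent := list0 ++ list1 ++ list2 ++ list3 ++ list4 ++ list5

theorem ok_all {x : Ent} (hx : x ∈ crossList) : okB x.s (6 * x.f * ordN x.g) (ordN x.g) x.E = true := by
  have h : (crossList.all fun x => okB x.s (6 * x.f * ordN x.g) (ordN x.g) x.E) = true := by
    unfold crossList
    simp only [List.all_append, Bool.and_eq_true]
    exact ⟨⟨⟨⟨⟨ok0, ok1⟩, ok2⟩, ok3⟩, ok4⟩, ok5⟩
  rw [List.all_eq_true] at h
  exact h x hx

open Cfsg.Agent.H927.SgX (lsb IsLieN)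

/-- the prime powers up to `74` -/
def ppl : List ℕ := [2, 3, 4, 5, 7, 8, 9, 11, 13, 16, 17, 19, 23, 25, 27, 29, 31, 32, 37, 41, 43, 47, 49, 53, 59, 61,
  64, 67, 71, 73]

theorem ppl_key : (primes73.all fun p => (List.range 7).all fun k => Nat.beq k 0 || Nat.blt 74 (p ^ k) ||
    decide (p ^ k ∈ ppl)) = true := by decide +kernel

theorem pp_le {s : ℕ} (h : IsPrimePow s) (hs : s ≤ 74) : s ∈ ppl := by
  obtain ⟨p, k, hp, hk, rfl⟩ := (isPrimePow_nat_iff s).1 h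
  have h1 : p ≤ 74 := (Nat.le_self_pow hk.ne' p).trans hs
  have h2 : k ≤ 6 := by
    by_contra hcon
    push Not at hcon
    have h3 : 2 ^ 7 ≤ p ^ k := (Nat.pow_le_pow_left hp.two_le 7).trans (Nat.pow_le_pow_right hp.pos hcon)
    omega
  have h0 := ppl_key
  rw [List.all_eq_true] at h0
  have h74 : p ≤ 73 := by
    have : p ≠ 74 := by rintro rfl; exact absurd hp (by norm_num)
    omega
  have h3 := h0 p (mem_primes73 hp h74)
  rw [List.all_eq_true] at h3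
  have h4 := h3 k (List.mem_range.2 (by omega))
  rw [Bool.or_eq_true, Bool.or_eq_true, Nat.beq_eq, Nat.blt_eq] at h4
  rcases h4 with (h4 | h4) | h4
  · omega
  · omega
  · exact of_decide_eq_true h4

/-- the names in the list -/
def inList (g : Grp) : Bool := crossList.any fun x => decide (x.g = g)

theorem of_inList {g : Grp} (h : inList g = true) : ∃ x ∈ crossList, x.g = g := by
  unfold inList at h
  rw [List.any_eq_true] at h
  obtain ⟨x, hx, h1⟩ := h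
  exact ⟨x, hx, of_decide_eq_true h1⟩

theorem exp_lt {s k a : ℕ} (hs : 2 ≤ s) (h : s ^ k ≤ a) (ha : a < 128) : k ≤ 6 := by
  by_contra hcon
  push Not at hcon
  have h1 : 2 ^ 7 ≤ s ^ k := (Nat.pow_le_pow_left hs 7).trans (Nat.pow_le_pow_right (by omega) hcon)
  omega

theorem le_of_pow {s k a : ℕ} (hs : 2 ≤ s) (hk : 1 ≤ k) (h : s ^ k ≤ a) : s ≤ a :=
  (Nat.le_self_pow (by omega) s).trans h

/-- the check for the names with two parameters -/
def chk2 (fam : ℕ → ℕ → Grp) (ex : ℕ → ℕ → Bool) : Bool := (List.range 12).all fun m => ppl.all fun s =>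
  Nat.blt m 2 || ex m s || Nat.blt 36 (lsb (fam m s)) || inList (fam m s)

theorem of_chk2 {fam : ℕ → ℕ → Grp} {ex : ℕ → ℕ → Bool} (h : chk2 fam ex = true) {m s : ℕ} (hm : 2 ≤ m) (hm2 : m ≤ 11)
    (hs : IsPrimePow s) (hs2 : s ≤ 74) (he : ex m s = false) (hl : lsb (fam m s) ≤ 36) : inList (fam m s) = true := by
  unfold chk2 at h
  rw [List.all_eq_true] at h
  have h1 := h m (List.mem_range.2 (by omega))
  rw [List.all_eq_true] at h1
  have h2 := h1 s (pp_le hs hs2)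
  rw [Bool.or_eq_true, Bool.or_eq_true, Bool.or_eq_true, Nat.blt_eq, Nat.blt_eq, he] at h2
  rcases h2 with ((h2 | h2) | h2) | h2
  · omega
  · exact absurd h2 (by decide)
  · omega
  · exact h2

def chk1 (fam : ℕ → Grp) (ex : ℕ → Bool) : Bool := ppl.all fun s =>
  ex s || Nat.blt 36 (lsb (fam s)) || inList (fam s)

theorem of_chk1 {fam : ℕ → Grp} {ex : ℕ → Bool} (h : chk1 fam ex = true) {s : ℕ}
    (hs : IsPrimePow s) (hs2 : s ≤ 74) (he : ex s = false) (hl : lsb (fam s) ≤ 36) : inList (fam s) = true := by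
  unfold chk1 at h
  rw [List.all_eq_true] at h
  have h2 := h s (pp_le hs hs2)
  rw [Bool.or_eq_true, Bool.or_eq_true, Nat.blt_eq, he] at h2
  rcases h2 with (h2 | h2) | h2
  · exact absurd h2 (by decide)
  · omega
  · exact h2

theorem c_psl : chk2 .psl (fun m s => Nat.beq m 2 && Nat.blt s 4) = true := by decide +kernel
theorem c_psp : chk2 .psp (fun m s => Nat.beq m 2 && Nat.blt s 3) = true := by decide +kernel
theorem c_psu : chk2 .psu (fun m s => Nat.blt m 3 || (Nat.beq m 3 && Nat.beq s 2)) = true := by decide +kernel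
theorem c_oodd : chk2 .oodd (fun m s => Nat.blt m 3 || Nat.beq (s % 2) 0) = true := by decide +kernel
theorem c_oplus : chk2 .oplus (fun m _ => Nat.blt m 4) = true := by decide +kernel
theorem c_ominus : chk2 .ominus (fun m _ => Nat.blt m 4) = true := by decide +kernel
theorem c_g2 : chk1 .g2 (fun s => Nat.blt s 3) = true := by decide +kernel
theorem c_f4 : chk1 .f4 (fun _ => false) = true := by decide +kernel
theorem c_e6 : chk1 .e6 (fun _ => false) = true := by decide +kernel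
theorem c_e7 : chk1 .e7 (fun _ => false) = true := by decide +kernel
theorem c_e8 : chk1 .e8 (fun _ => false) = true := by decide +kernel
theorem c_te6 : chk1 .te6 (fun _ => false) = true := by decide +kernel
theorem c_td4 : chk1 .td4 (fun _ => false) = true := by decide +kernel

theorem sub_le_pow {s k j : ℕ} (hs : 2 ≤ s) (hj : 1 ≤ j) (h : (s - 1) * s ^ j ≤ k) : s ^ j ≤ k ∧ s ≤ k + 1 := by
  have h1 : 1 * s ^ j ≤ (s - 1) * s ^ j := Nat.mul_le_mul_right _ (by omega)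
  rw [one_mul] at h1
  exact ⟨h1.trans h, (Nat.le_self_pow (by omega) s).trans ((h1.trans h).trans (Nat.le_succ k))⟩

/-- **All names with small Landazuri-Seitz bound are in the list.** -/
theorem cross_mem {g : Grp} (hg : Cond g) (hlie : IsLieN g) (hl : lsb g ≤ 36) : ∃ x ∈ crossList, x.g = g := by
  apply of_inList
  cases g with
  | psl m s =>
    obtain ⟨h1, h2, h3⟩ := hg
    have hs2 := h3.two_le
    have hl' : (if m = 2 then (s - 1) / 2 else s ^ (m - 1) - 1) ≤ 36 := hl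
    by_cases hm : m = 2
    · subst hm
      rw [if_pos rfl] at hl'
      have h5 := h2 rfl
      refine of_chk2 c_psl le_rfl (by norm_num) h3 (by omega) ?_ hl
      have : Nat.blt s 4 = false := by
        rw [Bool.eq_false_iff, Ne, Nat.blt_eq]; omega
      simp [this]
    · rw [if_neg hm] at hl'
      have h6 : s ^ (m - 1) ≤ 37 := by omega
      have h7 := exp_lt hs2 h6 (by norm_num)
      have h8 := le_of_pow hs2 (show 1 ≤ m - 1 by omega) h6
      refine of_chk2 c_psl h1 (by omega) h3 (by omega) ?_ hl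
      have : Nat.beq m 2 = false := by
        rw [Bool.eq_false_iff, Ne, Nat.beq_eq]; exact hm
      simp [this]
  | psp m s =>
    obtain ⟨h1, h2, h3⟩ := hg
    have hs2 := h3.two_le
    have hl' : (if s % 2 = 1 then (s ^ m - 1) / 2 else s ^ m - 1) ≤ 36 := hl
    have h6 : s ^ m ≤ 74 := by split_ifs at hl' <;> omega
    have h7 := exp_lt hs2 h6 (by norm_num)
    have h8 := le_of_pow hs2 (show 1 ≤ m by omega) h6
    refine of_chk2 c_psp h1 (by omega) h3 (by omega) ?_ hl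
    by_cases hm : m = 2
    · have := h2 hm
      have : Nat.blt s 3 = false := by
        rw [Bool.eq_false_iff, Ne, Nat.blt_eq]; omega
      simp [this]
    · have : Nat.beq m 2 = false := by
        rw [Bool.eq_false_iff, Ne, Nat.beq_eq]; exact hm
      simp [this]
  | psu m s =>
    obtain ⟨h1, h2, h3⟩ := hg
    have hs2 := h3.two_le
    have hl' : (s - 1) * s ^ (m - 2) ≤ 36 := hl
    obtain ⟨h6, h8⟩ := sub_le_pow hs2 (by omega) hl'
    have h7 := exp_lt hs2 h6 (by norm_num)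
    refine of_chk2 c_psu (by omega) (by omega) h3 (by omega) ?_ hl
    have h9 : Nat.blt m 3 = false := by
      rw [Bool.eq_false_iff, Ne, Nat.blt_eq]; omega
    have h10 : (Nat.beq m 3 && Nat.beq s 2) = false := by
      rw [Bool.eq_false_iff, Ne, Bool.and_eq_true, Nat.beq_eq, Nat.beq_eq]; exact h2
    simp [h9, h10]
  | oodd m s =>
    obtain ⟨h1, h2, h3⟩ := hg
    have hs2 := h3.two_le
    have hl' : max (s ^ 3 - 1) (s ^ (m - 1) - 1) ≤ 36 := hl
    rw [max_le_iff] at hl'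
    have h6 : s ^ (m - 1) ≤ 37 := by omega
    have h7 := exp_lt hs2 h6 (by norm_num)
    have h8 := le_of_pow hs2 (show 1 ≤ m - 1 by omega) h6
    refine of_chk2 c_oodd (by omega) (by omega) h3 (by omega) ?_ hl
    have h9 : Nat.blt m 3 = false := by
      rw [Bool.eq_false_iff, Ne, Nat.blt_eq]; omega
    have h10 : Nat.beq (s % 2) 0 = false := by
      rw [Bool.eq_false_iff, Ne, Nat.beq_eq]
      have := Nat.odd_iff.1 h2
      omega
    simp [h9, h10]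
  | oplus m s =>
    obtain ⟨h1, h3⟩ := hg
    have hs2 := h3.two_le
    have hl' : max (s ^ 3 - 1) (s ^ (m - 1) - 1) ≤ 36 := hl
    rw [max_le_iff] at hl'
    have h6 : s ^ (m - 1) ≤ 37 := by omega
    have h7 := exp_lt hs2 h6 (by norm_num)
    have h8 := le_of_pow hs2 (show 1 ≤ m - 1 by omega) h6
    refine of_chk2 c_oplus (by omega) (by omega) h3 (by omega) ?_ hl
    rw [Bool.eq_false_iff, Ne, Nat.blt_eq]; omega
  | ominus m s =>
    obtain ⟨h1, h3⟩ := hg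
    have hs2 := h3.two_le
    have hl' : max (s ^ 3 - 1) (s ^ (m - 2) - 1) ≤ 36 := hl
    rw [max_le_iff] at hl'
    have h6 : s ^ (m - 2) ≤ 37 := by omega
    have h7 := exp_lt hs2 h6 (by norm_num)
    have h8 := le_of_pow hs2 (show 1 ≤ m - 2 by omega) h6
    refine of_chk2 c_ominus (by omega) (by omega) h3 (by omega) ?_ hl
    rw [Bool.eq_false_iff, Ne, Nat.blt_eq]; omega
  | g2 s =>
    obtain ⟨h1, h3⟩ := hg
    have hl' : (if s ≤ 4 then 0 else (s - 1) * s) ≤ 36 := hl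
    refine of_chk1 c_g2 h3 ?_ ?_ hl
    · split_ifs at hl'
      · omega
      · by_contra hcon
        have := Nat.mul_le_mul (show 74 ≤ s - 1 by omega) (show 75 ≤ s by omega)
        omega
    · rw [Bool.eq_false_iff, Ne, Nat.blt_eq]; omega
  | f4 s =>
    have h3 : IsPrimePow s := hg
    have hs2 := h3.two_le
    have hl' : (if s = 2 then 0 else (s - 1) * s ^ 3) ≤ 36 := hl
    refine of_chk1 c_f4 h3 ?_ rfl hl
    split_ifs at hl'
    · omega
    · have := (sub_le_pow hs2 (by norm_num) hl').2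
      omega
  | e6 s =>
    have h3 : IsPrimePow s := hg
    have := (sub_le_pow (j := 6) (k := 36) h3.two_le (by norm_num) hl).2
    exact of_chk1 c_e6 h3 (by omega) rfl hl
  | e7 s =>
    have h3 : IsPrimePow s := hg
    have := (sub_le_pow (j := 7) (k := 36) h3.two_le (by norm_num) hl).2
    exact of_chk1 c_e7 h3 (by omega) rfl hl
  | e8 s =>
    have h3 : IsPrimePow s := hg
    have := (sub_le_pow (j := 7) (k := 36) h3.two_le (by norm_num) hl).2
    exact of_chk1 c_e8 h3 (by omega) rfl hl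
  | te6 s =>
    have h3 : IsPrimePow s := hg
    have hs2 := h3.two_le
    have hl' : (if s = 2 then 0 else (s - 1) * s ^ 6) ≤ 36 := hl
    refine of_chk1 c_te6 h3 ?_ rfl hl
    split_ifs at hl'
    · omega
    · have := (sub_le_pow hs2 (by norm_num) hl').2
      omega
  | td4 s =>
    have h3 : IsPrimePow s := hg
    have hs2 := h3.two_le
    have hl' : (if s ≤ 3 then 0 else (s - 1) * s ^ 3) ≤ 36 := hl
    refine of_chk1 c_td4 h3 ?_ rfl hl
    split_ifs at hl'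
    · omega
    · have := (sub_le_pow hs2 (by norm_num) hl').2
      omega
  | sz s =>
    obtain ⟨m, hm, rfl⟩ := hg
    have hl' : 2 ^ (2 * m + 1) - 1 ≤ 36 := hl
    have h1 := exp_lt (k := 2 * m + 1) (a := 37) (le_refl 2) (by omega) (by norm_num)
    have h2 : m = 1 ∨ m = 2 := by omega
    rcases h2 with rfl | rfl
    · decide +kernel
    · decide +kernel
  | ree s =>
    obtain ⟨m, hm, rfl⟩ := hg
    have hl' : (3 ^ (2 * m + 1) - 1) / 2 ≤ 36 := hl
    have h1 := exp_lt (s := 3) (k := 2 * m + 1) (a := 74) (by norm_num) (by omega) (by norm_num)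
    have h2 : m = 1 ∨ m = 2 := by omega
    rcases h2 with rfl | rfl
    · decide +kernel
    · norm_num at hl'
  | tf4 s =>
    exfalso
    obtain ⟨m, hm, rfl⟩ := hg
    have hl' : (2 ^ (2 * m + 1) - 1) * 2 ^ (2 * m + 1) ≤ 36 := hl
    have h1 : 2 ^ 3 ≤ 2 ^ (2 * m + 1) := Nat.pow_le_pow_right (by norm_num) (by omega)
    have h2 : 7 * 8 ≤ (2 ^ (2 * m + 1) - 1) * 2 ^ (2 * m + 1) := Nat.mul_le_mul (by omega) (by omega)
    omega
  | _ => exact hlie.elim

/-- characteristic and field exponent in the list -/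
theorem ent_ok : (crossList.all fun x => primes73.any (Nat.beq x.s) && !(Nat.beq x.f 0)) = true := by decide +kernel

end Cfsg.Agent.H278.El.CrossNum
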