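import Cfsg.Agent.H278.ElDefs

/-!
# Fein-Kantor-Schacher: reduction to simple groups
-/

set_option autoImplicit false

namespace Cfsg.Agent.H278.El

open Subgroup

universe u

/-- an element of prime power order modulo `N` is, up to a generator, the image of an element of
prime power order. -/
theorem exists_lift_primePow {G : Type*} [Group G] [Finite G] (N : Subgroup G) [N.Normal]
    (x : G ⧸ N) (p k : ℕ) (hp : p.Prime) (hx : orderOf x = p ^ k) :
    ∃ (g : G) (m j : ℕ), (∃ l : ℕ, orderOf g = p ^ l) ∧ (QuotientGroup.mk g : G ⧸ N) = x ^ m ∧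
      (x ^ m) ^ j = x := by
  obtain ⟨y, rfl⟩ := QuotientGroup.mk_surjective x
  have h0 : orderOf y ≠ 0 := (orderOf_pos y).ne'
  obtain ⟨l, m, hm, hlm⟩ := Nat.exists_eq_pow_mul_and_not_dvd h0 p hp.ne_one
  have hm0 : m ≠ 0 := by rintro rfl; simp at hm
  have hcop : Nat.Coprime m (p ^ k) :=
    Nat.Coprime.pow_right _ ((Nat.Prime.coprime_iff_not_dvd hp).2 hm).symm
  obtain ⟨j, hj⟩ : ∃ j : ℕ, m * j ≡ 1 [MOD p ^ k] := by
    rcases Nat.lt_or_ge 1 (p ^ k) with h1 | h1
    · obtain ⟨j, -, hj⟩ := Nat.exists_mul_mod_eq_one_of_coprime hcop h1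
      exact ⟨j, by rw [Nat.ModEq, hj, Nat.mod_eq_of_lt h1]⟩
    · have h2 : p ^ k = 1 := le_antisymm h1 (Nat.pow_pos hp.pos)
      exact ⟨0, by rw [h2]; exact Nat.modEq_one⟩
  refine ⟨y ^ m, m, j, ⟨l, ?_⟩, ?_, ?_⟩
  · rw [orderOf_pow, hlm, Nat.gcd_eq_right (Dvd.intro_left _ rfl),
      Nat.mul_div_cancel _ (Nat.pos_of_ne_zero hm0)]
  · rfl
  · rw [← pow_mul]
    conv_rhs => rw [← pow_one (QuotientGroup.mk y : G ⧸ N)]
    rw [pow_eq_pow_iff_modEq, hx]
    exact hj

/-- **Fein-Kantor-Schacher, reduction.** If every proper subgroup of a non-abelian simple group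
misses a class of elements of prime power order then this holds in every finite group. -/
theorem derPP_of_simple
    (hcore : ∀ (T : Type u) [Group T] [Finite T] [IsSimpleGroup T], (∃ a b : T, a * b ≠ b * a) →
      ∀ R : Subgroup T, R ≠ ⊤ → DerPP T R) :
    ∀ (n : ℕ) (G : Type u) [Group G] [Finite G], Nat.card G ≤ n →
      ∀ H : Subgroup G, H ≠ ⊤ → DerPP G H := by
  intro n
  induction n with
  | zero =>
    intro G _ _ hn
    exact absurd hn (by have := Nat.card_pos (α := G); omega)
  | succ n ih =>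
    intro G _ _ hn H hH
    obtain ⟨M, hM, hHM⟩ := (eq_top_or_exists_le_coatom H).resolve_left hH
    refine DerPP.mono ?_ hHM
    clear hHM hH H
    by_cases hcore0 : M.normalCore = ⊥
    · -- core-free case
      have hnt : Nontrivial G := by
        by_contra hcon
        rw [not_nontrivial_iff_subsingleton] at hcon
        exact hM.1 (Subsingleton.elim _ _)
      -- a minimal normal subgroup
      obtain ⟨N, hN, hN1, hmin⟩ : ∃ N : Subgroup G, N.Normal ∧ N ≠ ⊥ ∧
          ∀ K : Subgroup G, K.Normal → K ≤ N → K = ⊥ ∨ K = N := by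
        have hfin : Finite {N : Subgroup G // N.Normal ∧ N ≠ ⊥} := inferInstance
        have hne : Nonempty {N : Subgroup G // N.Normal ∧ N ≠ ⊥} :=
          ⟨⟨⊤, inferInstance, top_ne_bot⟩⟩
        obtain ⟨N, hN⟩ := Finite.exists_min (fun N : {N : Subgroup G // N.Normal ∧ N ≠ ⊥} =>
          Nat.card (N : Subgroup G))
        refine ⟨N, N.2.1, N.2.2, fun K hK hKN => ?_⟩
        by_cases hK1 : K = ⊥
        · exact Or.inl hK1
        · right
          exact Subgroup.eq_of_le_of_card_ge hKN (hN ⟨K, hK, hK1⟩)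
      have hNM : ¬ N ≤ M := by
        intro hle
        apply hN1
        rw [eq_bot_iff, ← hcore0]
        exact Subgroup.normal_le_normalCore.2 hle
      have hMN : M ⊔ N = ⊤ := hM.2 _ (lt_of_le_of_ne le_sup_left (fun h => hNM (by
        rw [h]; exact le_sup_right)))
      by_cases hNtop : N = ⊤
      · -- `G` is simple
        have hs : IsSimpleGroup G := ⟨fun K hK => by
          rcases hmin K hK (hNtop ▸ le_top) with h | h
          · exact Or.inl h
          · exact Or.inr (h.trans hNtop)⟩
        by_cases hab : ∃ a b : G, a * b ≠ b * a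
        · exact hcore G hab M hM.1
        · push Not at hab
          have hMn : M.Normal := ⟨fun m hm g => by rw [hab g m, mul_inv_cancel_right]; exact hm⟩
          have hM1 : M = ⊥ := by
            rw [← hcore0]; exact (Subgroup.normalCore_eq_self M).symm
          obtain ⟨p, hp, hpd⟩ := Nat.exists_prime_and_dvd (n := Nat.card G)
            (by have := Finite.one_lt_card (α := G); omega)
          have := Fact.mk hp
          obtain ⟨x, hx⟩ := exists_prime_orderOf_dvd_card' p hpd
          refine ⟨x, ⟨p, 1, hp, by rw [hx, pow_one]⟩, fun g hg => ?_⟩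
          rw [hM1, Subgroup.mem_bot, hab g x, mul_inv_cancel_right] at hg
          rw [hg, orderOf_one] at hx
          exact hp.one_lt.ne hx
      · have hlt : Nat.card N < Nat.card G := by
          refine lt_of_le_of_ne (Subgroup.card_le_card_group N) fun h => hNtop ?_
          exact Subgroup.eq_top_of_card_eq N h
        have hR : M.subgroupOf N ≠ ⊤ := by
          rw [Ne, Subgroup.subgroupOf_eq_top]
          exact hNM
        obtain ⟨x, ⟨p, k, hp, hx⟩, hxR⟩ := ih N (by omega) (M.subgroupOf N) hR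
        refine ⟨x, ⟨p, k, hp, by rw [Subgroup.orderOf_coe]; exact hx⟩, fun g hg => ?_⟩
        obtain ⟨m, hm, n, hn, rfl⟩ : ∃ m ∈ M, ∃ n ∈ N, m * n = g := by
          have : g ∈ ((M ⊔ N : Subgroup G) : Set G) := by rw [hMN]; trivial
          rw [Subgroup.mul_normal] at this
          exact Set.mem_mul.1 this
        refine hxR ⟨n, hn⟩ ?_
        rw [Subgroup.mem_subgroupOf]
        have h2 := M.mul_mem (M.mul_mem (M.inv_mem hm) hg) hm
        have h3 : m⁻¹ * (m * n * (x : G) * (m * n)⁻¹) * m = n * x * n⁻¹ := by group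
        rw [h3] at h2
        exact h2
    · -- quotient
      have hlt : Nat.card (G ⧸ M.normalCore) < Nat.card G := by
        have h1 := Subgroup.card_eq_card_quotient_mul_card_subgroup M.normalCore
        have h2 : 1 < Nat.card M.normalCore := by
          rw [Subgroup.one_lt_card_iff_ne_bot]; exact hcore0
        have h3 : 0 < Nat.card (G ⧸ M.normalCore) := Nat.card_pos
        rw [h1]
        nlinarith
      have hMq : M.map (QuotientGroup.mk' M.normalCore) ≠ ⊤ := by
        intro h
        apply hM.1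
        have h2 : (M.map (QuotientGroup.mk' M.normalCore)).comap
            (QuotientGroup.mk' M.normalCore) = ⊤ := by rw [h, Subgroup.comap_top]
        rw [Subgroup.comap_map_eq, QuotientGroup.ker_mk',
          sup_eq_left.2 (Subgroup.normalCore_le M)] at h2
        exact h2
      obtain ⟨x, ⟨p, k, hp, hx⟩, hxR⟩ := ih (G ⧸ M.normalCore) (by omega) _ hMq
      obtain ⟨g, m, j, ⟨l, hl⟩, hgm, hj⟩ := exists_lift_primePow M.normalCore x p k hp hx
      refine ⟨g, ⟨p, l, hp, hl⟩, fun c hc => ?_⟩
      refine hxR (QuotientGroup.mk c) ?_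
      have h1 : (QuotientGroup.mk c : G ⧸ M.normalCore) * x ^ m * (QuotientGroup.mk c)⁻¹ ∈
          M.map (QuotientGroup.mk' M.normalCore) := by
        rw [← hgm]
        exact ⟨_, hc, rfl⟩
      have h2 := Subgroup.pow_mem _ h1 j
      rw [conj_pow, hj] at h2
      exact h2

/-- the FKS theorem from the simple case. -/
theorem fks_of_simple
    (hcore : ∀ (T : Type u) [Group T] [Finite T] [IsSimpleGroup T], (∃ a b : T, a * b ≠ b * a) →
      ∀ R : Subgroup T, R ≠ ⊤ → DerPP T R)
    {G : Type u} [Group G] [Finite G] {Ω : Type*} [MulAction G Ω]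
    (ht : MulAction.IsPretransitive G Ω) (hΩ : 1 < Nat.card Ω) :
    ∃ (p k : ℕ) (g : G), p.Prime ∧ 1 ≤ k ∧ orderOf g = p ^ k ∧ ∀ ω : Ω, g • ω ≠ ω := by
  have hne : Nonempty Ω := by
    by_contra h
    rw [not_nonempty_iff] at h
    rw [Nat.card_of_isEmpty] at hΩ
    omega
  obtain ⟨ω⟩ := hne
  have hH : MulAction.stabilizer G ω ≠ ⊤ := by
    intro h
    have := MulAction.index_stabilizer_of_transitive G ω
    rw [h, Subgroup.index_top] at this
    omega
  obtain ⟨x, ⟨p, k, hp, hx⟩, hxR⟩ := derPP_of_simple hcore _ G le_rfl _ hH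
  refine ⟨p, k, x, hp, ?_, hx, fun a ha => ?_⟩
  · by_contra hk
    have hk0 : k = 0 := by omega
    rw [hk0, pow_zero, orderOf_eq_one_iff] at hx
    refine hxR 1 ?_
    rw [hx]
    simp
  · obtain ⟨g, rfl⟩ := ht.exists_smul_eq ω a
    refine hxR g⁻¹ ?_
    rw [MulAction.mem_stabilizer_iff, inv_inv, mul_smul, mul_smul, ha, inv_smul_smul]

end Cfsg.Agent.H278.El
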