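import Cfsg.Agent.H278.ElDefs
import Cfsg.Agent.PermutationGroups.OnanScott

/-!
# Elusive groups: minimal normal subgroups and the core theorem
-/

set_option autoImplicit false

namespace Cfsg.Agent.H278.El

open Subgroup Cfsg.Agent.PermutationGroups.OnanScott

section

variable {G : Type*} [Group G] {N : Subgroup G} {m : ℕ} {T : Fin m → Subgroup G}

theorem conj_coord (e : N ≃* (∀ i, T i))
    (he : ∀ i (t : T i), ((e.symm (Pi.mulSingle i t) : N) : G) = t)
    (n : N) (i : Fin m) (t : T i) :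
    (n : G) * t * (n : G)⁻¹ = ((e n i * t * (e n i)⁻¹ : T i) : G) := by
  have h1 : n * e.symm (Pi.mulSingle i t) * n⁻¹ =
      e.symm (Pi.mulSingle i (e n i * t * (e n i)⁻¹)) := by
    apply e.injective
    rw [map_mul, map_mul, map_inv, e.apply_symm_apply, e.apply_symm_apply]
    funext j
    rw [Pi.mul_apply, Pi.mul_apply, Pi.inv_apply]
    by_cases hj : j = i
    · subst hj
      rw [Pi.mulSingle_eq_same, Pi.mulSingle_eq_same]
    · rw [Pi.mulSingle_eq_of_ne hj, Pi.mulSingle_eq_of_ne hj, mul_one, mul_inv_cancel]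
  have h2 := congrArg (Subtype.val : N → G) h1
  rw [he] at h2
  rw [← h2]
  push_cast
  rw [he]

theorem le_of_factors (e : N ≃* (∀ i, T i))
    (he : ∀ i (t : T i), ((e.symm (Pi.mulSingle i t) : N) : G) = t)
    (H : Subgroup G) (h : ∀ i, T i ≤ H) : N ≤ H := by
  have h1 : Subgroup.pi Set.univ (fun i => (⊤ : Subgroup (T i))) ≤
      (H.subgroupOf N).comap e.symm.toMonoidHom := by
    rw [Subgroup.pi_le_iff]
    rintro i _ ⟨t, -, rfl⟩
    rw [Subgroup.mem_comap, Subgroup.mem_subgroupOf]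
    change ((e.symm (Pi.mulSingle i t) : N) : G) ∈ H
    rw [he]
    exact h i t.2
  intro n hn
  have h2 := h1 (x := e ⟨n, hn⟩) (by rw [Subgroup.mem_pi]; intro i _; trivial)
  rw [Subgroup.mem_comap, Subgroup.mem_subgroupOf] at h2
  change ((e.symm (e ⟨n, hn⟩) : N) : G) ∈ H at h2
  rwa [e.symm_apply_apply] at h2

/-- one direction of the product decomposition -/
theorem mem_of_coords (e : N ≃* (∀ i, T i))
    (he : ∀ i (t : T i), ((e.symm (Pi.mulSingle i t) : N) : G) = t)
    (H : Subgroup G) (n : N) (h : ∀ i, ((e n i : T i) : G) ∈ H) : (n : G) ∈ H := by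
  have h1 : Subgroup.pi Set.univ (fun i => H.subgroupOf (T i)) ≤
      (H.subgroupOf N).comap e.symm.toMonoidHom := by
    rw [Subgroup.pi_le_iff]
    rintro i _ ⟨t, ht, rfl⟩
    rw [Subgroup.mem_comap, Subgroup.mem_subgroupOf]
    change ((e.symm (Pi.mulSingle i t) : N) : G) ∈ H
    rw [he]
    exact ht
  have h2 := h1 (x := e n) (by rw [Subgroup.mem_pi]; intro i _; exact h i)
  rw [Subgroup.mem_comap, Subgroup.mem_subgroupOf] at h2
  change ((e.symm (e n) : N) : G) ∈ H at h2
  rwa [e.symm_apply_apply] at h2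

/-- an element of a factor which is conjugate into `H` is conjugate into `H` inside the factor -/
theorem exists_conj_factor (e : N ≃* (∀ i, T i))
    (he : ∀ i (t : T i), ((e.symm (Pi.mulSingle i t) : N) : G) = t)
    (H : Subgroup G) (hHN : ∀ g : G, ∃ h ∈ H, ∃ n ∈ N, h * n = g) (i : Fin m) (t : T i)
    (h : ∃ g : G, g * (t : G) * g⁻¹ ∈ H) :
    ∃ s : T i, s * t * s⁻¹ ∈ H.subgroupOf (T i) := by
  obtain ⟨g, hg⟩ := h
  obtain ⟨h, hh, n, hn, rfl⟩ := hHN g
  refine ⟨e ⟨n, hn⟩ i, ?_⟩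
  rw [Subgroup.mem_subgroupOf, ← conj_coord e he ⟨n, hn⟩ i t]
  have h2 := H.mul_mem (H.mul_mem (H.inv_mem hh) hg) hh
  have h3 : h⁻¹ * (h * n * (t : G) * (h * n)⁻¹) * h = n * t * n⁻¹ := by group
  rwa [h3] at h2

/-- the projection of `H ∩ N` to the factor `T i` -/
def proj (e : N ≃* (∀ i, T i)) (H : Subgroup G) (i : Fin m) : Subgroup (T i) :=
  (H.subgroupOf N).map ((Pi.evalMonoidHom _ i).comp e.toMonoidHom)

theorem mem_proj (e : N ≃* (∀ i, T i)) (H : Subgroup G) (i : Fin m) (t : T i) :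
    t ∈ proj e H i ↔ ∃ n : N, (n : G) ∈ H ∧ e n i = t := Iff.rfl

theorem subgroupOf_le_proj (e : N ≃* (∀ i, T i))
    (he : ∀ i (t : T i), ((e.symm (Pi.mulSingle i t) : N) : G) = t)
    (H : Subgroup G) (i : Fin m) : H.subgroupOf (T i) ≤ proj e H i := by
  intro t ht
  rw [mem_proj]
  refine ⟨e.symm (Pi.mulSingle i t), ?_, ?_⟩
  · rw [he]; exact ht
  · rw [e.apply_symm_apply, Pi.mulSingle_eq_same]

/-- the projection normalises the intersection -/
theorem proj_le_normalizer (e : N ≃* (∀ i, T i))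
    (he : ∀ i (t : T i), ((e.symm (Pi.mulSingle i t) : N) : G) = t)
    (H : Subgroup G) (i : Fin m) (s : T i) (hs : s ∈ proj e H i) (t : T i)
    (ht : t ∈ H.subgroupOf (T i)) : s * t * s⁻¹ ∈ H.subgroupOf (T i) := by
  obtain ⟨n, hn, rfl⟩ := (mem_proj e H i s).1 hs
  rw [Subgroup.mem_subgroupOf, ← conj_coord e he n i t]
  exact H.mul_mem (H.mul_mem hn ht) (H.inv_mem hn)

/-- **Structure theorem.** `N` is a product of the non-abelian simple groups `T i`, `G = H N`,
`H` permutes the `T i` transitively, `N` is not contained in `H`, every element of prime order of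
each `T i` is conjugate into `H`. Then each `T i` is `M11`, `H ∩ T i` is simple of order `660`
and `H ∩ N` is the product of the `H ∩ T i`. -/
theorem structure_of_core (e : N ≃* (∀ i, T i))
    (he : ∀ i (t : T i), ((e.symm (Pi.mulSingle i t) : N) : G) = t)
    (hsimple : ∀ i, IsSimpleGroup (T i))
    (hcore : ∀ i, ClT (T i))
    (H : Subgroup G) (hHN : ∀ g : G, ∃ h ∈ H, ∃ n ∈ N, h * n = g) (hNH : ¬ N ≤ H)
    (htransH : ∀ i j, ∃ h ∈ H, T j = (T i).map (MulAut.conj h).toMonoidHom)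
    (hmeet : ∀ i (t : T i), (orderOf t).Prime → ∃ g : G, g * (t : G) * g⁻¹ ∈ H) :
    (∀ i, M11Pair (T i) (H.subgroupOf (T i))) ∧
      ∀ n : N, (n : G) ∈ H ↔ ∀ i, e n i ∈ H.subgroupOf (T i) := by
  have hnd : ∀ i, ¬ DerT (T i) (H.subgroupOf (T i)) := by
    rintro i ⟨t, ht, hn⟩
    obtain ⟨s, hs⟩ := exists_conj_factor e he H hHN i t (hmeet i t ht)
    exact hn s hs
  have hne : ∀ i, H.subgroupOf (T i) ≠ ⊤ := by
    intro i hi
    apply hNH
    apply le_of_factors e he
    intro j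
    obtain ⟨h, hh, hj⟩ := htransH i j
    rw [Subgroup.subgroupOf_eq_top] at hi
    rw [hj]
    rintro _ ⟨t, ht, rfl⟩
    exact H.mul_mem (H.mul_mem hh (hi ht)) (H.inv_mem hh)
  have hpair : ∀ i, M11Pair (T i) (H.subgroupOf (T i)) := fun i =>
    (hcore i _ (hne i)).resolve_left (hnd i)
  refine ⟨hpair, fun n => ⟨fun hn i => ?_, fun h => mem_of_coords e he H n h⟩⟩
  -- the projection is contained in the normaliser, which equals `H ∩ T i`
  have hs := hsimple i
  have hRb : H.subgroupOf (T i) ≠ ⊥ := by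
    intro h
    have h1 := (hpair i).2.1
    rw [h, Subgroup.card_bot] at h1
    omega
  have hNe : normalizer ((H.subgroupOf (T i) : Subgroup (T i)) : Set (T i)) ≠ ⊤ := by
    intro h
    have hnorm : (H.subgroupOf (T i)).Normal := Subgroup.normalizer_eq_top_iff.1 h
    rcases IsSimpleGroup.eq_bot_or_eq_top_of_normal _ hnorm with h1 | h1
    · exact hRb h1
    · exact hne i h1
  have hle : H.subgroupOf (T i) ≤
      normalizer ((H.subgroupOf (T i) : Subgroup (T i)) : Set (T i)) := le_normalizer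
  have hnd2 : ¬ DerT (T i) (normalizer ((H.subgroupOf (T i) : Subgroup (T i)) : Set (T i))) :=
    fun h => hnd i (h.mono hle)
  have hp2 := (hcore i _ hNe).resolve_left hnd2
  have hfin : Finite (normalizer ((H.subgroupOf (T i) : Subgroup (T i)) : Set (T i))) :=
    Nat.finite_of_card_ne_zero (by rw [hp2.2.1]; norm_num)
  have heq : H.subgroupOf (T i) =
      normalizer ((H.subgroupOf (T i) : Subgroup (T i)) : Set (T i)) := by
    apply Subgroup.eq_of_le_of_card_ge hle
    rw [hp2.2.1, (hpair i).2.1]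
  rw [heq, Subgroup.mem_normalizer_iff]
  have hmemp : e n i ∈ proj e H i := (mem_proj e H i _).2 ⟨n, hn, rfl⟩
  intro t
  constructor
  · exact fun ht => proj_le_normalizer e he H i _ hmemp t ht
  · intro ht
    have h1 := proj_le_normalizer e he H i _ ((proj e H i).inv_mem hmemp) _ ht
    have h2 : (e n i)⁻¹ * (e n i * t * (e n i)⁻¹) * ((e n i)⁻¹)⁻¹ = t := by group
    rwa [h2] at h1

end

end Cfsg.Agent.H278.El
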