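import Cfsg.Agent.H436.KFour

/-!
# TEAM ELUSIVE: prime divisors of the orders of the classical groups

For every classical name `g` (rank parameter in range, `psl` with `n ≥ 3`) and every prime `u` dividing one of the
cyclotomic factors of the order, `u` divides the order.
-/

set_option autoImplicit false

namespace Cfsg.Agent.H278.El.Num

open Cfsg.Agent.OrdDiv Cfsg.Agent.H436

variable {q c : ℕ}

theorem dvd_c {u P X : ℕ} {d : ℕ} (hu : u.Prime) (hd : ¬ u ∣ d) (h : d * c = P * X) (hX : u ∣ X) : u ∣ c := by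
  have h1 : u ∣ d * c := by rw [h]; exact hX.mul_left _
  exact (hu.dvd_mul.1 h1).resolve_left hd

theorem not_dvd_of_sq {u : ℕ} (h : ¬ u ∣ q ^ 2 - 1) : ¬ u ∣ q - 1 ∧ ¬ u ∣ q + 1 := by
  rw [sq_sub] at h
  exact ⟨fun h1 => h (h1.mul_left _), fun h1 => h (h1.mul_right _)⟩

theorem dvd_of_mq {u : ℕ} (h : q * (q ^ 2 - 1) ∣ c) (hu : u ∣ q ^ 2 - 1) : u ∣ c :=
  (hu.mul_left _).trans h

/-- `u ∤ gcd k 4`-type denominators -/
theorem not_dvd_four {u k : ℕ} (hq : 2 ≤ q) (hu : u.Prime) (h : ¬ u ∣ q ^ 2 - 1) (hk : Even q → ¬ 2 ∣ k) :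
    ¬ u ∣ Nat.gcd 4 k := by
  intro h1
  have h2 : u ∣ 2 := by
    have : u ∣ 2 ^ 2 := h1.trans (Nat.gcd_dvd_left _ _)
    exact hu.dvd_of_dvd_pow this
  have h3 : u = 2 := (Nat.prime_dvd_prime_iff_eq hu Nat.prime_two).1 h2
  subst h3
  rcases Nat.even_or_odd q with he | ho
  · exact hk he (h1.trans (Nat.gcd_dvd_right _ _))
  · apply h
    obtain ⟨j, rfl⟩ := ho
    exact ⟨2 * j ^ 2 + 2 * j, by
      have : (2 * j + 1) ^ 2 = 2 * (2 * j ^ 2 + 2 * j) + 1 := by ring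
      omega⟩

theorem psl_dvd {n i u : ℕ} (hn : 3 ≤ n) (hq : 2 ≤ q) (h : den (.psl n q) * c = num (.psl n q))
    (hi : i ≤ n) (hu : u.Prime) (hd : u ∣ q ^ i - 1) (hi1 : 1 ≤ i) : u ∣ c := by
  by_cases h2 : u ∣ q ^ 2 - 1
  · exact dvd_of_mq (psl_mq hn hq h) h2
  · obtain ⟨h3, -⟩ := not_dvd_of_sq h2
    have h1 : Nat.gcd n (q - 1) * (q - 1) * c = 1 * glN n q := by rw [one_mul]; exact h
    refine dvd_c hu ?_ h1 ?_
    · intro h4
      rcases hu.dvd_mul.1 h4 with h5 | h5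
      · exact h3 (h5.trans (Nat.gcd_dvd_right _ _))
      · exact h3 h5
    · have h4 := dvd_list (fun i => q ^ n - q ^ i) (n := n) (i := n - i) (by omega)
      refine Dvd.dvd.trans ?_ h4
      rw [pow_sub_pow q (show n = (n - i) + i by omega)]
      exact hd.mul_left _

theorem even_pow_sub {m : ℕ} (hq : Even q) (hq2 : 2 ≤ q) (hm : 1 ≤ m) : ¬ 2 ∣ q ^ m - 1 := by
  intro h
  have h1 : Even (q ^ m) := hq.pow_of_ne_zero (by omega)
  have h2 : 1 ≤ q ^ m := Nat.one_le_pow _ _ (by omega)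
  obtain ⟨a, ha⟩ := h1
  omega

theorem even_pow_add {m : ℕ} (hq : Even q) (hm : 1 ≤ m) : ¬ 2 ∣ q ^ m + 1 := by
  intro h
  have h1 : Even (q ^ m) := hq.pow_of_ne_zero (by omega)
  obtain ⟨a, ha⟩ := h1
  omega

theorem psp_dvd {m i u : ℕ} (hm : 2 ≤ m) (h : den (.psp m q) * c = num (.psp m q))
    (hi1 : 1 ≤ i) (hi : i ≤ m) (hu : u.Prime) (hd : u ∣ q ^ (2 * i) - 1) : u ∣ c := by
  by_cases h2 : u ∣ q ^ 2 - 1
  · exact dvd_of_mq (psp_mq hm h) h2
  · obtain ⟨h3, -⟩ := not_dvd_of_sq h2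
    have h1 : Nat.gcd 2 (q - 1) * c = q ^ (m ^ 2) * prB q m := h
    refine dvd_c hu (fun h4 => h3 (h4.trans (Nat.gcd_dvd_right _ _))) h1 ?_
    have := prB_dvd (q := q) (m := m) (i := i - 1) (by omega)
    rw [Nat.sub_add_cancel hi1] at this
    exact hd.trans this

theorem oodd_dvd {m i u : ℕ} (hm : 3 ≤ m) (hq : Odd q) (h : den (.oodd m q) * c = num (.oodd m q))
    (hi1 : 1 ≤ i) (hi : i ≤ m) (hu : u.Prime) (hd : u ∣ q ^ (2 * i) - 1) : u ∣ c := by
  by_cases h2 : u ∣ q ^ 2 - 1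
  · exact dvd_of_mq (oodd_mq (by omega) hq h) h2
  · have h1 : 2 * c = q ^ (m ^ 2) * prB q m := h
    refine dvd_c hu (fun h4 => h2 ?_) h1 ?_
    · obtain ⟨j, rfl⟩ := hq
      refine h4.trans ⟨2 * j ^ 2 + 2 * j, ?_⟩
      have : (2 * j + 1) ^ 2 = 2 * (2 * j ^ 2 + 2 * j) + 1 := by ring
      omega
    · have := prB_dvd (q := q) (m := m) (i := i - 1) (by omega)
      rw [Nat.sub_add_cancel hi1] at this
      exact hd.trans this

theorem oplus_dvd {m i u : ℕ} (hm : 4 ≤ m) (hq : 2 ≤ q) (h : den (.oplus m q) * c = num (.oplus m q))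
    (hi1 : 1 ≤ i) (hi : i ≤ m - 1) (hu : u.Prime) (hd : u ∣ q ^ (2 * i) - 1) : u ∣ c := by
  by_cases h2 : u ∣ q ^ 2 - 1
  · exact dvd_of_mq (oplus_mq hm h) h2
  · have h1 : Nat.gcd 4 (q ^ m - 1) * c = q ^ (m * (m - 1)) * ((q ^ m - 1) * prB q (m - 1)) := h
    refine dvd_c hu (not_dvd_four hq hu h2 fun he => even_pow_sub he hq (by omega)) h1 ?_
    have := prB_dvd (q := q) (m := m - 1) (i := i - 1) (by omega)
    rw [Nat.sub_add_cancel hi1] at this
    exact (hd.trans this).mul_left _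

theorem oplus_dvd' {m u : ℕ} (hm : 4 ≤ m) (hq : 2 ≤ q) (h : den (.oplus m q) * c = num (.oplus m q))
    (hu : u.Prime) (hd : u ∣ q ^ m - 1) : u ∣ c := by
  by_cases h2 : u ∣ q ^ 2 - 1
  · exact dvd_of_mq (oplus_mq hm h) h2
  · have h1 : Nat.gcd 4 (q ^ m - 1) * c = q ^ (m * (m - 1)) * ((q ^ m - 1) * prB q (m - 1)) := h
    exact dvd_c hu (not_dvd_four hq hu h2 fun he => even_pow_sub he hq (by omega)) h1 (hd.mul_right _)

theorem ominus_dvd {m i u : ℕ} (hm : 4 ≤ m) (hq : 2 ≤ q) (h : den (.ominus m q) * c = num (.ominus m q))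
    (hi1 : 1 ≤ i) (hi : i ≤ m - 1) (hu : u.Prime) (hd : u ∣ q ^ (2 * i) - 1) : u ∣ c := by
  by_cases h2 : u ∣ q ^ 2 - 1
  · exact dvd_of_mq (ominus_mq hm h) h2
  · have h1 : Nat.gcd 4 (q ^ m + 1) * c = q ^ (m * (m - 1)) * ((q ^ m + 1) * prB q (m - 1)) := h
    refine dvd_c hu (not_dvd_four hq hu h2 fun he => even_pow_add he (by omega)) h1 ?_
    have := prB_dvd (q := q) (m := m - 1) (i := i - 1) (by omega)
    rw [Nat.sub_add_cancel hi1] at this
    exact (hd.trans this).mul_left _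

theorem ominus_dvd' {m u : ℕ} (hm : 4 ≤ m) (hq : 2 ≤ q) (h : den (.ominus m q) * c = num (.ominus m q))
    (hu : u.Prime) (hd : u ∣ q ^ m + 1) : u ∣ c := by
  by_cases h2 : u ∣ q ^ 2 - 1
  · exact dvd_of_mq (ominus_mq hm h) h2
  · have h1 : Nat.gcd 4 (q ^ m + 1) * c = q ^ (m * (m - 1)) * ((q ^ m + 1) * prB q (m - 1)) := h
    exact dvd_c hu (not_dvd_four hq hu h2 fun he => even_pow_add he (by omega)) h1 (hd.mul_right _)

/-- the `i`-th factor of the unitary order, `i ≥ 1` -/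
def vU (q i : ℕ) : ℕ := if Nat.beq (i % 2) 0 then q ^ i - 1 else q ^ i + 1

theorem psu_dvd {n i u : ℕ} (hn : 3 ≤ n) (h : den (.psu n q) * c = num (.psu n q))
    (hi1 : 1 ≤ i) (hi : i ≤ n) (hu : u.Prime) (hd : u ∣ vU q i) : u ∣ c := by
  by_cases h2 : u ∣ q ^ 2 - 1
  · exact dvd_of_mq (psu_mq hn h) h2
  · obtain ⟨-, h3⟩ := not_dvd_of_sq h2
    have h1 : Nat.gcd n (q + 1) * (q + 1) * c = q ^ (n * (n - 1) / 2) * prU q n := h
    refine dvd_c hu ?_ h1 ?_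
    · intro h4
      rcases hu.dvd_mul.1 h4 with h5 | h5
      · exact h3 (h5.trans (Nat.gcd_dvd_right _ _))
      · exact h3 h5
    · have h4 := dvd_list (fU q) (n := n) (i := i - 1) (by omega)
      refine Dvd.dvd.trans ?_ h4
      have h5 : fU q (i - 1) = vU q i := by
        unfold fU vU
        rw [Nat.sub_add_cancel hi1]
        rcases Nat.even_or_odd' i with ⟨k, hk | hk⟩
        · have h6 : (i - 1) % 2 = 1 := by omega
          have h7 : i % 2 = 0 := by omega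
          rw [h6, h7]; rfl
        · have h6 : (i - 1) % 2 = 0 := by omega
          have h7 : i % 2 = 1 := by omega
          rw [h6, h7]; rfl
      rw [h5]
      exact hd

theorem psl_p {n : ℕ} (hn : 3 ≤ n) (hq : 2 ≤ q) (h : den (.psl n q) * c = num (.psl n q)) : q ∣ c :=
  (Dvd.intro _ rfl).trans (psl_mq hn hq h)

end Cfsg.Agent.H278.El.Num
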