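import Cfsg.Agent.H278.ElAltNum
import Cfsg.Agent.H264.FKS.Char
import Cfsg.Agent.H264.FKS.Socle
import Cfsg.Agent.H290.ElFin
import Cfsg.Agent.H189.FeitTits
import Cfsg.Agent.H499.TTSmall
import Cfsg.Agent.S0254

/-!
# TEAM ELUSIVE: alternating and sporadic socles in classical groups

`T` a classical simple group (not `PSL_2`) with name `gT`, `R < T` almost simple with socle `S`:
* `spor_row` : `S` sporadic or the Tits group: a prime divisor of `|T|` does not divide `|R|`, or one of five pairs;
* `alt_row` : `S ≅ A_m`, with `m ≤ N + 2` if `9 ≤ m`: the same, or `T` is in the list `AltNum.surv`;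
* `alt_bound` : `m ≤ N + 2` if `A_m`, `m ≥ 9`, is the quotient of `P ≤ GL(ι, F)`, `|ι| = N`.
-/

set_option autoImplicit false

namespace Cfsg.Agent.H278.El.ResRow

open Cfsg Cfsg.Agent.OrdDiv Cfsg.Agent.H436 Cfsg.Agent.H264.FKS
open Cfsg.Agent.H278.El.SporNum (IsCl exc)
open Cfsg.Agent.H278.El.AltNum (dimOf surv alt_main)

section rows

variable {T : Type} [Group T] [Finite T] {gT : Grp} {R : Subgroup T}

omit [Finite T] in
theorem card_dvd (S : Subgroup R) : Nat.card S ∣ Nat.card T :=
  (Subgroup.card_subgroup_dvd_card S).trans (Subgroup.card_subgroup_dvd_card R)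

theorem ord_of_spor : ∀ x ∈ spor, ordN x.1 = x.2 := by decide +kernel

/-- **Sporadic socle.** -/
theorem spor_row (hT : IsNamed gT T) (hcl : IsCl gT) (S : Subgroup R) [S.Normal]
    (hC : Subgroup.centralizer (S : Set R) = ⊥) {x : Grp × ℕ} (hx : x ∈ spor) (hS : IsNamed x.1 S)
    (hexc : (x.1, gT) ∉ exc) : Miss R := by
  by_contra hcon
  apply hexc
  have hfull : Full T R := by
    intro r hr hd
    by_contra h1
    exact hcon ⟨r, hr, hd, h1⟩
  have h1 : Nat.card S = x.2 := by rw [hS.ord, ord_of_spor x hx]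
  refine Cfsg.Agent.H278.El.SporNum.main hx hT.cond hcl hT.eq hT.ord ?_ ?_
  · rw [← h1]
    exact card_dvd S
  · intro u hu hd
    rw [← h1]
    refine H290.ElFin.prime_dvd_of_oddInn hC (H290.ElFin.oddInn_of_spor hx hS.real) ?_ hu (hfull u hu hd)
    rw [h1]
    exact (show 2 ∣ 6 by norm_num).trans (H290.ElFin.six_dvd x hx)

/-! ### alternating socle -/

theorem card_aut_six : ∀ u : ℕ, u.Prime → u ∣ Nat.card (MulAut (alternatingGroup (Fin 6))) → u ≤ 5 := by
  intro u hu hd
  have := Fact.mk Nat.prime_three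
  let : Fintype (GaloisField 3 2) := Fintype.ofFinite _
  have h9 : Fintype.card (GaloisField 3 2) = 9 := by
    rw [← Nat.card_eq_fintype_card, GaloisField.card 3 2 (by norm_num)]
    norm_num
  obtain ⟨e⟩ := Cfsg.Agent.S0254.result h9
  have h1 := H499.TT.card_out_psl2 (F := GaloisField 3 2) (p := 3) (f := 2) Nat.prime_three (by norm_num)
    (by rw [h9]; norm_num) (by norm_num)
  have h2 := H499.TT.card_alt (n := 6) (by norm_num)
  have h3 : Nat.card (alternatingGroup (Fin 6)) = 360 := by
    have : Nat.factorial 6 = 720 := by decide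
    omega
  have h4 : Nat.card (Matrix.ProjectiveSpecialLinearGroup (Fin 2) (GaloisField 3 2)) = 360 := by
    rw [Nat.card_congr e.toEquiv, h3]
  have hs : IsSimpleGroup (Matrix.ProjectiveSpecialLinearGroup (Fin 2) (GaloisField 3 2)) := by
    have : IsSimpleGroup (alternatingGroup (Fin 6)) := alternatingGroup.isSimpleGroup (by rw [Nat.card_eq_fintype_card, Fintype.card_fin]; norm_num)
    exact e.isSimpleGroup
  have hna : ¬ IsMulCommutative (Matrix.ProjectiveSpecialLinearGroup (Fin 2) (GaloisField 3 2)) := by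
    intro hc
    let : CommGroup (Matrix.ProjectiveSpecialLinearGroup (Fin 2) (GaloisField 3 2)) :=
      { mul_comm := hc.is_comm.comm }
    have h5 := IsSimpleGroup.prime_card (α := Matrix.ProjectiveSpecialLinearGroup (Fin 2) (GaloisField 3 2))
    rw [h4] at h5
    exact absurd h5 (by norm_num)
  have h5 := H934.OutB.card_out_mul (Matrix.ProjectiveSpecialLinearGroup (Fin 2) (GaloisField 3 2)) hna
  rw [Nat.card_congr (MulAut.congr e.symm).toEquiv, ← h5, h1, h4] at hd
  have h6 : u ∣ 30 ^ 6 := hd.trans (by decide)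
  have h7 := Nat.le_of_dvd (by norm_num) (hu.dvd_of_dvd_pow h6)
  have h8 : u ∣ 30 := hu.dvd_of_dvd_pow h6
  by_contra hcon
  push Not at hcon
  interval_cases u <;> first | (exact absurd hu (by decide)) | (exact absurd h8 (by decide))

theorem prime_le {m : ℕ} (hm : 5 ≤ m) {u : ℕ} (hu : u.Prime)
    (hd : u ∣ Nat.card (MulAut (alternatingGroup (Fin m)))) : u ≤ m := by
  by_cases h6 : m = 6
  · subst h6
    exact (card_aut_six u hu hd).trans (by norm_num)
  · have h1 : Nat.card (MulAut (alternatingGroup (Fin m))) = Nat.card (Equiv.Perm (Fin m)) :=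
      (Nat.card_congr (Equiv.ofBijective _ (S2119.result m (by omega) h6))).symm
    rw [h1, Nat.card_perm, Nat.card_eq_fintype_card, Fintype.card_fin] at hd
    exact (hu.dvd_factorial).1 hd

theorem sixty_dvd {m : ℕ} (hm : 5 ≤ m) : 60 ∣ Nat.card (alternatingGroup (Fin m)) := by
  have h1 := H499.TT.card_alt hm
  have h2 : (5).factorial ∣ m.factorial := Nat.factorial_dvd_factorial hm
  rw [← h1] at h2
  exact Nat.dvd_of_mul_dvd_mul_left (show 0 < 2 by norm_num) h2

/-- **Alternating socle.** -/
theorem alt_row (hT : IsNamed gT T) (hcl : IsCl gT) (S : Subgroup R) [S.Normal]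
    (hC : Subgroup.centralizer (S : Set R) = ⊥) {m : ℕ} (hm : 5 ≤ m) (e : S ≃* alternatingGroup (Fin m))
    (hN : 9 ≤ m → m ≤ dimOf gT + 2) (hsurv : gT ∉ surv) : Miss R := by
  by_contra hcon
  apply hsurv
  have hfull : Full T R := by
    intro r hr hd
    by_contra h1
    exact hcon ⟨r, hr, hd, h1⟩
  refine alt_main hT.cond hcl hT.eq hT.ord (m := m) ?_ ?_ hN
  · intro u hu hd
    have h1 := (hfull u hu hd).trans (dvd_aut S hC)
    rw [Nat.card_congr (MulAut.congr e).toEquiv] at h1
    exact prime_le hm hu h1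
  · have h1 : 60 ∣ Nat.card S := by
      rw [Nat.card_congr e.toEquiv]
      exact sixty_dvd hm
    exact h1.trans (card_dvd S)

end rows

/-- the degree of an alternating section of a linear group -/
theorem alt_bound {ι : Type} [Fintype ι] [DecidableEq ι] {F : Type} [Field F] [Finite F] (P : Subgroup (GL ι F))
    (K : Subgroup P) [K.Normal] {m : ℕ} (hm : 9 ≤ m) (e : P ⧸ K ≃* alternatingGroup (Fin m)) :
    m ≤ Fintype.card ι + 2 := by
  obtain ⟨p, hp⟩ := CharP.exists F
  have h1 := Cfsg.Agent.H189.FeitTits.feit_tits p (V := ι → F) hm (e.toMonoidHom.comp (QuotientGroup.mk' K))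
    (e.surjective.comp (QuotientGroup.mk'_surjective K))
    (((Matrix.toLinAlgEquiv' : Matrix ι ι F ≃ₐ[F] _).toAlgHom.toRingHom.toMonoidHom.comp
      (Units.coeHom (Matrix ι ι F))).comp P.subtype) ?_
  · rw [Module.finrank_fintype_fun_eq_card] at h1
    split_ifs at h1 <;> omega
  · intro g hg
    have h2 : g = 1 := Subtype.ext (((Matrix.toLinAlgEquiv' : Matrix ι ι F ≃ₐ[F] _).injective.comp
      Units.val_injective) (by rw [← map_one ((Matrix.toLinAlgEquiv' : Matrix ι ι F ≃ₐ[F] _))] at hg; exact hg))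
    rw [h2, map_one]

end Cfsg.Agent.H278.El.ResRow
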