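import Cfsg.Agent.H278.ElTop
import Cfsg.Agent.H946.RowF4
import Cfsg.Agent.H371.El.TwF
import Cfsg.Agent.H983.ElG.Cl

/-!
# TEAM ELUSIVE: all rows, the core statement without hypotheses
-/

set_option autoImplicit false

namespace Cfsg.Agent.H278.El.Asm

open Cfsg Cfsg.Agent.OrdDiv Cfsg.Agent.H436 Cfsg.Agent.H290.ElEng Cfsg.Agent.H290.ElRich

universe u

theorem clT_f4 (tab : OrderTable.{0}) (hK : Kn) {q : ℕ} {T : Type} [Group T] [Finite T]
    (h : IsNamed (.f4 q) T) : ClT T :=
  H946.Soc.clT_F4 asThm (richFix hK) (fun S _ _ _ hna => named_of_simple tab hK hna) h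

theorem clT_tf4 (tab : OrderTable.{0}) (hK : Kn) {q : ℕ} {T : Type} [Group T] [Finite T]
    (h : IsNamed (.tf4 q) T) : ClT T :=
  clT_of_full fun _ hR => H371.El.full_TF4 asThm (richFix hK)
    (fun _ _ _ _ hna => named_of_simple tab hK hna) h hR

theorem clT_g2 (tab : OrderTable.{0}) (hK : Kn) {q : ℕ} {T : Type} [Group T] [Finite T]
    (h : IsNamed (.g2 q) T) : ClT T :=
  H983.ElG.clT_g2 asThm (richFix hK) (fun _ _ _ _ hna => named_of_simple tab hK hna) h

theorem clT_td4 (tab : OrderTable.{0}) (hK : Kn) {q : ℕ} {T : Type} [Group T] [Finite T]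
    (h : IsNamed (.td4 q) T) : ClT T :=
  H983.ElG.clT_td4 asThm (richFix hK) (fun _ _ _ _ hna => named_of_simple tab hK hna) h

/-- all exceptional rows -/
theorem excRows (tab : OrderTable.{0}) (hK : Kn) : ExcRows where
  g2 := clT_g2 tab hK
  f4 := clT_f4 tab hK
  e6 := clT_e6 tab hK
  e7 := clT_e7 tab hK
  e8 := clT_e8 tab hK
  te6 := clT_te6 tab hK
  td4 := clT_td4 tab hK
  tf4 := clT_tf4 tab hK

/-- **The core of TEAM ELUSIVE**: every proper subgroup of a finite simple group `T` misses a class of elements of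
prime order, except `L2(11) < M11`. -/
theorem coreTop : CoreStmt.{u} := coreAll (excRows OrdDiv.table known)

end Cfsg.Agent.H278.El.Asm
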