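import Cfsg.Agent.H278.ElSporNum

/-!
# TEAM ELUSIVE: the sieve of classical groups all of whose primes divide a given number

`okB s A D E` (to be checked by `decide +kernel`) implies: if `T` is a classical simple group (not `PSL_2`) in
characteristic `≠ s` with name `g`, `D ∣ |T|` and every prime divisor of `|T|` divides `A`, then `g ∈ E`.
-/

set_option autoImplicit false

namespace Cfsg.Agent.H278.El.Sieve

open Cfsg.Agent.OrdDiv Cfsg.Agent.H436 Cfsg.Agent.H278.El.Num
open Cfsg.Agent.H278.El.SporNum (sm sm_of walk walk_spec prim_le IsCl)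

def primes73 : List ℕ := [2, 3, 5, 7, 11, 13, 17, 19, 23, 29, 31, 37, 41, 43, 47, 53, 59, 61, 67, 71, 73]

theorem mem_primes73 {u : ℕ} (hu : u.Prime) (h : u ≤ 73) : u ∈ primes73 := by
  have key : ∀ u ≤ 73, u.Prime → u ∈ primes73 := by decide +kernel
  exact key u h hu

/-- smoothness bounds the exponent -/
theorem exp_le {p e : ℕ} (hp : p.Prime) (h : ∀ u : ℕ, u.Prime → u ∣ p ^ e - 1 → u ≤ 73) : e ≤ 72 := by
  by_contra hcon
  push Not at hcon
  obtain ⟨r, hr⟩ := exists_prim hp.two_le (show 3 ≤ e by omega) (fun h => by omega)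
  have h1 := h r hr.prime (hr.dvd dvd_rfl)
  have := prim_le hr
  omega

theorem pow_lt {p e : ℕ} (hp : p ≤ 73) (he : e ≤ 72) : p ^ e + 1 < 2 ^ 512 := by
  have h1 : p ^ e ≤ 73 ^ e := Nat.pow_le_pow_left hp _
  have h2 : 73 ^ e ≤ 73 ^ 72 := Nat.pow_le_pow_right (by norm_num) he
  have h3 : (73 : ℕ) ^ 72 + 1 < 2 ^ 512 := by decide +kernel
  omega

/-- the field order of a classical name -/
def qOf : Grp → ℕ
  | .psl _ q => q
  | .psp _ q => q
  | .psu _ q => q
  | .oodd _ q => q
  | .oplus _ q => q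
  | .ominus _ q => q
  | _ => 0

def tstG (D : ℕ) (E : List Grp) (g : Grp) : Bool := !(Nat.beq (ordN g % D) 0) || decide (g ∈ E)

def chkG (A D : ℕ) (E : List Grp) (q : ℕ) : Bool :=
  !(sm A (q ^ 2 - 1)) ||
  (walk (fun n => q ^ n - 1) A (fun n => Nat.blt n 3 || tstG D E (.psl n q)) 73 2 &&
  walk (fun m => q ^ (2 * m) - 1) A (fun m => (Nat.blt m 2 || tstG D E (.psp m q)) &&
    (Nat.blt m 3 || Nat.beq (q % 2) 0 || tstG D E (.oodd m q))) 73 1 &&
  walk (fun i => q ^ (2 * i) - 1) A (fun i => Nat.blt i 3 ||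
    ((!(sm A (q ^ (i + 1) - 1)) || tstG D E (.oplus (i + 1) q)) &&
      (!(sm A (q ^ (i + 1) + 1)) || tstG D E (.ominus (i + 1) q)))) 73 1 &&
  walk (vU q) A (fun n => Nat.blt n 3 || tstG D E (.psu n q)) 73 2)

/-- the check: `s` is the excluded characteristic (`0`: none), `A` the allowed primes, `D` the divisor, `E` the
list of survivors -/
def okB (s A D : ℕ) (E : List Grp) : Bool :=
  (!(Nat.beq A 0) && Nat.beq (Nat.factorial 73 ^ 60 % A) 0) &&
  primes73.all fun p => Nat.beq p s || !(Nat.beq (A % p) 0) ||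
    (List.range 36).all fun j => chkG A D E (p ^ (j + 1))

/-- `A` is nonzero and its prime divisors are at most `73` -/
structure OkA (A : ℕ) : Prop where
  ne : A ≠ 0
  le : ∀ u : ℕ, u.Prime → u ∣ A → u ≤ 73

theorem ok_A {s A D : ℕ} {E : List Grp} (hok : okB s A D E = true) : OkA A := by
  unfold okB at hok
  rw [Bool.and_eq_true, Bool.and_eq_true] at hok
  refine ⟨fun h => ?_, fun u hu hd => ?_⟩
  · rw [h] at hok
    exact absurd hok.1.1 (by decide)
  · have h2 := hok.1.2
    rw [Nat.beq_eq] at h2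
    have h3 : u ∣ Nat.factorial 73 ^ 60 := hd.trans (Nat.dvd_of_mod_eq_zero h2)
    exact (hu.dvd_factorial).1 (hu.dvd_of_dvd_pow h3)

theorem le_71 {A : ℕ} (h : OkA A) {u : ℕ} (hu : u.Prime) (hd : u ∣ A) : u ≤ 73 := h.le u hu hd

section

variable {A p f : ℕ}

theorem sm_sub (hA : OkA A) (hp : p.Prime) (hp71 : p ≤ 73) {e : ℕ} (he : 1 ≤ e)
    (h : ∀ u : ℕ, u.Prime → u ∣ p ^ e - 1 → u ∣ A) : e ≤ 72 ∧ sm A (p ^ e - 1) = true := by
  have h70 : e ≤ 72 := exp_le hp fun u hu hd => hA.le u hu (h u hu hd)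
  refine ⟨h70, sm_of hA.ne ?_ ?_ h⟩
  · have : 2 ^ 1 ≤ p ^ e := (Nat.pow_le_pow_left hp.two_le 1).trans (Nat.pow_le_pow_right hp.pos he)
    omega
  · have := pow_lt hp71 h70
    omega

theorem sm_add (hA : OkA A) (hp71 : p ≤ 73) {e : ℕ} (he : e ≤ 72)
    (h : ∀ u : ℕ, u.Prime → u ∣ p ^ e + 1 → u ∣ A) : sm A (p ^ e + 1) = true :=
  sm_of hA.ne (by omega) (pow_lt hp71 he) h

end

/-- the checks for `q = p ^ f` -/
theorem chk_of {s A D : ℕ} {E : List Grp} (hok : okB s A D E = true) {p f : ℕ} (hp : p.Prime) (hf : 1 ≤ f)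
    (hpA : p ∣ A) (hps : p ≠ s)
    (h : ∀ u : ℕ, u.Prime → u ∣ (p ^ f) ^ 2 - 1 → u ∣ A) :
    p ≤ 73 ∧ sm A ((p ^ f) ^ 2 - 1) = true ∧ chkG A D E (p ^ f) = true := by
  have hA := ok_A hok
  have hp71 := hA.le p hp hpA
  have h1 := sm_sub hA hp hp71 (e := f * 2) (by omega) (by rw [pow_mul]; exact h)
  unfold okB at hok
  rw [Bool.and_eq_true, List.all_eq_true] at hok
  have h4 := hok.2 p (mem_primes73 hp hp71)
  rw [Bool.or_eq_true, Bool.or_eq_true] at h4
  refine ⟨hp71, by rw [← pow_mul]; exact h1.2, ?_⟩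
  rcases h4 with (h4 | h4) | h4
  · rw [Nat.beq_eq] at h4
    exact absurd h4 hps
  · rw [Nat.mod_eq_zero_of_dvd hpA] at h4
    exact absurd h4 (by decide)
  · rw [List.all_eq_true] at h4
    have h5 := h4 (f - 1) (by rw [List.mem_range]; omega)
    rwa [Nat.sub_add_cancel hf] at h5

theorem tst_spec {D : ℕ} {E : List Grp} {g : Grp} (h : tstG D E g = true) (hd : D ∣ ordN g) : g ∈ E := by
  unfold tstG at h
  rw [Bool.or_eq_true] at h
  rcases h with h | h
  · rw [Nat.mod_eq_zero_of_dvd hd] at h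
    exact absurd h (by decide)
  · exact of_decide_eq_true h

/-- **The sieve.** -/
theorem main {s A D : ℕ} {E : List Grp} (hok : okB s A D E = true) {g : Grp} (hg : Cond g) (hcl : IsCl g)
    (hs : ¬ s ∣ qOf g) {c : ℕ} (he : den g * c = num g) (hc : c = ordN g) (hd : D ∣ c)
    (hp : ∀ u : ℕ, u.Prime → u ∣ c → u ∣ A) : g ∈ E := by
  cases g with
  | psl n q =>
    have hn : 3 ≤ n := hcl
    obtain ⟨p, f, hpr, hf, rfl⟩ := (isPrimePow_nat_iff _).1 hg.2.2
    have hq : 2 ≤ p ^ f := hg.2.2.two_le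
    have hmq := psl_mq hn hq he
    have hpA : p ∣ A := hp p hpr (((dvd_pow_self p (by omega)).mul_right _).trans hmq)
    obtain ⟨hp71, hsm, hchk⟩ := chk_of hok hpr hf hpA (fun h => hs (h ▸ dvd_pow_self p (by omega))) fun u hu hd => hp u hu (dvd_of_mq hmq hd)
    have hall : ∀ i, 1 ≤ i → i ≤ n → f * i ≤ 72 ∧ sm A ((p ^ f) ^ i - 1) = true := fun i hi1 hi2 => by
      have := sm_sub (ok_A hok) hpr hp71 (e := f * i) (by nlinarith) (by
        rw [pow_mul]
        exact fun u hu hd => hp u hu (psl_dvd hn hq he hi2 hu hd hi1))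
      rwa [pow_mul] at this
    have hn70 : n ≤ 72 := by have := (hall n (by omega) le_rfl).1; nlinarith
    unfold chkG at hchk
    rw [hsm] at hchk
    simp only [Bool.not_true, Bool.false_or, Bool.and_eq_true] at hchk
    have h1 := walk_spec 73 2 n hchk.1.1.1 (by omega) (by omega) fun i hi1 hi2 => (hall i (by omega) hi2).2
    rw [Bool.or_eq_true] at h1
    rcases h1 with h1 | h1
    · rw [Nat.blt_eq] at h1; omega
    · exact tst_spec h1 (hc ▸ hd)
  | psp m q =>
    have hm : 2 ≤ m := hg.1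
    obtain ⟨p, f, hpr, hf, rfl⟩ := (isPrimePow_nat_iff _).1 hg.2.2
    have hq : 2 ≤ p ^ f := hg.2.2.two_le
    have hmq := psp_mq hm he
    have hpA : p ∣ A := hp p hpr (((dvd_pow_self p (by omega)).mul_right _).trans hmq)
    obtain ⟨hp71, hsm, hchk⟩ := chk_of hok hpr hf hpA (fun h => hs (h ▸ dvd_pow_self p (by omega))) fun u hu hd => hp u hu (dvd_of_mq hmq hd)
    have hall : ∀ i, 1 ≤ i → i ≤ m → f * (2 * i) ≤ 72 ∧ sm A ((p ^ f) ^ (2 * i) - 1) = true :=
      fun i hi1 hi2 => by
      have := sm_sub (ok_A hok) hpr hp71 (e := f * (2 * i)) (by nlinarith) (by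
        rw [pow_mul]
        exact fun u hu hd => hp u hu (psp_dvd hm he hi1 hi2 hu hd))
      rwa [pow_mul] at this
    have hn70 : m ≤ 36 := by have := (hall m (by omega) le_rfl).1; nlinarith
    unfold chkG at hchk
    rw [hsm] at hchk
    simp only [Bool.not_true, Bool.false_or, Bool.and_eq_true] at hchk
    have h1 := walk_spec 73 1 m hchk.1.1.2 (by omega) (by omega) fun i hi1 hi2 => (hall i (by omega) hi2).2
    rw [Bool.and_eq_true] at h1
    have h2 := h1.1
    rw [Bool.or_eq_true] at h2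
    rcases h2 with h2 | h2
    · rw [Nat.blt_eq] at h2; omega
    · exact tst_spec h2 (hc ▸ hd)
  | oodd m q =>
    have hm : 3 ≤ m := hg.1
    obtain ⟨p, f, hpr, hf, rfl⟩ := (isPrimePow_nat_iff _).1 hg.2.2
    have hq : 2 ≤ p ^ f := hg.2.2.two_le
    have hmq := oodd_mq (by omega) hg.2.1 he
    have hpA : p ∣ A := hp p hpr (((dvd_pow_self p (by omega)).mul_right _).trans hmq)
    obtain ⟨hp71, hsm, hchk⟩ := chk_of hok hpr hf hpA (fun h => hs (h ▸ dvd_pow_self p (by omega))) fun u hu hd => hp u hu (dvd_of_mq hmq hd)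
    have hall : ∀ i, 1 ≤ i → i ≤ m → f * (2 * i) ≤ 72 ∧ sm A ((p ^ f) ^ (2 * i) - 1) = true :=
      fun i hi1 hi2 => by
      have := sm_sub (ok_A hok) hpr hp71 (e := f * (2 * i)) (by nlinarith) (by
        rw [pow_mul]
        exact fun u hu hd => hp u hu (oodd_dvd hm hg.2.1 he hi1 hi2 hu hd))
      rwa [pow_mul] at this
    have hn70 : m ≤ 36 := by have := (hall m (by omega) le_rfl).1; nlinarith
    unfold chkG at hchk
    rw [hsm] at hchk
    simp only [Bool.not_true, Bool.false_or, Bool.and_eq_true] at hchk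
    have h1 := walk_spec 73 1 m hchk.1.1.2 (by omega) (by omega) fun i hi1 hi2 => (hall i (by omega) hi2).2
    rw [Bool.and_eq_true] at h1
    have h2 := h1.2
    rw [Bool.or_eq_true, Bool.or_eq_true] at h2
    rcases h2 with (h2 | h2) | h2
    · rw [Nat.blt_eq] at h2; omega
    · rw [Nat.beq_eq] at h2
      have := Nat.odd_iff.1 hg.2.1
      omega
    · exact tst_spec h2 (hc ▸ hd)
  | oplus m q =>
    have hm : 4 ≤ m := hg.1
    obtain ⟨p, f, hpr, hf, rfl⟩ := (isPrimePow_nat_iff _).1 hg.2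
    have hq : 2 ≤ p ^ f := hg.2.two_le
    have hmq := oplus_mq hm he
    have hpA : p ∣ A := hp p hpr (((dvd_pow_self p (by omega)).mul_right _).trans hmq)
    obtain ⟨hp71, hsm, hchk⟩ := chk_of hok hpr hf hpA (fun h => hs (h ▸ dvd_pow_self p (by omega))) fun u hu hd => hp u hu (dvd_of_mq hmq hd)
    have hall : ∀ i, 1 ≤ i → i ≤ m - 1 → f * (2 * i) ≤ 72 ∧ sm A ((p ^ f) ^ (2 * i) - 1) = true :=
      fun i hi1 hi2 => by
      have := sm_sub (ok_A hok) hpr hp71 (e := f * (2 * i)) (by nlinarith) (by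
        rw [pow_mul]
        exact fun u hu hd => hp u hu (oplus_dvd hm hq he hi1 hi2 hu hd))
      rwa [pow_mul] at this
    have hn70 : m - 1 ≤ 36 := by have := (hall (m - 1) (by omega) le_rfl).1; nlinarith
    have hW : sm A ((p ^ f) ^ m - 1) = true := by
      have := (sm_sub (ok_A hok) hpr hp71 (e := f * m) (by nlinarith) (by
        rw [pow_mul]
        exact fun u hu hd => hp u hu (oplus_dvd' hm hq he hu hd))).2
      rwa [pow_mul] at this
    unfold chkG at hchk
    rw [hsm] at hchk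
    simp only [Bool.not_true, Bool.false_or, Bool.and_eq_true] at hchk
    have h1 := walk_spec 73 1 (m - 1) hchk.1.2 (by omega) (by omega) fun i hi1 hi2 => (hall i (by omega) hi2).2
    rw [Nat.sub_add_cancel (by omega : 1 ≤ m), hW, Bool.or_eq_true, Bool.and_eq_true] at h1
    rcases h1 with h2 | ⟨h2, -⟩
    · rw [Nat.blt_eq] at h2; omega
    · exact tst_spec (by simpa using h2) (hc ▸ hd)
  | ominus m q =>
    have hm : 4 ≤ m := hg.1
    obtain ⟨p, f, hpr, hf, rfl⟩ := (isPrimePow_nat_iff _).1 hg.2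
    have hq : 2 ≤ p ^ f := hg.2.two_le
    have hmq := ominus_mq hm he
    have hpA : p ∣ A := hp p hpr (((dvd_pow_self p (by omega)).mul_right _).trans hmq)
    obtain ⟨hp71, hsm, hchk⟩ := chk_of hok hpr hf hpA (fun h => hs (h ▸ dvd_pow_self p (by omega))) fun u hu hd => hp u hu (dvd_of_mq hmq hd)
    have hall : ∀ i, 1 ≤ i → i ≤ m - 1 → f * (2 * i) ≤ 72 ∧ sm A ((p ^ f) ^ (2 * i) - 1) = true :=
      fun i hi1 hi2 => by
      have := sm_sub (ok_A hok) hpr hp71 (e := f * (2 * i)) (by nlinarith) (by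
        rw [pow_mul]
        exact fun u hu hd => hp u hu (ominus_dvd hm hq he hi1 hi2 hu hd))
      rwa [pow_mul] at this
    have hn70 : f * (2 * (m - 1)) ≤ 72 := (hall (m - 1) (by omega) le_rfl).1
    have hn35 : m - 1 ≤ 36 := by nlinarith
    have hW : sm A ((p ^ f) ^ m + 1) = true := by
      have := sm_add (ok_A hok) hp71 (e := f * m) (by
        have h3 : f * m ≤ f * (2 * (m - 1)) := Nat.mul_le_mul_left _ (by omega)
        omega) (by
        rw [pow_mul]
        exact fun u hu hd => hp u hu (ominus_dvd' hm hq he hu hd))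
      rwa [pow_mul] at this
    unfold chkG at hchk
    rw [hsm] at hchk
    simp only [Bool.not_true, Bool.false_or, Bool.and_eq_true] at hchk
    have h1 := walk_spec 73 1 (m - 1) hchk.1.2 (by omega) (by omega) fun i hi1 hi2 => (hall i (by omega) hi2).2
    rw [Nat.sub_add_cancel (by omega : 1 ≤ m), hW, Bool.or_eq_true, Bool.and_eq_true] at h1
    rcases h1 with h2 | ⟨-, h2⟩
    · rw [Nat.blt_eq] at h2; omega
    · exact tst_spec (by simpa using h2) (hc ▸ hd)
  | psu n q =>
    have hn : 3 ≤ n := hg.1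
    obtain ⟨p, f, hpr, hf, rfl⟩ := (isPrimePow_nat_iff _).1 hg.2.2
    have hq : 2 ≤ p ^ f := hg.2.2.two_le
    have hmq := psu_mq hn he
    have hpA : p ∣ A := hp p hpr (((dvd_pow_self p (by omega)).mul_right _).trans hmq)
    obtain ⟨hp71, hsm, hchk⟩ := chk_of hok hpr hf hpA (fun h => hs (h ▸ dvd_pow_self p (by omega))) fun u hu hd => hp u hu (dvd_of_mq hmq hd)
    have hev : ∀ i, 1 ≤ i → i ≤ n → i % 2 = 0 → f * i ≤ 72 ∧ sm A ((p ^ f) ^ i - 1) = true :=
      fun i hi1 hi2 hi => by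
      have := sm_sub (ok_A hok) hpr hp71 (e := f * i) (by nlinarith) (by
        rw [pow_mul]
        refine fun u hu hd => hp u hu (psu_dvd hn he hi1 hi2 hu ?_)
        unfold vU
        rw [hi]
        exact hd)
      rwa [pow_mul] at this
    have hbig : ∀ i, 1 ≤ i → i ≤ n → f * i ≤ 72 := by
      intro i hi1 hi2
      rcases Nat.even_or_odd' i with ⟨k, hk | hk⟩
      · exact (hev i hi1 hi2 (by omega)).1
      · -- use the primitive prime of exponent `2 f i`
        by_contra hcon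
        push Not at hcon
        obtain ⟨r, hr⟩ := exists_prim hpr.two_le (show 3 ≤ f * (2 * i) by nlinarith)
          (fun h => by have := h.2; nlinarith)
        have h1 : r ∣ (p ^ f) ^ i + 1 := by
          rw [← pow_mul]
          refine hr.dvd_add (m := f * i) (by rw [show 2 * (f * i) = f * (2 * i) by ring]) ?_
          intro h2
          have := Nat.le_of_dvd (by nlinarith) h2
          nlinarith
        have h2 := le_71 (ok_A hok) hr.prime (hp r hr.prime (psu_dvd hn he hi1 hi2 hr.prime (by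
          unfold vU
          rw [show i % 2 = 1 by omega]
          exact h1)))
        have := prim_le hr
        nlinarith
    have hall : ∀ i, 1 ≤ i → i ≤ n → sm A (vU (p ^ f) i) = true := by
      intro i hi1 hi2
      rcases Nat.even_or_odd' i with ⟨k, hk | hk⟩
      · have h3 := (hev i hi1 hi2 (by omega)).2
        unfold vU
        rw [show i % 2 = 0 by omega]
        exact h3
      · have h4 := sm_add (ok_A hok) hp71 (hbig i hi1 hi2) (by
          rw [pow_mul]
          refine fun u hu hd => hp u hu (psu_dvd hn he hi1 hi2 hu ?_)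
          unfold vU
          rw [show i % 2 = 1 by omega]
          exact hd)
        unfold vU
        rw [show i % 2 = 1 by omega]
        rwa [pow_mul] at h4
    have hn70 : n ≤ 72 := by have := hbig n (by omega) le_rfl; nlinarith
    unfold chkG at hchk
    rw [hsm] at hchk
    simp only [Bool.not_true, Bool.false_or, Bool.and_eq_true] at hchk
    have h1 := walk_spec 73 2 n hchk.2 (by omega) (by omega) fun i hi1 hi2 => hall i (by omega) hi2
    rw [Bool.or_eq_true] at h1
    rcases h1 with h1 | h1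
    · rw [Nat.blt_eq] at h1; omega
    · exact tst_spec h1 (hc ▸ hd)
  | _ => exact hcl.elim

end Cfsg.Agent.H278.El.Sieve
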