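import Cfsg.Agent.H278.ElNum

/-!
# TEAM ELUSIVE: sporadic groups inside classical groups, by orders

If `S` is sporadic (or the Tits group), `T` is a classical simple group (not `PSL_2`) with `|S| ∣ |T|` and every
prime divisor of `|T|` divides `|S|`, then `(S, T)` is one of
`(M11, U5(2))`, `(M12, U5(2))`, `(M22, U6(2))`, `(J1, L3(11))`, `(J2, O8+(2))`.
-/

set_option autoImplicit false

namespace Cfsg.Agent.H278.El.SporNum

open Cfsg.Agent.OrdDiv Cfsg.Agent.H436 Cfsg.Agent.H278.El.Num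

/-- every prime divisor of `V` divides `N` (for `V < 2 ^ 512`) -/
def sm (N V : ℕ) : Bool := Nat.beq (N ^ 512 % V) 0

theorem sm_of {N V : ℕ} (hN : N ≠ 0) (hV : V ≠ 0) (hV2 : V < 2 ^ 512)
    (h : ∀ u : ℕ, u.Prime → u ∣ V → u ∣ N) : sm N V = true := by
  unfold sm
  rw [Nat.beq_eq]
  apply Nat.mod_eq_zero_of_dvd
  rw [← Nat.factorization_le_iff_dvd hV (pow_ne_zero _ hN)]
  intro u
  rw [Nat.factorization_pow]
  by_cases hu : u.Prime
  · by_cases hd : u ∣ V
    · have h1 : 1 ≤ N.factorization u := (hu.dvd_iff_one_le_factorization hN).1 (h u hu hd)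
      have h2 : u ^ (V.factorization u) ≤ V := Nat.ordProj_le u hV
      have h3 : 2 ^ (V.factorization u) ≤ u ^ (V.factorization u) := Nat.pow_le_pow_left hu.two_le _
      have h4 : V.factorization u < 512 := by
        by_contra hcon
        push Not at hcon
        have := Nat.pow_le_pow_right (show 0 < 2 by norm_num) hcon
        omega
      simp only [Finsupp.coe_smul, Pi.smul_apply, smul_eq_mul]
      nlinarith
    · rw [Nat.factorization_eq_zero_of_not_dvd hd]
      exact Nat.zero_le _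
  · rw [Nat.factorization_eq_zero_of_not_prime V hu]
    exact Nat.zero_le _

/-- walk along the ranks as long as the new factor is smooth -/
def walk (V : ℕ → ℕ) (N : ℕ) (t : ℕ → Bool) : ℕ → ℕ → Bool
  | 0, _ => true
  | k + 1, n => if sm N (V n) then t n && walk V N t k (n + 1) else true

theorem walk_spec {V : ℕ → ℕ} {N : ℕ} {t : ℕ → Bool} : ∀ (k n0 n : ℕ), walk V N t k n0 = true → n0 ≤ n →
    n < n0 + k → (∀ i, n0 ≤ i → i ≤ n → sm N (V i) = true) → t n = true
  | 0, n0, n, _, h1, h2, _ => by omega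
  | k + 1, n0, n, h, h1, h2, h3 => by
    unfold walk at h
    rw [if_pos (h3 n0 le_rfl h1), Bool.and_eq_true] at h
    rcases Nat.eq_or_lt_of_le h1 with rfl | h4
    · exact h.1
    · exact walk_spec k (n0 + 1) n h.2 h4 (by omega) fun i hi1 hi2 => h3 i (by omega) hi2

/-- the exceptional pairs -/
def exc : List (Grp × Grp) := [(.m11, .psu 5 2), (.m12, .psu 5 2), (.m22, .psu 6 2), (.j1, .psl 3 11),
  (.j2, .oplus 4 2)]

def tst (x : Grp × ℕ) (g : Grp) : Bool := !(Nat.beq (ordN g % x.2) 0) || decide ((x.1, g) ∈ exc)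

def chk (x : Grp × ℕ) (q : ℕ) : Bool :=
  !(sm x.2 (q ^ 2 - 1)) ||
  (walk (fun n => q ^ n - 1) x.2 (fun n => Nat.blt n 3 || tst x (.psl n q)) 71 2 &&
  walk (fun m => q ^ (2 * m) - 1) x.2 (fun m => (Nat.blt m 2 || tst x (.psp m q)) &&
    (Nat.blt m 3 || Nat.beq (q % 2) 0 || tst x (.oodd m q))) 71 1 &&
  walk (fun i => q ^ (2 * i) - 1) x.2 (fun i => Nat.blt i 3 ||
    ((!(sm x.2 (q ^ (i + 1) - 1)) || tst x (.oplus (i + 1) q)) &&
      (!(sm x.2 (q ^ (i + 1) + 1)) || tst x (.ominus (i + 1) q)))) 71 1 &&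
  walk (vU q) x.2 (fun n => Nat.blt n 3 || tst x (.psu n q)) 71 2)

def primes71 : List ℕ := [2, 3, 5, 7, 11, 13, 17, 19, 23, 29, 31, 37, 41, 43, 47, 53, 59, 61, 67, 71]

def chkAll : Bool := spor.all fun x => primes71.all fun p => !(Nat.beq (x.2 % p) 0) ||
  (List.range 35).all fun j => chk x (p ^ (j + 1))

set_option maxRecDepth 100000 in
theorem chkAll_ok : chkAll = true := by decide +kernel

/-! ### extraction -/

def fact71 : Bool := spor.all fun x => Nat.beq (Nat.factorial 71 ^ 60 % x.2) 0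

theorem fact71_ok : fact71 = true := by decide +kernel

theorem le_71 {x : Grp × ℕ} (hx : x ∈ spor) {u : ℕ} (hu : u.Prime) (hd : u ∣ x.2) : u ≤ 71 := by
  have h1 := fact71_ok
  unfold fact71 at h1
  rw [List.all_eq_true] at h1
  have h2 := h1 x hx
  rw [Nat.beq_eq] at h2
  have h3 : u ∣ Nat.factorial 71 ^ 60 := hd.trans (Nat.dvd_of_mod_eq_zero h2)
  exact (hu.dvd_factorial).1 (hu.dvd_of_dvd_pow h3)

theorem spor_ne {x : Grp × ℕ} (hx : x ∈ spor) : x.2 ≠ 0 := by
  have : (spor.all fun x => !(Nat.beq x.2 0)) = true := by decide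
  rw [List.all_eq_true] at this
  intro h
  have h1 := this x hx
  rw [h] at h1
  exact absurd h1 (by decide)

theorem mem_primes71 {u : ℕ} (hu : u.Prime) (h : u ≤ 71) : u ∈ primes71 := by
  have key : ∀ u ≤ 71, u.Prime → u ∈ primes71 := by decide +kernel
  exact key u h hu

/-- a primitive prime of exponent `e` is at least `e + 1` -/
theorem prim_le {q e r : ℕ} (h : Prim q e r) : e + 1 ≤ r := by
  have h1 : r ∣ q ^ (r - 1) - 1 := by
    have hc : Nat.Coprime q r := ((Nat.Prime.coprime_iff_not_dvd h.prime).2 h.not_dvd).symm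
    have h2 := Nat.ModEq.pow_totient hc
    rw [Nat.totient_prime h.prime] at h2
    rcases Nat.eq_zero_or_pos q with rfl | hq
    · exact absurd (dvd_zero r) h.not_dvd
    · exact (Nat.modEq_iff_dvd' (Nat.one_le_pow _ _ hq)).1 h2.symm
  have h2 := Nat.le_of_dvd (by have := h.prime.two_le; omega) ((h.dvd_iff _).1 h1)
  have := h.prime.two_le
  omega

/-- smoothness bounds the exponent -/
theorem exp_le {p e : ℕ} (hp : p.Prime) (h : ∀ u : ℕ, u.Prime → u ∣ p ^ e - 1 → u ≤ 71) : e ≤ 70 := by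
  by_contra hcon
  push Not at hcon
  obtain ⟨r, hr⟩ := exists_prim hp.two_le (show 3 ≤ e by omega) (fun h => by omega)
  have h1 := h r hr.prime (hr.dvd dvd_rfl)
  have := prim_le hr
  omega

theorem pow_lt {p e : ℕ} (hp : p ≤ 71) (he : e ≤ 70) : p ^ e + 1 < 2 ^ 512 := by
  have h1 : p ^ e ≤ 71 ^ e := Nat.pow_le_pow_left hp _
  have h2 : 71 ^ e ≤ 71 ^ 70 := Nat.pow_le_pow_right (by norm_num) he
  have h3 : (71 : ℕ) ^ 70 + 1 < 2 ^ 512 := by decide +kernel
  omega

section

variable {x : Grp × ℕ} {p f : ℕ}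

theorem sm_sub (hx : x ∈ spor) (hp : p.Prime) (hp71 : p ≤ 71) {e : ℕ} (he : 1 ≤ e)
    (h : ∀ u : ℕ, u.Prime → u ∣ p ^ e - 1 → u ∣ x.2) : e ≤ 70 ∧ sm x.2 (p ^ e - 1) = true := by
  have h70 : e ≤ 70 := exp_le hp fun u hu hd => le_71 hx hu (h u hu hd)
  refine ⟨h70, sm_of (spor_ne hx) ?_ ?_ h⟩
  · have : 2 ^ 1 ≤ p ^ e := (Nat.pow_le_pow_left hp.two_le 1).trans (Nat.pow_le_pow_right hp.pos he)
    omega
  · have := pow_lt hp71 h70
    omega

theorem sm_add (hx : x ∈ spor) (hp71 : p ≤ 71) {e : ℕ} (he : e ≤ 70)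
    (h : ∀ u : ℕ, u.Prime → u ∣ p ^ e + 1 → u ∣ x.2) : sm x.2 (p ^ e + 1) = true :=
  sm_of (spor_ne hx) (by omega) (pow_lt hp71 he) h

end

/-- the checks for `x` and `q = p ^ f` -/
theorem chk_of {x : Grp × ℕ} (hx : x ∈ spor) {p f : ℕ} (hp : p.Prime) (hf : 1 ≤ f) (hpx : p ∣ x.2)
    (h : ∀ u : ℕ, u.Prime → u ∣ (p ^ f) ^ 2 - 1 → u ∣ x.2) :
    p ≤ 71 ∧ sm x.2 ((p ^ f) ^ 2 - 1) = true ∧ chk x (p ^ f) = true := by
  have hp71 := le_71 hx hp hpx
  have h1 := sm_sub hx hp hp71 (e := f * 2) (by omega) (by rw [pow_mul]; exact h)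
  have h2 := chkAll_ok
  unfold chkAll at h2
  rw [List.all_eq_true] at h2
  have h3 := h2 x hx
  rw [List.all_eq_true] at h3
  have h4 := h3 p (mem_primes71 hp hp71)
  rw [Bool.or_eq_true] at h4
  refine ⟨hp71, by rw [← pow_mul]; exact h1.2, ?_⟩
  rcases h4 with h4 | h4
  · rw [Nat.mod_eq_zero_of_dvd hpx] at h4
    exact absurd h4 (by decide)
  · rw [List.all_eq_true] at h4
    have h5 := h4 (f - 1) (by rw [List.mem_range]; omega)
    rwa [Nat.sub_add_cancel hf] at h5

theorem tst_spec {x : Grp × ℕ} {g : Grp} (h : tst x g = true) (hd : x.2 ∣ ordN g) : (x.1, g) ∈ exc := by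
  unfold tst at h
  rw [Bool.or_eq_true] at h
  rcases h with h | h
  · rw [Nat.mod_eq_zero_of_dvd hd] at h
    exact absurd h (by decide)
  · exact of_decide_eq_true h

/-- classical names, except `PSL_2` -/
def IsCl : Grp → Prop
  | .psl n _ => 3 ≤ n
  | .psp _ _ => True
  | .psu _ _ => True
  | .oodd _ _ => True
  | .oplus _ _ => True
  | .ominus _ _ => True
  | _ => False

/-- **Sporadic groups inside classical groups.** -/
theorem main {x : Grp × ℕ} (hx : x ∈ spor) {g : Grp} (hg : Cond g) (hcl : IsCl g) {c : ℕ}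
    (he : den g * c = num g) (hc : c = ordN g) (hd : x.2 ∣ c) (hp : ∀ u : ℕ, u.Prime → u ∣ c → u ∣ x.2) :
    (x.1, g) ∈ exc := by
  cases g with
  | psl n q =>
    have hn : 3 ≤ n := hcl
    obtain ⟨p, f, hpr, hf, rfl⟩ := (isPrimePow_nat_iff _).1 hg.2.2
    have hq : 2 ≤ p ^ f := hg.2.2.two_le
    have hmq := psl_mq hn hq he
    have hpx : p ∣ x.2 := hp p hpr (((dvd_pow_self p (by omega)).mul_right _).trans hmq)
    obtain ⟨hp71, hsm, hchk⟩ := chk_of hx hpr hf hpx fun u hu hd => hp u hu (dvd_of_mq hmq hd)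
    have hall : ∀ i, 1 ≤ i → i ≤ n → f * i ≤ 70 ∧ sm x.2 ((p ^ f) ^ i - 1) = true := fun i hi1 hi2 => by
      have := sm_sub hx hpr hp71 (e := f * i) (by nlinarith) (by
        rw [pow_mul]
        exact fun u hu hd => hp u hu (psl_dvd hn hq he hi2 hu hd hi1))
      rwa [pow_mul] at this
    have hn70 : n ≤ 70 := by have := (hall n (by omega) le_rfl).1; nlinarith
    unfold chk at hchk
    rw [hsm] at hchk
    simp only [Bool.not_true, Bool.false_or, Bool.and_eq_true] at hchk
    have h1 := walk_spec 71 2 n hchk.1.1.1 (by omega) (by omega) fun i hi1 hi2 => (hall i (by omega) hi2).2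
    rw [Bool.or_eq_true] at h1
    rcases h1 with h1 | h1
    · rw [Nat.blt_eq] at h1; omega
    · exact tst_spec h1 (hc ▸ hd)
  | psp m q =>
    have hm : 2 ≤ m := hg.1
    obtain ⟨p, f, hpr, hf, rfl⟩ := (isPrimePow_nat_iff _).1 hg.2.2
    have hq : 2 ≤ p ^ f := hg.2.2.two_le
    have hmq := psp_mq hm he
    have hpx : p ∣ x.2 := hp p hpr (((dvd_pow_self p (by omega)).mul_right _).trans hmq)
    obtain ⟨hp71, hsm, hchk⟩ := chk_of hx hpr hf hpx fun u hu hd => hp u hu (dvd_of_mq hmq hd)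
    have hall : ∀ i, 1 ≤ i → i ≤ m → f * (2 * i) ≤ 70 ∧ sm x.2 ((p ^ f) ^ (2 * i) - 1) = true :=
      fun i hi1 hi2 => by
      have := sm_sub hx hpr hp71 (e := f * (2 * i)) (by nlinarith) (by
        rw [pow_mul]
        exact fun u hu hd => hp u hu (psp_dvd hm he hi1 hi2 hu hd))
      rwa [pow_mul] at this
    have hn70 : m ≤ 35 := by have := (hall m (by omega) le_rfl).1; nlinarith
    unfold chk at hchk
    rw [hsm] at hchk
    simp only [Bool.not_true, Bool.false_or, Bool.and_eq_true] at hchk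
    have h1 := walk_spec 71 1 m hchk.1.1.2 (by omega) (by omega) fun i hi1 hi2 => (hall i (by omega) hi2).2
    rw [Bool.and_eq_true] at h1
    have h2 := h1.1
    rw [Bool.or_eq_true] at h2
    rcases h2 with h2 | h2
    · rw [Nat.blt_eq] at h2; omega
    · exact tst_spec h2 (hc ▸ hd)
  | oodd m q =>
    have hm : 3 ≤ m := hg.1
    obtain ⟨p, f, hpr, hf, rfl⟩ := (isPrimePow_nat_iff _).1 hg.2.2
    have hq : 2 ≤ p ^ f := hg.2.2.two_le
    have hmq := oodd_mq (by omega) hg.2.1 he
    have hpx : p ∣ x.2 := hp p hpr (((dvd_pow_self p (by omega)).mul_right _).trans hmq)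
    obtain ⟨hp71, hsm, hchk⟩ := chk_of hx hpr hf hpx fun u hu hd => hp u hu (dvd_of_mq hmq hd)
    have hall : ∀ i, 1 ≤ i → i ≤ m → f * (2 * i) ≤ 70 ∧ sm x.2 ((p ^ f) ^ (2 * i) - 1) = true :=
      fun i hi1 hi2 => by
      have := sm_sub hx hpr hp71 (e := f * (2 * i)) (by nlinarith) (by
        rw [pow_mul]
        exact fun u hu hd => hp u hu (oodd_dvd hm hg.2.1 he hi1 hi2 hu hd))
      rwa [pow_mul] at this
    have hn70 : m ≤ 35 := by have := (hall m (by omega) le_rfl).1; nlinarith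
    unfold chk at hchk
    rw [hsm] at hchk
    simp only [Bool.not_true, Bool.false_or, Bool.and_eq_true] at hchk
    have h1 := walk_spec 71 1 m hchk.1.1.2 (by omega) (by omega) fun i hi1 hi2 => (hall i (by omega) hi2).2
    rw [Bool.and_eq_true] at h1
    have h2 := h1.2
    rw [Bool.or_eq_true, Bool.or_eq_true] at h2
    rcases h2 with (h2 | h2) | h2
    · rw [Nat.blt_eq] at h2; omega
    · rw [Nat.beq_eq] at h2
      have := Nat.odd_iff.1 hg.2.1
      omega
    · exact tst_spec h2 (hc ▸ hd)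
  | oplus m q =>
    have hm : 4 ≤ m := hg.1
    obtain ⟨p, f, hpr, hf, rfl⟩ := (isPrimePow_nat_iff _).1 hg.2
    have hq : 2 ≤ p ^ f := hg.2.two_le
    have hmq := oplus_mq hm he
    have hpx : p ∣ x.2 := hp p hpr (((dvd_pow_self p (by omega)).mul_right _).trans hmq)
    obtain ⟨hp71, hsm, hchk⟩ := chk_of hx hpr hf hpx fun u hu hd => hp u hu (dvd_of_mq hmq hd)
    have hall : ∀ i, 1 ≤ i → i ≤ m - 1 → f * (2 * i) ≤ 70 ∧ sm x.2 ((p ^ f) ^ (2 * i) - 1) = true :=
      fun i hi1 hi2 => by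
      have := sm_sub hx hpr hp71 (e := f * (2 * i)) (by nlinarith) (by
        rw [pow_mul]
        exact fun u hu hd => hp u hu (oplus_dvd hm hq he hi1 hi2 hu hd))
      rwa [pow_mul] at this
    have hn70 : m - 1 ≤ 35 := by have := (hall (m - 1) (by omega) le_rfl).1; nlinarith
    have hW : sm x.2 ((p ^ f) ^ m - 1) = true := by
      have := (sm_sub hx hpr hp71 (e := f * m) (by nlinarith) (by
        rw [pow_mul]
        exact fun u hu hd => hp u hu (oplus_dvd' hm hq he hu hd))).2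
      rwa [pow_mul] at this
    unfold chk at hchk
    rw [hsm] at hchk
    simp only [Bool.not_true, Bool.false_or, Bool.and_eq_true] at hchk
    have h1 := walk_spec 71 1 (m - 1) hchk.1.2 (by omega) (by omega) fun i hi1 hi2 => (hall i (by omega) hi2).2
    rw [Nat.sub_add_cancel (by omega : 1 ≤ m), hW, Bool.or_eq_true, Bool.and_eq_true] at h1
    rcases h1 with h2 | ⟨h2, -⟩
    · rw [Nat.blt_eq] at h2; omega
    · exact tst_spec (by simpa using h2) (hc ▸ hd)
  | ominus m q =>
    have hm : 4 ≤ m := hg.1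
    obtain ⟨p, f, hpr, hf, rfl⟩ := (isPrimePow_nat_iff _).1 hg.2
    have hq : 2 ≤ p ^ f := hg.2.two_le
    have hmq := ominus_mq hm he
    have hpx : p ∣ x.2 := hp p hpr (((dvd_pow_self p (by omega)).mul_right _).trans hmq)
    obtain ⟨hp71, hsm, hchk⟩ := chk_of hx hpr hf hpx fun u hu hd => hp u hu (dvd_of_mq hmq hd)
    have hall : ∀ i, 1 ≤ i → i ≤ m - 1 → f * (2 * i) ≤ 70 ∧ sm x.2 ((p ^ f) ^ (2 * i) - 1) = true :=
      fun i hi1 hi2 => by
      have := sm_sub hx hpr hp71 (e := f * (2 * i)) (by nlinarith) (by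
        rw [pow_mul]
        exact fun u hu hd => hp u hu (ominus_dvd hm hq he hi1 hi2 hu hd))
      rwa [pow_mul] at this
    have hn70 : f * (2 * (m - 1)) ≤ 70 := (hall (m - 1) (by omega) le_rfl).1
    have hn35 : m - 1 ≤ 35 := by nlinarith
    have hW : sm x.2 ((p ^ f) ^ m + 1) = true := by
      have := sm_add hx hp71 (e := f * m) (by
        have h3 : f * m ≤ f * (2 * (m - 1)) := Nat.mul_le_mul_left _ (by omega)
        omega) (by
        rw [pow_mul]
        exact fun u hu hd => hp u hu (ominus_dvd' hm hq he hu hd))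
      rwa [pow_mul] at this
    unfold chk at hchk
    rw [hsm] at hchk
    simp only [Bool.not_true, Bool.false_or, Bool.and_eq_true] at hchk
    have h1 := walk_spec 71 1 (m - 1) hchk.1.2 (by omega) (by omega) fun i hi1 hi2 => (hall i (by omega) hi2).2
    rw [Nat.sub_add_cancel (by omega : 1 ≤ m), hW, Bool.or_eq_true, Bool.and_eq_true] at h1
    rcases h1 with h2 | ⟨-, h2⟩
    · rw [Nat.blt_eq] at h2; omega
    · exact tst_spec (by simpa using h2) (hc ▸ hd)
  | psu n q =>
    have hn : 3 ≤ n := hg.1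
    obtain ⟨p, f, hpr, hf, rfl⟩ := (isPrimePow_nat_iff _).1 hg.2.2
    have hq : 2 ≤ p ^ f := hg.2.2.two_le
    have hmq := psu_mq hn he
    have hpx : p ∣ x.2 := hp p hpr (((dvd_pow_self p (by omega)).mul_right _).trans hmq)
    obtain ⟨hp71, hsm, hchk⟩ := chk_of hx hpr hf hpx fun u hu hd => hp u hu (dvd_of_mq hmq hd)
    have hev : ∀ i, 1 ≤ i → i ≤ n → i % 2 = 0 → f * i ≤ 70 ∧ sm x.2 ((p ^ f) ^ i - 1) = true :=
      fun i hi1 hi2 hi => by
      have := sm_sub hx hpr hp71 (e := f * i) (by nlinarith) (by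
        rw [pow_mul]
        refine fun u hu hd => hp u hu (psu_dvd hn he hi1 hi2 hu ?_)
        unfold vU
        rw [hi]
        exact hd)
      rwa [pow_mul] at this
    have hbig : ∀ i, 1 ≤ i → i ≤ n → f * i ≤ 70 := by
      intro i hi1 hi2
      rcases Nat.even_or_odd' i with ⟨k, hk | hk⟩
      · exact (hev i hi1 hi2 (by omega)).1
      · -- use the primitive prime of exponent `2 f i`
        by_contra hcon
        push Not at hcon
        obtain ⟨r, hr⟩ := exists_prim hpr.two_le (show 3 ≤ f * (2 * i) by nlinarith)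
          (fun h => by have := h.2; nlinarith)
        have h1 : r ∣ (p ^ f) ^ i + 1 := by
          rw [← pow_mul]
          refine hr.dvd_add (m := f * i) (by rw [show 2 * (f * i) = f * (2 * i) by ring]) ?_
          intro h2
          have := Nat.le_of_dvd (by nlinarith) h2
          nlinarith
        have h2 := le_71 hx hr.prime (hp r hr.prime (psu_dvd hn he hi1 hi2 hr.prime (by
          unfold vU
          rw [show i % 2 = 1 by omega]
          exact h1)))
        have := prim_le hr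
        nlinarith
    have hall : ∀ i, 1 ≤ i → i ≤ n → sm x.2 (vU (p ^ f) i) = true := by
      intro i hi1 hi2
      rcases Nat.even_or_odd' i with ⟨k, hk | hk⟩
      · have h3 := (hev i hi1 hi2 (by omega)).2
        unfold vU
        rw [show i % 2 = 0 by omega]
        exact h3
      · have h4 := sm_add hx hp71 (hbig i hi1 hi2) (by
          rw [pow_mul]
          refine fun u hu hd => hp u hu (psu_dvd hn he hi1 hi2 hu ?_)
          unfold vU
          rw [show i % 2 = 1 by omega]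
          exact hd)
        unfold vU
        rw [show i % 2 = 1 by omega]
        rwa [pow_mul] at h4
    have hn70 : n ≤ 70 := by have := hbig n (by omega) le_rfl; nlinarith
    unfold chk at hchk
    rw [hsm] at hchk
    simp only [Bool.not_true, Bool.false_or, Bool.and_eq_true] at hchk
    have h1 := walk_spec 71 2 n hchk.2 (by omega) (by omega) fun i hi1 hi2 => hall i (by omega) hi2
    rw [Bool.or_eq_true] at h1
    rcases h1 with h1 | h1
    · rw [Nat.blt_eq] at h1; omega
    · exact tst_spec h1 (hc ▸ hd)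
  | _ => exact hcl.elim

end Cfsg.Agent.H278.El.SporNum
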