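import Cfsg.Agent.H278.El3552

/-!
# Product action of `M11 wr S_k`: every element of prime order fixes a point
-/

set_option autoImplicit false

namespace Cfsg.Agent.H278.El

open Subgroup MulAction Cfsg.Agent.PermutationGroups.OnanScott Cfsg.Agent.Lib.MinNormal

universe u

section

variable {G : Type u} [Group G]

theorem mem_map_conj {K : Subgroup G} {g x : G} :
    x ∈ K.map (MulAut.conj g).toMonoidHom ↔ g⁻¹ * x * g ∈ K := by
  constructor
  · rintro ⟨y, hy, rfl⟩
    have : g⁻¹ * (MulAut.conj g).toMonoidHom y * g = y := by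
      change g⁻¹ * (g * y * g⁻¹) * g = y
      group
    rw [this]; exact hy
  · intro h
    refine ⟨_, h, ?_⟩
    change g * (g⁻¹ * x * g) * g⁻¹ = x
    group

theorem map_conj_one (K : Subgroup G) : K.map (MulAut.conj (1 : G)).toMonoidHom = K := by
  ext x
  rw [mem_map_conj]
  simp

variable [Finite G] {N : Subgroup G} {m : ℕ} {T : Fin m → Subgroup G}

/-- **Product action lemma.** `N` is the product of the `T i ≅ M11`, `G = H N`, `H ∩ T i` is
self-normalising in `T i`, `H ∩ N` is the product of the `H ∩ T i` and every element of prime order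
of `T i` is conjugate in `T i` into `H`. Then every element of prime order of `G` is conjugate
into `H`. -/
theorem exists_conj_of_product (e : N ≃* (∀ i, T i))
    (he : ∀ i (t : T i), ((e.symm (Pi.mulSingle i t) : N) : G) = t)
    (hTN : ∀ i, T i ≤ N)
    (hTn : ∀ i, N ≤ normalizer (T i : Set G))
    (hconj : ∀ (g : G) i, ∃ j, T j = (T i).map (MulAut.conj g).toMonoidHom)
    (H : Subgroup G) (hHN : ∀ g : G, ∃ h ∈ H, ∃ n ∈ N, h * n = g)
    (hinn : ∀ i (φ : MulAut (T i)), ∃ s : T i, φ = MulAut.conj s)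
    (hcent : ∀ i (s : T i), (∀ t : T i, s * t = t * s) → s = 1)
    (hself : ∀ i (s : T i), (∀ t ∈ H.subgroupOf (T i), s * t * s⁻¹ ∈ H.subgroupOf (T i)) →
      s ∈ H.subgroupOf (T i))
    (hprod : ∀ n : N, (n : G) ∈ H ↔ ∀ i, e n i ∈ H.subgroupOf (T i))
    (hfac : ∀ i (t : T i), (orderOf t).Prime → ∃ s : T i, s * t * s⁻¹ ∈ H.subgroupOf (T i))
    (x : G) (hx : (orderOf x).Prime) : ∃ g : G, g⁻¹ * x * g ∈ H := by
  -- conjugation by elements of `N` on `T i`
  have hNT : ∀ (i : Fin m) (n : G), n ∈ N → (T i).map (MulAut.conj n).toMonoidHom = T i :=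
    fun i n hn => mem_normalizer_iff_map_conj_eq.mp (hTn i hn)
  have hHT : ∀ (i j : Fin m) (h : G), h ∈ H → T j = (T i).map (MulAut.conj h).toMonoidHom →
      (H ⊓ T j) = (H ⊓ T i).map (MulAut.conj h).toMonoidHom := by
    intro i j h hh hj
    ext y
    rw [mem_map_conj, Subgroup.mem_inf, Subgroup.mem_inf, hj, mem_map_conj]
    refine and_congr_left fun _ => ⟨fun hy => H.mul_mem (H.mul_mem (H.inv_mem hh) hy) hh,
      fun hy => ?_⟩
    have := H.mul_mem (H.mul_mem hh hy) (H.inv_mem hh)
    have h2 : h * (h⁻¹ * y * h) * h⁻¹ = y := by group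
    rwa [h2] at this
  -- `F`-subgroups are permuted
  have hF : ∀ (i j : Fin m) (g u : G), u ∈ T i → T j = (T i).map (MulAut.conj g).toMonoidHom →
      ∃ v ∈ T j, (H ⊓ T i).map (MulAut.conj (g * u)).toMonoidHom =
        (H ⊓ T j).map (MulAut.conj v).toMonoidHom := by
    intro i j g u hu hj
    obtain ⟨h, hh, n, hn, hg⟩ := hHN (g * u)
    let a : T i := e ⟨n, hn⟩ i
    have ha : ∀ t ∈ T i, n * t * n⁻¹ = (a : G) * t * (a : G)⁻¹ := fun t ht => by
      have := conj_coord e he ⟨n, hn⟩ i ⟨t, ht⟩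
      push_cast at this
      exact this
    have hjh : T j = (T i).map (MulAut.conj h).toMonoidHom := by
      rw [hj]
      have h1 : (T i).map (MulAut.conj (g * u)).toMonoidHom =
          (T i).map (MulAut.conj g).toMonoidHom := by
        rw [← map_conj_map_conj, hNT i u (hTN i hu)]
      rw [← h1, ← hg, ← map_conj_map_conj, hNT i n hn]
    refine ⟨h * a * h⁻¹, ?_, ?_⟩
    · rw [hjh]; exact ⟨a, a.2, rfl⟩
    · rw [← hg, hHT i j h hh hjh, map_conj_map_conj]
      have h1 : h * (a : G) * h⁻¹ * h = h * a := by group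
      rw [h1, ← map_conj_map_conj, ← map_conj_map_conj]
      congr 1
      ext y
      rw [Subgroup.mem_map, Subgroup.mem_map]
      refine ⟨?_, ?_⟩
      · rintro ⟨t, ht, rfl⟩
        exact ⟨t, ht, (ha t ht.2).symm⟩
      · rintro ⟨t, ht, rfl⟩
        exact ⟨t, ht, ha t ht.2⟩
  -- local choice
  have hloc : ∀ i, ∃ u ∈ T i, ∀ y ∈ zpowers x, (T i).map (MulAut.conj y).toMonoidHom = T i →
      ((H ⊓ T i).map (MulAut.conj u).toMonoidHom).map (MulAut.conj y).toMonoidHom =
        (H ⊓ T i).map (MulAut.conj u).toMonoidHom := by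
    intro i
    by_cases hxi : (T i).map (MulAut.conj x).toMonoidHom = T i
    · -- `x` acts on `T i` as an inner automorphism
      have hmem : ∀ t : T i, x * (t : G) * x⁻¹ ∈ T i := fun t => by
        have h0 : x * (t : G) * x⁻¹ ∈ (T i).map (MulAut.conj x).toMonoidHom := ⟨t, t.2, rfl⟩
        rwa [hxi] at h0
      have hmem' : ∀ t : T i, x⁻¹ * (t : G) * x ∈ T i := fun t => by
        rw [← mem_map_conj, hxi]; exact t.2
      let φ : MulAut (T i) :=
        { toFun := fun t => ⟨_, hmem t⟩
          invFun := fun t => ⟨_, hmem' t⟩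
          left_inv := fun t => Subtype.ext (by
            change x⁻¹ * (x * (t : G) * x⁻¹) * x = t; group)
          right_inv := fun t => Subtype.ext (by
            change x * (x⁻¹ * (t : G) * x) * x⁻¹ = t; group)
          map_mul' := fun a b => Subtype.ext (by
            change x * ((a : G) * (b : G)) * x⁻¹ = (x * (a : G) * x⁻¹) * (x * (b : G) * x⁻¹)
            group) }
      obtain ⟨s, hs⟩ := hinn i φ
      have hsx : ∀ t : T i, x * (t : G) * x⁻¹ = (s : G) * t * (s : G)⁻¹ := fun t => by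
        have h1 : φ t = MulAut.conj s t := by rw [hs]
        have h2 := congrArg (Subtype.val : T i → G) h1
        exact h2
      have hsxk : ∀ (k : ℕ) (t : T i), x ^ k * (t : G) * (x ^ k)⁻¹ =
          (s : G) ^ k * t * ((s : G) ^ k)⁻¹ := by
        intro k
        induction k with
        | zero => intro t; simp
        | succ k ih =>
          intro t
          have h1 : x ^ (k + 1) * (t : G) * (x ^ (k + 1))⁻¹ =
              x ^ k * (x * (t : G) * x⁻¹) * (x ^ k)⁻¹ := by
            rw [pow_succ]; group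
          have h2 : (s : G) ^ (k + 1) * (t : G) * ((s : G) ^ (k + 1))⁻¹ =
              (s : G) ^ k * ((s : G) * (t : G) * (s : G)⁻¹) * ((s : G) ^ k)⁻¹ := by
            rw [pow_succ]; group
          rw [h1, h2, hsx t]
          have h3 := ih (s * t * s⁻¹)
          push_cast at h3
          exact h3
      have hsp : s ^ (orderOf x) = 1 := by
        apply hcent i
        intro t
        have h1 := hsxk (orderOf x) t
        rw [pow_orderOf_eq_one, one_mul, inv_one, mul_one] at h1
        apply Subtype.ext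
        push_cast
        rw [eq_mul_inv_iff_mul_eq] at h1
        exact h1.symm
      have hu : ∃ u : T i, u * s * u⁻¹ ∈ H.subgroupOf (T i) := by
        rcases (Nat.dvd_prime hx).1 (orderOf_dvd_of_pow_eq_one hsp) with h1 | h1
        · rw [orderOf_eq_one_iff] at h1
          exact ⟨1, by rw [h1]; simp⟩
        · exact hfac i s (by rw [h1]; exact hx)
      obtain ⟨u, hu⟩ := hu
      refine ⟨(u⁻¹ : T i), (u⁻¹).2, fun y hy _ => ?_⟩
      -- `x` normalises
      have hsX : (s : G) ∈ (H ⊓ T i).map (MulAut.conj ((u⁻¹ : T i) : G)).toMonoidHom := by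
        rw [mem_map_conj]
        push_cast
        rw [inv_inv]
        exact ⟨hu, by exact (u * s * u⁻¹).2⟩
      have hxX : (((H ⊓ T i).map (MulAut.conj ((u⁻¹ : T i) : G)).toMonoidHom)).map
          (MulAut.conj x).toMonoidHom =
          (H ⊓ T i).map (MulAut.conj ((u⁻¹ : T i) : G)).toMonoidHom := by
        have hle : (H ⊓ T i).map (MulAut.conj ((u⁻¹ : T i) : G)).toMonoidHom ≤ T i := by
          rintro _ ⟨t, ht, rfl⟩
          exact (T i).mul_mem ((T i).mul_mem (u⁻¹).2 ht.2) ((T i).inv_mem (u⁻¹).2)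
        have h1 : (((H ⊓ T i).map (MulAut.conj ((u⁻¹ : T i) : G)).toMonoidHom)).map
          (MulAut.conj x).toMonoidHom =
          (((H ⊓ T i).map (MulAut.conj ((u⁻¹ : T i) : G)).toMonoidHom)).map
          (MulAut.conj (s : G)).toMonoidHom := by
          ext y
          rw [Subgroup.mem_map, Subgroup.mem_map]
          refine ⟨?_, ?_⟩
          · rintro ⟨t, ht, rfl⟩
            exact ⟨t, ht, (hsx ⟨t, hle ht⟩).symm⟩
          · rintro ⟨t, ht, rfl⟩
            exact ⟨t, ht, hsx ⟨t, hle ht⟩⟩
        rw [h1]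
        exact mem_normalizer_iff_map_conj_eq.mp (le_normalizer hsX)
      have hxn : x ∈ normalizer (((H ⊓ T i).map (MulAut.conj ((u⁻¹ : T i) : G)).toMonoidHom :
          Subgroup G) : Set G) := mem_normalizer_iff_map_conj_eq.mpr hxX
      exact mem_normalizer_iff_map_conj_eq.mp
        ((Subgroup.zpowers_le.2 hxn) hy)
    · refine ⟨1, (T i).one_mem, fun y hy hyi => ?_⟩
      have hy1 : y = 1 := by
        by_contra hne
        apply hxi
        have hxy : x ∈ zpowers y := by
          have hc : Nat.card (zpowers y) = Nat.card (zpowers x) := by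
            rw [Nat.card_zpowers, Nat.card_zpowers]
            have h1 : orderOf y ∣ orderOf x := by
              have h2 := Subgroup.orderOf_dvd_natCard (zpowers x) hy
              rwa [Nat.card_zpowers] at h2
            rcases (Nat.dvd_prime hx).1 h1 with h2 | h2
            · exact absurd (orderOf_eq_one_iff.1 h2) hne
            · exact h2
          have hle : zpowers y ≤ zpowers x := Subgroup.zpowers_le.2 hy
          rw [Subgroup.eq_of_le_of_card_ge hle hc.ge]
          exact mem_zpowers x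
        have hyn : y ∈ normalizer (T i : Set G) := mem_normalizer_iff_map_conj_eq.mpr hyi
        exact mem_normalizer_iff_map_conj_eq.mp ((Subgroup.zpowers_le.2 hyn) hxy)
      rw [hy1, map_conj_one]
  choose u huT hu using hloc
  -- orbits
  let S : Setoid (Fin m) :=
    { r := fun i j => ∃ y ∈ zpowers x, T j = (T i).map (MulAut.conj y).toMonoidHom
      iseqv := by
        refine ⟨fun i => ⟨1, one_mem _, (map_conj_one _).symm⟩, ?_, ?_⟩
        · rintro i j ⟨y, hy, hj⟩
          refine ⟨y⁻¹, inv_mem hy, ?_⟩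
          rw [hj, map_conj_map_conj, inv_mul_cancel, map_conj_one]
        · rintro i j k ⟨y, hy, hj⟩ ⟨z, hz, hk⟩
          refine ⟨z * y, mul_mem hz hy, ?_⟩
          rw [hk, hj, map_conj_map_conj] }
  let r : Fin m → Fin m := fun i => (Quotient.mk S i).out
  have hr : ∀ i, ∃ y ∈ zpowers x, T i = (T (r i)).map (MulAut.conj y).toMonoidHom := fun i => by
    have h1 : S.r (r i) i := Quotient.exact (Quotient.out_eq (Quotient.mk S i))
    exact h1
  choose y hyx hy using hr
  have hreq : ∀ i j, T j = (T i).map (MulAut.conj x).toMonoidHom → r j = r i := by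
    intro i j hj
    have h1 : Quotient.mk S i = Quotient.mk S j := Quotient.sound ⟨x, mem_zpowers x, hj⟩
    change (Quotient.mk S j).out = (Quotient.mk S i).out
    rw [h1]
  -- the invariant family
  have hv : ∀ i, ∃ v ∈ T i, (H ⊓ T (r i)).map (MulAut.conj (y i * u (r i))).toMonoidHom =
      (H ⊓ T i).map (MulAut.conj v).toMonoidHom := fun i =>
    hF (r i) i (y i) (u (r i)) (huT (r i)) (hy i)
  choose v hvT hv using hv
  have hinv : ∀ i j, T j = (T i).map (MulAut.conj x).toMonoidHom →
      ((H ⊓ T i).map (MulAut.conj (v i)).toMonoidHom).map (MulAut.conj x).toMonoidHom =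
        (H ⊓ T j).map (MulAut.conj (v j)).toMonoidHom := by
    intro i j hj
    have hrij := hreq i j hj
    rw [← hv i, ← hv j]
    have hz : (T (r i)).map (MulAut.conj ((y j)⁻¹ * x * y i)).toMonoidHom = T (r i) := by
      rw [← map_conj_map_conj, ← map_conj_map_conj, ← hy i, ← hj, hy j, map_conj_map_conj,
        inv_mul_cancel, map_conj_one, hrij]
    have h1 := hu (r i) ((y j)⁻¹ * x * y i)
      (mul_mem (mul_mem (inv_mem (hyx j)) (mem_zpowers x)) (hyx i)) hz
    rw [hrij, map_conj_map_conj]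
    have h2 : x * (y i * u (r i)) = y j * ((y j)⁻¹ * x * y i * u (r i)) := by group
    rw [h2, ← map_conj_map_conj (y j), ← map_conj_map_conj ((y j)⁻¹ * x * y i), h1,
      map_conj_map_conj]
  -- the conjugating element
  let n : N := e.symm fun i => ⟨v i, hvT i⟩
  have hnT : ∀ i, ∀ t ∈ T i, (n : G) * t * (n : G)⁻¹ = v i * t * (v i)⁻¹ := by
    intro i t ht
    have h1 := conj_coord e he n i ⟨t, ht⟩
    have h2 : e n i = ⟨v i, hvT i⟩ := by
      change e (e.symm _) i = _
      rw [e.apply_symm_apply]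
    rw [h2] at h1
    exact h1
  refine ⟨(n : G), ?_⟩
  set w : G := (n : G)⁻¹ * x * (n : G) with hw
  -- `w` normalises `H ∩ N`
  have hwR : ∀ i, ∀ t ∈ H ⊓ T i, w * t * w⁻¹ ∈ H := by
    intro i t ht
    obtain ⟨j, hj⟩ := hconj x i
    have h1 : (n : G) * t * (n : G)⁻¹ ∈ (H ⊓ T i).map (MulAut.conj (v i)).toMonoidHom := by
      rw [hnT i t ht.2]; exact ⟨t, ht, rfl⟩
    have h2 : x * ((n : G) * t * (n : G)⁻¹) * x⁻¹ ∈
        (H ⊓ T j).map (MulAut.conj (v j)).toMonoidHom := by
      rw [← hinv i j hj]; exact ⟨_, h1, rfl⟩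
    obtain ⟨t', ht', h3⟩ := h2
    have h4 : v j * t' * (v j)⁻¹ = x * ((n : G) * t * (n : G)⁻¹) * x⁻¹ := h3
    rw [← hnT j t' ht'.2] at h4
    have h5 : w * t * w⁻¹ = t' := by
      have h6 : w * t * w⁻¹ = (n : G)⁻¹ * (x * ((n : G) * t * (n : G)⁻¹) * x⁻¹) * (n : G) := by
        rw [hw]; group
      rw [h6, ← h4]; group
    rw [h5]; exact ht'.1
  have hwN : ∀ k : N, (k : G) ∈ H → w * (k : G) * w⁻¹ ∈ H := by
    intro k hk
    have h1 : (k : G) ∈ H.comap (MulAut.conj w).toMonoidHom := by
      apply mem_of_coords e he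
      intro i
      have h2 := (hprod k).1 hk i
      exact hwR i _ ⟨h2, (e k i).2⟩
    exact h1
  -- write `w = h n'`
  obtain ⟨h, hh, n', hn', hw'⟩ := hHN w
  have hn'R : ∀ k : N, (k : G) ∈ H → n' * (k : G) * n'⁻¹ ∈ H := by
    intro k hk
    have h1 := H.mul_mem (H.mul_mem (H.inv_mem hh) (hwN k hk)) hh
    rw [← hw'] at h1
    have h2 : h⁻¹ * (h * n' * (k : G) * (h * n')⁻¹) * h = n' * (k : G) * n'⁻¹ := by group
    rwa [h2] at h1
  have hn'H : n' ∈ H := by
    refine (hprod ⟨n', hn'⟩).2 fun i => ?_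
    apply hself i
    intro t ht
    rw [Subgroup.mem_subgroupOf, ← conj_coord e he ⟨n', hn'⟩ i t]
    exact hn'R ⟨t, hTN i t.2⟩ ht
  rw [← hw']
  exact H.mul_mem hh hn'H

end

end Cfsg.Agent.H278.El
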