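import Mathlib
import Cfsg.Agent.Transfer.FusionCases

/-!
# Reduction of statements on conjugation maps to fully normalized subgroups

`good_of_fullyNormalized`: a property of the maps `h ↦ g h g⁻¹`, `H → P`, which is compatible with restriction,
composition and inverses holds for all of them once it holds for the elements of `N_G(H)`, `H` fully normalized.
-/

set_option autoImplicit false

namespace Cfsg.Agent.H278.GoodFusion

open Subgroup
open Cfsg.Agent.Transfer.FusionBasic

variable {G : Type*} [Group G]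

theorem good_of_fullyNormalized [Finite G] {p : ℕ} [Fact p.Prime] (P : Sylow p G)
    (Good : Subgroup G → G → Prop)
    (hmono : ∀ (H H' : Subgroup G) (g : G), Good H g → H' ≤ H → Good H' g)
    (hcomp : ∀ (H K : Subgroup G) (g g' : G), Good H g → (∀ x ∈ H, g * x * g⁻¹ ∈ K) → Good K g' →
      Good H (g' * g))
    (hinv : ∀ (H K : Subgroup G) (g : G), Good H g → (∀ x ∈ K, g⁻¹ * x * g ∈ H) → Good K g⁻¹)
    (htop : ∀ g ∈ normalizer ((P : Subgroup G) : Set G), Good (P : Subgroup G) g)
    (h : ∀ H : Subgroup G, H < (P : Subgroup G) →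
      SylIn p ((P : Subgroup G) ⊓ normalizer (H : Set G)) (normalizer (H : Set G)) →
      (∀ H' : Subgroup G, H' ≤ (P : Subgroup G) → Nat.card H < Nat.card H' → ∀ g : G,
        (∀ x ∈ H', g * x * g⁻¹ ∈ (P : Subgroup G)) → Good H' g) →
      ∀ n ∈ normalizer (H : Set G), Good H n) :
    ∀ (H : Subgroup G) (g : G), H ≤ (P : Subgroup G) →
      (∀ h ∈ H, g * h * g⁻¹ ∈ (P : Subgroup G)) → Good H g := by
  have main : ∀ k : ℕ, ∀ H : Subgroup G, H ≤ (P : Subgroup G) →
      Nat.card (P : Subgroup G) - Nat.card H = k → ∀ g : G,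
      (∀ x ∈ H, g * x * g⁻¹ ∈ (P : Subgroup G)) → Good H g := by
    intro k
    induction k using Nat.strong_induction_on with
    | _ k ih =>
    intro H hHP hk g hg
    rcases eq_or_lt_of_le hHP with heq | hlt
    · -- `H = P`
      subst heq
      exact htop g (mem_normalizer_of_conj_mem hg)
    · -- inner induction hypothesis
      have hcHP : Nat.card H < Nat.card (P : Subgroup G) :=
        Cfsg.Agent.PLocal.ConjFunctor.card_lt_card_of_lt hlt
      have IH : ∀ H' : Subgroup G, H' ≤ (P : Subgroup G) → Nat.card H < Nat.card H' → ∀ g : G,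
          (∀ x ∈ H', g * x * g⁻¹ ∈ (P : Subgroup G)) → Good H' g := by
        intro H' hH' hc g hg
        have h1 := Subgroup.card_le_of_le hH'
        exact ih (Nat.card (P : Subgroup G) - Nat.card H') (by omega) H' hH' rfl g hg
      have hHp : IsPGroup p H := P.isPGroup'.to_le hHP
      -- a fully normalized conjugate
      obtain ⟨R, hHR, hR⟩ := exists_sylIn_ge hHp (le_normalizer (H := H))
      obtain ⟨y, -, hy⟩ := (sylIn_top P).conj_le (R := R) le_top hR.isPGroup
      obtain ⟨Hs, hHs⟩ : ∃ Hs : Subgroup G, Hs = H.map (MulAut.conj y).toMonoidHom := ⟨_, rfl⟩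
      have hHsP : Hs ≤ (P : Subgroup G) := by
        rw [hHs, map_conj_le_iff]; exact fun a ha => hy a (hHR ha)
      have hcHs : Nat.card Hs = Nat.card H := by rw [hHs, card_map_conj]
      have hRs : SylIn p (R.map (MulAut.conj y).toMonoidHom) (normalizer (Hs : Set G)) := by
        rw [hHs, normalizer_map_conj]; exact hR.map_conj y
      have hT : SylIn p ((P : Subgroup G) ⊓ normalizer (Hs : Set G)) (normalizer (Hs : Set G)) := by
        have h1 := hRs.2.2 ((P : Subgroup G) ⊓ normalizer (Hs : Set G))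
          (le_inf (map_conj_le_iff.mpr hy) hRs.le) inf_le_right (P.isPGroup'.to_le inf_le_left)
        rw [h1]; exact hRs
      have hHslt : Hs < (P : Subgroup G) := by
        refine lt_of_le_of_ne hHsP ?_
        rintro rfl
        omega
      have key : ∀ n ∈ normalizer (Hs : Set G), Good Hs n :=
        h Hs hHslt hT (by rw [hcHs]; exact IH)
      -- every map from `Hs` into `P` is good
      have claim : ∀ x : G, (∀ a ∈ Hs, x * a * x⁻¹ ∈ (P : Subgroup G)) → Good Hs x := by
        intro x hx
        obtain ⟨H1, hH1⟩ : ∃ H1 : Subgroup G, H1 = Hs.map (MulAut.conj x).toMonoidHom := ⟨_, rfl⟩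
        have hH1P : H1 ≤ (P : Subgroup G) := by rw [hH1, map_conj_le_iff]; exact hx
        have hcH1 : Nat.card H1 = Nat.card H := by rw [hH1, card_map_conj, hcHs]
        have hH1lt : H1 < (P : Subgroup G) := by
          refine lt_of_le_of_ne hH1P ?_
          rintro rfl
          omega
        have hlt2 := Cfsg.Agent.PLocal.ConjFunctor.lt_inf_normalizer P.isPGroup' hH1lt
        have hclt2 := Cfsg.Agent.PLocal.ConjFunctor.card_lt_card_of_lt hlt2
        -- move `N_P(H1)` into `N_P(Hs)`
        have h2 : ((P : Subgroup G) ⊓ normalizer (H1 : Set G)).map (MulAut.conj x⁻¹).toMonoidHom ≤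
            normalizer (Hs : Set G) := by
          have h3 : H1.map (MulAut.conj x⁻¹).toMonoidHom = Hs := by
            rw [hH1, map_conj_inv_map_conj]
          rw [← h3, normalizer_map_conj]
          exact map_mono inf_le_right
        obtain ⟨t, ht, htx⟩ := hT.conj_le h2 ((P.isPGroup'.to_le inf_le_left).map _)
        have h4 : ∀ a ∈ (P : Subgroup G) ⊓ normalizer (H1 : Set G),
            (t * x⁻¹) * a * (t * x⁻¹)⁻¹ ∈ (P : Subgroup G) ⊓ normalizer (Hs : Set G) := by
          intro a ha
          have h5 := htx (x⁻¹ * a * (x⁻¹)⁻¹) ⟨a, ha, rfl⟩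
          have e : t * (x⁻¹ * a * (x⁻¹)⁻¹) * t⁻¹ = (t * x⁻¹) * a * (t * x⁻¹)⁻¹ := by group
          rwa [e] at h5
        have h5 : Good ((P : Subgroup G) ⊓ normalizer (H1 : Set G)) (t * x⁻¹) :=
          IH _ inf_le_left (by omega) _ (fun a ha => (h4 a ha).1)
        have h6 : Good H1 (t * x⁻¹) := hmono _ _ _ h5 (le_inf hH1P le_normalizer)
        have h7 : Good Hs (t * x⁻¹)⁻¹ := by
          apply hinv _ _ _ h6
          intro a ha
          rw [hH1, mem_map_conj_iff]
          have e : x⁻¹ * ((t * x⁻¹)⁻¹ * a * (t * x⁻¹)) * x = t⁻¹ * a * t := by group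
          rw [e]
          have := ((Subgroup.mem_normalizer_iff.mp (inv_mem ht)) a).mp ha
          rwa [inv_inv] at this
        have h8 : Good Hs ((t * x⁻¹)⁻¹ * t) := hcomp _ _ _ _ (key t ht)
          (fun a ha => ((Subgroup.mem_normalizer_iff.mp ht) a).mp ha) h7
        have e : (t * x⁻¹)⁻¹ * t = x := by group
        rwa [e] at h8
      -- conclusion
      have c1 : Good Hs y⁻¹ := claim y⁻¹ (fun a ha => by
        rw [hHs, mem_map_conj_iff] at ha
        rw [inv_inv]
        exact hHP ha)
      have c2 : Good Hs (g * y⁻¹) := claim (g * y⁻¹) (fun a ha => by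
        rw [hHs, mem_map_conj_iff] at ha
        have := hg _ ha
        have e : g * y⁻¹ * a * (g * y⁻¹)⁻¹ = g * (y⁻¹ * a * y) * g⁻¹ := by group
        rwa [e])
      have c3 : Good H (y⁻¹)⁻¹ := hinv _ _ _ c1 (fun a ha => by
        rw [hHs]
        exact ⟨a, ha, by simp⟩)
      have c4 : Good H ((g * y⁻¹) * (y⁻¹)⁻¹) := hcomp _ Hs _ _ c3 (fun a ha => by
        rw [hHs]
        exact ⟨a, ha, by simp⟩) c2
      have e : (g * y⁻¹) * (y⁻¹)⁻¹ = g := by group
      rwa [e] at c4
  exact fun H g hH hg => main _ H hH rfl g hg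

end Cfsg.Agent.H278.GoodFusion
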