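import Mathlib
import Cfsg.Prelude.Def_Local
import Cfsg.Prelude.Def_Transfer
import Cfsg.Prelude.Def_SylowChains
import Cfsg.Agent.Lib.Cores
import Cfsg.Agent.H278.Automizer
import Cfsg.Agent.H278.GoodFusion
import Cfsg.Agent.H278.LocalCtrl
import Cfsg.Agent.H275.StrongEmb

/-!
# The local step of the strong form of the Alperin–Goldschmidt fusion theorem
-/

set_option autoImplicit false

namespace Cfsg.Agent.H278.EssLocal

open Subgroup Cfsg
open Cfsg.Agent.Transfer.FusionBasic
open Cfsg.Agent.Transfer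
open Cfsg.Agent.H278.Automizer

variable {G : Type*} [Group G]

/-- The image in `G` of `O_{p'}(N)`. -/
def coreOf (p : ℕ) (N : Subgroup G) : Subgroup G := (pPrimeCore p N).map N.subtype

/-- The image in `G` of `O_{p',p}(N)`. -/
def ppOf (p : ℕ) (N : Subgroup G) : Subgroup G := (pPrimePCore p N).map N.subtype

theorem coreOf_def (p : ℕ) (N : Subgroup G) : coreOf p N = (pPrimeCore p N).map N.subtype := rfl

theorem ppOf_def (p : ℕ) (N : Subgroup G) : ppOf p N = (pPrimePCore p N).map N.subtype := rfl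

theorem coreOf_le (p : ℕ) (N : Subgroup G) : coreOf p N ≤ N := map_subtype_le _

theorem ppOf_le (p : ℕ) (N : Subgroup G) : ppOf p N ≤ N := map_subtype_le _

theorem le_normalizer_map_subtype (N : Subgroup G) (L : Subgroup N) [hL : L.Normal] :
    N ≤ normalizer ((L.map N.subtype : Subgroup G) : Set G) := by
  have h1 : (L.map N.subtype).subgroupOf N = L :=
    Subgroup.comap_map_eq_self_of_injective N.subtype_injective _
  have h2 : ((L.map N.subtype).subgroupOf N).Normal := by rw [h1]; exact hL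
  exact (normal_subgroupOf_iff_le_normalizer (map_subtype_le _)).mp h2

theorem le_normalizer_coreOf (p : ℕ) (N : Subgroup G) : N ≤ normalizer (coreOf p N : Set G) := by
  have := Cfsg.Agent.Lib.Cores.pPrimeCore_normal (G := N) p
  exact le_normalizer_map_subtype N _

theorem pPrimePCore_normal (p : ℕ) (H : Type*) [Group H] : (pPrimePCore p H).Normal := by
  have : (pCore p (H ⧸ pPrimeCore p H)).Normal := Cfsg.Agent.Lib.Cores.pCore_normal p
  exact this.comap _

theorem le_normalizer_ppOf (p : ℕ) (N : Subgroup G) : N ≤ normalizer (ppOf p N : Set G) := by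
  have := pPrimePCore_normal p N
  exact le_normalizer_map_subtype N _

theorem coreOf_coprime [Finite G] (p : ℕ) (N : Subgroup G) : (Nat.card (coreOf p N)).Coprime p := by
  rw [coreOf_def, Subgroup.card_map_of_injective N.subtype_injective]
  exact Cfsg.Agent.Lib.Cores.pPrimeCore_coprime p

theorem coreOf_le_ppOf (p : ℕ) (N : Subgroup G) : coreOf p N ≤ ppOf p N := by
  apply map_mono
  intro x hx
  have h1 : (QuotientGroup.mk' (pPrimeCore p N)) x = 1 := (QuotientGroup.eq_one_iff x).mpr hx
  change (QuotientGroup.mk' (pPrimeCore p N)) x ∈ pCore p (N ⧸ pPrimeCore p N)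
  rw [h1]
  exact one_mem _

theorem le_coreOf [Finite G] {p : ℕ} {N Y : Subgroup G} (hYN : Y ≤ N)
    (hN : N ≤ normalizer (Y : Set G)) (hY : (Nat.card Y).Coprime p) : Y ≤ coreOf p N := by
  have h1 : (Y.subgroupOf N).Normal := (normal_subgroupOf_iff_le_normalizer hYN).mpr hN
  have h2 : Y.subgroupOf N ≤ pPrimeCore p N := by
    refine Cfsg.Agent.Lib.Cores.le_pPrimeCore h1 ?_
    rwa [Nat.card_congr (Subgroup.subgroupOfEquivOfLe hYN).toEquiv]
  have h3 := map_mono (f := N.subtype) h2
  rwa [subgroupOf_map_subtype, inf_eq_left.mpr hYN] at h3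

theorem le_ppOf [Finite G] {p : ℕ} {N Y : Subgroup G} (hYN : Y ≤ N)
    (hN : N ≤ normalizer (Y : Set G)) (hY : IsPGroup p Y) : Y ≤ ppOf p N := by
  have h1 : (Y.subgroupOf N).Normal := (normal_subgroupOf_iff_le_normalizer hYN).mpr hN
  have hp : IsPGroup p (Y.subgroupOf N) := hY.comap_of_injective _ N.subtype_injective
  have h2 : (Y.subgroupOf N).map (QuotientGroup.mk' (pPrimeCore p N)) ≤
      pCore p (N ⧸ pPrimeCore p N) :=
    Cfsg.Agent.Lib.Cores.le_pCore (h1.map _ (QuotientGroup.mk'_surjective _)) (hp.map _)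
  have h3 : Y.subgroupOf N ≤ pPrimePCore p N := by
    rw [Subgroup.map_le_iff_le_comap] at h2
    exact h2
  have h4 := map_mono (f := N.subtype) h3
  rwa [subgroupOf_map_subtype, inf_eq_left.mpr hYN] at h4

theorem exists_pow_mem_coreOf [Finite G] {p : ℕ} (N : Subgroup G) {x : G}
    (hx : x ∈ ppOf p N) : ∃ k : ℕ, x ^ p ^ k ∈ coreOf p N := by
  obtain ⟨y, hy, rfl⟩ := hx
  have h1 : (QuotientGroup.mk' (pPrimeCore p N)) y ∈ pCore p (N ⧸ pPrimeCore p N) := hy
  obtain ⟨k, hk⟩ := Cfsg.Agent.Lib.Cores.pCore_isPGroup (G := N ⧸ pPrimeCore p N) p ⟨_, h1⟩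
  refine ⟨k, y ^ p ^ k, ?_, by simp⟩
  have h2 := congrArg Subtype.val hk
  have h3 : (QuotientGroup.mk' (pPrimeCore p N)) (y ^ p ^ k) = 1 := by
    rw [map_pow]; simpa using h2
  exact (QuotientGroup.eq_one_iff _).mp h3

/-- The conditions on the subgroups `F` and `X` in the theorem. -/
structure EssData (p : ℕ) (P F X : Subgroup G) : Prop where
  le : F ≤ P
  syl : ¬ p ∣ (P ⊓ normalizer (F : Set G)).relIndex (normalizer (F : Set G))
  cent : P ⊓ centralizer (F : Set G) ≤ F
  rad : (pPrimePCore p ↥(normalizer (F : Set G))).map (normalizer (F : Set G)).subtype =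
    F ⊔ centralizer (F : Set G)
  disc : ¬ IsSylowChainConnected p
    (↥(normalizer (F : Set G)) ⧸ F.subgroupOf (normalizer (F : Set G)))
  leX : F ≤ X
  Xle : X ≤ normalizer (F : Set G)
  normX : (X.subgroupOf (normalizer (F : Set G))).Normal
  dvdX : p ∣ F.relIndex X
  minX : ∀ Y : Subgroup G, F ≤ Y → Y ≤ normalizer (F : Set G) →
    (Y.subgroupOf (normalizer (F : Set G))).Normal → p ∣ F.relIndex Y → X ≤ Y

theorem card_map_mk_subgroupOf [Finite G] {F N Y : Subgroup G} [(F.subgroupOf N).Normal]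
    (hYN : Y ≤ N) : Nat.card ((Y.subgroupOf N).map (QuotientGroup.mk' (F.subgroupOf N))) =
      F.relIndex Y := by
  rw [← Subgroup.relIndex_ker, QuotientGroup.ker_mk', Subgroup.relIndex_subgroupOf hYN]

/-- The smallest normal subgroup `X / F` of order divisible by `p`. -/
theorem exists_minX [Finite G] {p : ℕ} [Fact p.Prime] {F : Subgroup G}
    (hdisc : ¬ IsSylowChainConnected p
      (↥(normalizer (F : Set G)) ⧸ F.subgroupOf (normalizer (F : Set G))))
    (hdvd : p ∣ F.relIndex (normalizer (F : Set G))) :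
    ∃ X : Subgroup G, F ≤ X ∧ X ≤ normalizer (F : Set G) ∧
      (X.subgroupOf (normalizer (F : Set G))).Normal ∧ p ∣ F.relIndex X ∧
      ∀ Y : Subgroup G, F ≤ Y → Y ≤ normalizer (F : Set G) →
        (Y.subgroupOf (normalizer (F : Set G))).Normal → p ∣ F.relIndex Y → X ≤ Y := by
  obtain ⟨N, hN⟩ : ∃ N : Subgroup G, N = normalizer (F : Set G) := ⟨_, rfl⟩
  have hFN : F ≤ N := by rw [hN]; exact le_normalizer
  let 𝒴 : Set (Subgroup G) := {Y | F ≤ Y ∧ Y ≤ normalizer (F : Set G) ∧
    (Y.subgroupOf (normalizer (F : Set G))).Normal ∧ p ∣ F.relIndex Y}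
  have hne : (normalizer (F : Set G)) ∈ 𝒴 := by
    refine ⟨le_normalizer, le_rfl, ?_, hdvd⟩
    rw [subgroupOf_self]; infer_instance
  obtain ⟨X, hX⟩ := Set.Finite.exists_minimal (Set.toFinite 𝒴) ⟨_, hne⟩
  obtain ⟨⟨h1, h2, h3, h4⟩, hmin⟩ := hX
  refine ⟨X, h1, h2, h3, h4, fun Y h5 h6 h7 h8 => ?_⟩
  have h9 : X ⊓ Y ∈ 𝒴 := by
    refine ⟨le_inf h1 h5, inf_le_left.trans h2, ?_, ?_⟩
    · have : (X ⊓ Y).subgroupOf (normalizer (F : Set G)) =
        X.subgroupOf (normalizer (F : Set G)) ⊓ Y.subgroupOf (normalizer (F : Set G)) := rfl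
      rw [this]; infer_instance
    · obtain ⟨H, h⟩ := Cfsg.Agent.H275.SylowChain.not_chainConnected_iff.1 hdisc
      have h3' := h3.map (QuotientGroup.mk' (F.subgroupOf (normalizer (F : Set G))))
        (QuotientGroup.mk'_surjective _)
      have h7' := h7.map (QuotientGroup.mk' (F.subgroupOf (normalizer (F : Set G))))
        (QuotientGroup.mk'_surjective _)
      have h10 := Cfsg.Agent.H275.StrongEmb.dvd_card_inf h _ _
        (by rw [card_map_mk_subgroupOf h2]; exact h4) (by rw [card_map_mk_subgroupOf h6]; exact h8)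
      have h11 : ((X ⊓ Y).subgroupOf (normalizer (F : Set G))).map
          (QuotientGroup.mk' (F.subgroupOf (normalizer (F : Set G)))) =
          (X.subgroupOf (normalizer (F : Set G))).map
            (QuotientGroup.mk' (F.subgroupOf (normalizer (F : Set G)))) ⊓
          (Y.subgroupOf (normalizer (F : Set G))).map
            (QuotientGroup.mk' (F.subgroupOf (normalizer (F : Set G)))) := by
        apply le_antisymm
        · exact le_inf (map_mono fun x hx => hx.1) (map_mono fun x hx => hx.2)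
        · rintro _ ⟨⟨x, hx, rfl⟩, ⟨y, hy, hxy⟩⟩
          refine ⟨x, ⟨hx, ?_⟩, rfl⟩
          have h12 : y⁻¹ * x ∈ F.subgroupOf (normalizer (F : Set G)) := QuotientGroup.eq.mp hxy
          have h13 : y⁻¹ * x ∈ Y.subgroupOf (normalizer (F : Set G)) := h5 h12
          have := mul_mem (show y ∈ Y.subgroupOf (normalizer (F : Set G)) from hy) h13
          rwa [mul_inv_cancel_left] at this
      rw [← h11, card_map_mk_subgroupOf (inf_le_left.trans h2)] at h10
      exact h10
  exact (hmin h9 inf_le_left).trans inf_le_right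

theorem le_relIndex_of_dvd [Finite G] {p : ℕ} [Fact p.Prime] {P F N : Subgroup G} (hP : IsPGroup p P)
    (hlt : F < P) (hPN : P ≤ N) : p ∣ F.relIndex N := by
  have h1 : F.relIndex P ∣ F.relIndex N := by
    rw [← Subgroup.relIndex_mul_relIndex F P N hlt.le hPN]
    exact dvd_mul_right _ _
  refine dvd_trans ?_ h1
  obtain ⟨k, hk⟩ := IsPGroup.iff_card.mp hP
  have h2 : F.relIndex P ∣ Nat.card P := Subgroup.relIndex_dvd_card F P
  rw [hk, Nat.dvd_prime_pow Fact.out] at h2
  obtain ⟨m, _, hm⟩ := h2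
  rw [hm]
  rcases Nat.eq_zero_or_pos m with h0 | h0
  · exfalso
    rw [h0, pow_zero, Subgroup.relIndex_eq_one] at hm
    exact absurd hm (not_le_of_gt hlt)
  · exact dvd_pow_self p h0.ne'

theorem local_step [Finite G] {p : ℕ} [Fact p.Prime] (P : Sylow p G) {F : Subgroup G}
    (hlt : F < (P : Subgroup G))
    (hT : SylIn p ((P : Subgroup G) ⊓ normalizer (F : Set G)) (normalizer (F : Set G)))
    (M : Subgroup G) (hMN : M ≤ normalizer (F : Set G)) (hCM : centralizer (F : Set G) ≤ M)
    (hbig : ∀ R : Subgroup G, F < R → R ≤ (P : Subgroup G) → ∀ m ∈ normalizer (F : Set G),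
      (∀ r ∈ R, m * r * m⁻¹ ∈ (P : Subgroup G)) → m ∈ M)
    (hess : ∀ X : Subgroup G, EssData p (P : Subgroup G) F X →
      ∀ x ∈ (pResidual p X).map X.subtype, x ∈ M) :
    normalizer (F : Set G) ≤ M := by
  obtain ⟨N, hN⟩ : ∃ N : Subgroup G, N = normalizer (F : Set G) := ⟨_, rfl⟩
  obtain ⟨T, hTdef⟩ : ∃ T : Subgroup G, T = (P : Subgroup G) ⊓ normalizer (F : Set G) := ⟨_, rfl⟩
  have hFN : F ≤ normalizer (F : Set G) := le_normalizer
  have hFT : F < T := by
    rw [hTdef]
    exact Cfsg.Agent.PLocal.ConjFunctor.lt_inf_normalizer P.isPGroup' hlt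
  have hTP : T ≤ (P : Subgroup G) := by rw [hTdef]; exact inf_le_left
  have hTN : T ≤ normalizer (F : Set G) := by rw [hTdef]; exact inf_le_right
  have hTp : IsPGroup p T := P.isPGroup'.to_le hTP
  have hFp : IsPGroup p F := P.isPGroup'.to_le hlt.le
  rw [← hTdef] at hT
  have hTM : T ≤ M := fun t ht => hbig T hFT hTP t (hTN ht)
    (fun r hr => hTP (mul_mem (mul_mem ht hr) (inv_mem ht)))
  have hFM : F ≤ M := hFT.le.trans hTM
  -- elements normalizing a larger subgroup of `P`
  have hbig' : ∀ R : Subgroup G, F < R → R ≤ (P : Subgroup G) → ∀ m ∈ normalizer (F : Set G),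
      m ∈ normalizer (R : Set G) → m ∈ M := fun R h1 h2 m h3 h4 =>
    hbig R h1 h2 m h3 (fun r hr => h2 (((Subgroup.mem_normalizer_iff.mp h4) r).mp hr))
  by_cases hC : (P : Subgroup G) ⊓ centralizer (F : Set G) ≤ F
  swap
  · intro n hn
    obtain ⟨c, hc, hcn, hcn'⟩ := LocalCtrl.frattini_centralizer P (H := F) (hTdef ▸ hT) hn
    have h1 : F < F ⊔ ((P : Subgroup G) ⊓ centralizer (F : Set G)) := by
      refine lt_of_le_of_ne le_sup_left fun h => hC ?_
      exact le_sup_right.trans (le_of_eq h.symm)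
    have h2 : F ⊔ ((P : Subgroup G) ⊓ centralizer (F : Set G)) ≤ (P : Subgroup G) :=
      sup_le hlt.le inf_le_left
    have h3 := mul_mem (inv_mem (hCM hc)) (hbig' _ h1 h2 _ hcn' hcn)
    rwa [inv_mul_cancel_left] at h3
  -- the centric case
  have hCN : centralizer (F : Set G) ≤ normalizer (F : Set G) :=
    Subgroup.centralizer_le_normalizer (F : Set G)
  have hNC := LocalCtrl.normalizer_le_normalizer_centralizer F
  obtain ⟨K, hK⟩ : ∃ K, K = coreOf p (normalizer (F : Set G)) := ⟨_, rfl⟩
  obtain ⟨L, hL⟩ : ∃ L, L = ppOf p (normalizer (F : Set G)) := ⟨_, rfl⟩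
  have hKL : K ≤ L := by rw [hK, hL]; exact coreOf_le_ppOf p _
  have hLN : L ≤ normalizer (F : Set G) := by rw [hL]; exact ppOf_le p _
  have hNL : normalizer (F : Set G) ≤ normalizer (L : Set G) := by
    rw [hL]; exact le_normalizer_ppOf p _
  have hNK : normalizer (F : Set G) ≤ normalizer (K : Set G) := by
    rw [hK]; exact le_normalizer_coreOf p _
  have hKcop : (Nat.card K).Coprime p := by rw [hK]; exact coreOf_coprime p _
  have hFL : F ≤ L := by rw [hL]; exact le_ppOf hFN le_rfl hFp
  -- `K` centralizes `F`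
  have hKC : K ≤ centralizer (F : Set G) := by
    intro k hk
    rw [Subgroup.mem_centralizer_iff]
    intro f hf
    have hkN : k ∈ normalizer (F : Set G) := hLN (hKL hk)
    have h1 : f * k * f⁻¹ * k⁻¹ ∈ K :=
      mul_mem (((Subgroup.mem_normalizer_iff.mp (hNK (hFN hf))) k).mp hk) (inv_mem hk)
    have h2 : f * k * f⁻¹ * k⁻¹ ∈ F := by
      have := mul_mem hf (((Subgroup.mem_normalizer_iff.mp hkN) f⁻¹).mp (inv_mem hf))
      have e : f * (k * f⁻¹ * k⁻¹) = f * k * f⁻¹ * k⁻¹ := by group
      rwa [e] at this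
    have h3 := eq_one_of_mem_of_coprime hFp hKcop h2 h1
    rw [mul_inv_eq_one] at h3
    rw [mul_inv_eq_iff_eq_mul] at h3
    exact h3
  -- `C_G(F) ≤ F K`
  have hCFK : centralizer (F : Set G) ≤ F ⊔ K := by
    have hSC : SylIn p (T ⊓ centralizer (F : Set G)) (centralizer (F : Set G)) := hT.inf hCN hNC
    have hTC : T ⊓ centralizer (F : Set G) ≤ F := by
      refine le_trans ?_ hC
      exact inf_le_inf_right _ hTP
    obtain ⟨T₀, hT₀⟩ := hSC.exists_sylow
    have hT₀c : (T₀ : Subgroup (centralizer (F : Set G))) ≤ center _ := by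
      intro t ht
      have h1 : (t : G) ∈ T ⊓ centralizer (F : Set G) := by rw [← hT₀]; exact ⟨t, ht, rfl⟩
      rw [Subgroup.mem_center_iff]
      intro c
      exact Subtype.ext ((Subgroup.mem_centralizer_iff.mp c.2) _ (hTC h1)).symm
    have h1 := hnc_of_central_sylow T₀ hT₀c
    obtain ⟨O, hOn, hO1, hO2⟩ := NormalPComplement.hasNormalPComplement_iff.mp h1
    obtain ⟨OG, hOG⟩ : ∃ OG : Subgroup G, OG = O.map (centralizer (F : Set G)).subtype := ⟨_, rfl⟩
    have hOGC : OG ≤ centralizer (F : Set G) := by rw [hOG]; exact map_subtype_le _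
    have hOGmem : ∀ x : G, x ∈ OG ↔ x ∈ centralizer (F : Set G) ∧ (orderOf x).Coprime p := by
      intro x
      rw [hOG]
      constructor
      · rintro ⟨y, hy, rfl⟩
        refine ⟨y.2, ?_⟩
        rw [Subgroup.coe_subtype, Subgroup.orderOf_coe]
        exact (NormalPComplement.mem_iff_coprime_orderOf' O hO1 hO2 y).mp hy
      · rintro ⟨hx, hx1⟩
        refine ⟨⟨x, hx⟩, ?_, rfl⟩
        refine (NormalPComplement.mem_iff_coprime_orderOf' O hO1 hO2 _).mpr ?_
        rw [← Subgroup.orderOf_coe]; exact hx1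
    have hNOG : normalizer (F : Set G) ≤ normalizer (OG : Set G) := by
      intro g hg
      apply mem_normalizer_of_conj_mem
      intro a ha
      rw [hOGmem] at ha ⊢
      refine ⟨((Subgroup.mem_normalizer_iff.mp (hNC hg)) a).mp ha.1, ?_⟩
      have : orderOf (g * a * g⁻¹) = orderOf a := by
        have := orderOf_injective (MulAut.conj g).toMonoidHom (MulAut.conj g).injective a
        simpa using this
      rw [this]; exact ha.2
    have hOGK : OG ≤ K := by
      rw [hK]
      refine le_coreOf (hOGC.trans hCN) hNOG ?_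
      rw [hOG, Subgroup.card_map_of_injective (Subgroup.subtype_injective _)]
      exact hO1
    intro x hx
    have hpow : ∀ x ∈ centralizer (F : Set G), ∃ k : ℕ, x ^ p ^ k ∈ OG := by
      intro x hx
      obtain ⟨k, hk⟩ := (NormalPComplement.isPGroup_quotient_iff O).mp hO2 ⟨x, hx⟩
      refine ⟨k, ?_⟩
      rw [hOG]
      exact ⟨_, hk, rfl⟩
    obtain ⟨o, ho, s, hs, rfl⟩ := hSC.exists_mul hOGC (hCN.trans hNOG) hpow hx
    exact mul_mem (Subgroup.mem_sup_right (hOGK ho)) (Subgroup.mem_sup_left (hTC hs))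
  have hFC : F ⊔ centralizer (F : Set G) = F ⊔ K :=
    le_antisymm (sup_le le_sup_left hCFK) (sup_le_sup_left hKC F)
  by_cases hrad : L = F ⊔ centralizer (F : Set G)
  swap
  · -- not radical
    obtain ⟨U, hU⟩ : ∃ U : Subgroup G, U = T ⊓ L := ⟨_, rfl⟩
    have hSU : SylIn p U L := by rw [hU]; exact hT.inf hLN hNL
    have hUT : U ≤ T := by rw [hU]; exact inf_le_left
    have hFU : F ≤ U := by rw [hU]; exact le_inf hFT.le hFL
    have hmulL : ∀ x ∈ L, ∃ k ∈ K, ∃ u ∈ U, x = k * u := by
      intro x hx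
      refine hSU.exists_mul hKL (hLN.trans hNK) ?_ hx
      intro y hy
      rw [hL] at hy
      rw [hK]
      exact exists_pow_mem_coreOf _ hy
    have hne : F < U := by
      refine lt_of_le_of_ne hFU ?_
      intro h
      apply hrad
      rw [hFC]
      refine le_antisymm ?_ (sup_le hFL hKL)
      intro x hx
      obtain ⟨k, hk, u, hu, rfl⟩ := hmulL x hx
      rw [← h] at hu
      exact mul_mem (Subgroup.mem_sup_right hk) (Subgroup.mem_sup_left hu)
    intro n hn
    obtain ⟨l, hl, hln⟩ := hSU.frattini (L := normalizer (F : Set G)) hNL hn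
    have h1 : l * n ∈ M := hbig' U hne (hUT.trans hTP) _ (mul_mem (hLN hl) hn) hln
    obtain ⟨k, hk, u, hu, hku⟩ := hmulL l⁻¹ (inv_mem hl)
    have h2 : l⁻¹ ∈ M := by
      rw [hku]
      exact mul_mem (hCM (hKC hk)) (hTM (hUT hu))
    have h3 := mul_mem h2 h1
    rwa [inv_mul_cancel_left] at h3
  -- the radical case
  by_contra hnot
  -- `M / F` is strongly embedded
  obtain ⟨π, hπ⟩ : ∃ π : ↥(normalizer (F : Set G)) →*
    (↥(normalizer (F : Set G)) ⧸ F.subgroupOf (normalizer (F : Set G))),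
      π = QuotientGroup.mk' (F.subgroupOf (normalizer (F : Set G))) := ⟨_, rfl⟩
  have hπs : Function.Surjective π := by rw [hπ]; exact QuotientGroup.mk'_surjective _
  have hπker : ∀ x, π x = 1 ↔ (x : G) ∈ F := by
    intro x
    rw [hπ, QuotientGroup.mk'_apply, QuotientGroup.eq_one_iff, mem_subgroupOf]
  have hmemM : ∀ x : ↥(normalizer (F : Set G)),
      π x ∈ (M.subgroupOf (normalizer (F : Set G))).map π ↔ (x : G) ∈ M := by
    intro x
    constructor
    · rintro ⟨y, hy, hxy⟩
      have h1 : π (y⁻¹ * x) = 1 := by rw [map_mul, map_inv, hxy, inv_mul_cancel]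
      rw [hπker] at h1
      have h2 : (y : G) ∈ M := hy
      have h3 := mul_mem h2 (hFM h1)
      have e : (y : G) * ((y⁻¹ * x : ↥(normalizer (F : Set G))) : G) = x := by
        rw [Subgroup.coe_mul, Subgroup.coe_inv]; group
      rwa [e] at h3
    · intro h
      exact ⟨x, h, rfl⟩
  obtain ⟨Mb, hMb⟩ : ∃ Mb, Mb = (M.subgroupOf (normalizer (F : Set G))).map π := ⟨_, rfl⟩
  have hcardT : p ∣ F.relIndex T := le_relIndex_of_dvd hTp hFT le_rfl
  have hSE : Cfsg.Agent.H275.SylowChain.SE p Mb := by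
    refine ⟨?_, ?_, ?_⟩
    · intro h
      apply hnot
      intro x hx
      rw [← hmemM ⟨x, hx⟩, ← hMb, h]
      trivial
    · have h1 : F.relIndex T ∣ F.relIndex M := by
        rw [← Subgroup.relIndex_mul_relIndex F T M hFT.le hTM]
        exact dvd_mul_right _ _
      have h2 := card_map_mk_subgroupOf (F := F) (N := normalizer (F : Set G)) hMN
      rw [← hπ, ← hMb] at h2
      rw [h2]
      exact hcardT.trans h1
    · intro gb hgb hdvd
      obtain ⟨g, rfl⟩ := hπs gb
      apply hgb
      obtain ⟨⟨xb, hxb1, hxb2⟩, hxb⟩ := exists_prime_orderOf_dvd_card' p hdvd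
      obtain ⟨x, rfl⟩ := hπs xb
      -- the subgroup `R = F⟨x⟩`
      have hxb1' : π x ∈ Mb := hxb1
      have hxM : (x : G) ∈ M := by rwa [hMb, hmemM] at hxb1'
      have hxo : orderOf (π x) = p := by
        have := hxb
        rw [← Subgroup.orderOf_coe] at this
        exact this
      have hxF : (x : G) ∉ F := by
        intro h
        rw [← hπker] at h
        rw [h, orderOf_one] at hxo
        exact (Fact.out : p.Prime).one_lt.ne hxo
      have hgx : ((g⁻¹ * x * g : ↥(normalizer (F : Set G))) : G) ∈ M := by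
        rw [← hmemM, ← hMb]
        have h1 := FusionBasic.mem_map_conj_iff.mp hxb2
        rw [map_mul, map_mul, map_inv]
        exact h1
      let Rb : Subgroup (↥(normalizer (F : Set G)) ⧸ F.subgroupOf (normalizer (F : Set G))) :=
        Subgroup.zpowers (π x)
      let R : Subgroup G := (Rb.comap π).map (normalizer (F : Set G)).subtype
      have hRmem : ∀ y : ↥(normalizer (F : Set G)), (y : G) ∈ R ↔ π y ∈ Subgroup.zpowers (π x) := by
        intro y
        constructor
        · rintro ⟨z, hz, hzy⟩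
          have : z = y := Subtype.ext hzy
          rw [← this]; exact hz
        · intro h; exact ⟨y, h, rfl⟩
      have hRN : R ≤ normalizer (F : Set G) := map_subtype_le _
      have hFR : F ≤ R := by
        intro f hf
        rw [hRmem ⟨f, hFN hf⟩, (hπker ⟨f, hFN hf⟩).mpr hf]
        exact one_mem _
      have hxR : (x : G) ∈ R := by rw [hRmem]; exact Subgroup.mem_zpowers _
      have hFltR : F < R := lt_of_le_of_ne hFR (fun h => hxF ((le_of_eq h.symm) hxR))
      have hRM : R ≤ M := by
        intro r hr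
        have h1 := (hRmem ⟨r, hRN hr⟩).mp hr
        rw [← hmemM ⟨r, hRN hr⟩]
        obtain ⟨k, hk⟩ := h1
        change (π x) ^ k = _ at hk
        rw [← hk]
        apply Subgroup.zpow_mem
        rw [hmemM]; exact hxM
      have hRgM : ∀ r ∈ R, (g : G)⁻¹ * r * g ∈ M := by
        intro r hr
        have h1 := (hRmem ⟨r, hRN hr⟩).mp hr
        obtain ⟨k, hk⟩ := h1
        change (π x) ^ k = _ at hk
        have h2 : π (g⁻¹ * ⟨r, hRN hr⟩ * g) = π (g⁻¹ * x * g) ^ k := by
          rw [map_mul, map_mul, ← hk, map_mul, map_mul, map_inv]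
          have := (conj_zpow (a := (π g)⁻¹) (b := π x) (i := k)).symm
          rwa [inv_inv] at this
        have h3 : π (g⁻¹ * ⟨r, hRN hr⟩ * g) ∈ (M.subgroupOf (normalizer (F : Set G))).map π := by
          rw [h2]
          apply Subgroup.zpow_mem
          rw [hmemM]; exact hgx
        rw [hmemM] at h3
        exact h3
      have hRp : IsPGroup p R := by
        rintro ⟨r, hr⟩
        obtain ⟨k, hk⟩ := (hRmem ⟨r, hRN hr⟩).mp hr
        change (π x) ^ k = _ at hk
        have h1 : π (⟨r, hRN hr⟩ ^ p) = 1 := by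
          rw [map_pow, ← hk, ← zpow_natCast, ← zpow_mul, mul_comm, zpow_mul, zpow_natCast, ← hxo,
            pow_orderOf_eq_one, one_zpow]
        rw [hπker] at h1
        obtain ⟨m, hm⟩ := hFp ⟨_, h1⟩
        refine ⟨m + 1, Subtype.ext ?_⟩
        have h2 := congrArg Subtype.val hm
        change r ^ p ^ (m + 1) = 1
        rw [pow_succ', pow_mul]
        exact h2
      -- move `R` and `R^g` into `T`
      have hTM' : SylIn p T M := ⟨hTM, hTp, fun R h1 h2 h3 => hT.2.2 R h1 (h2.trans hMN) h3⟩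
      obtain ⟨m, hm, hmR⟩ := hTM'.conj_le hRM hRp
      obtain ⟨m', hm', hmR'⟩ := hTM'.conj_le (R := R.map (MulAut.conj (g : G)⁻¹).toMonoidHom)
        (by
          rw [map_conj_le_iff]
          intro r hr
          have := hRgM r hr
          rwa [inv_inv]) (hRp.map _)
      obtain ⟨R₁, hR₁⟩ : ∃ R₁ : Subgroup G, R₁ = R.map (MulAut.conj m).toMonoidHom := ⟨_, rfl⟩
      have hR₁T : R₁ ≤ T := by rw [hR₁, map_conj_le_iff]; exact hmR
      have hFR₁ : F < R₁ := by
        have h1 : F.map (MulAut.conj m).toMonoidHom = F := map_conj_eq_of_mem_normalizer (hMN hm)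
        have h2 : F ≤ R₁ := by
          rw [hR₁, ← h1]; exact map_mono hFR
        refine lt_of_le_of_ne h2 ?_
        intro h
        have h3 := congrArg (fun A : Subgroup G => Nat.card A) h
        rw [hR₁] at h3
        simp only [card_map_conj] at h3
        exact absurd h3 (Cfsg.Agent.PLocal.ConjFunctor.card_lt_card_of_lt hFltR).ne
      have h5 : m' * (g : G)⁻¹ * m⁻¹ ∈ M := by
        refine hbig R₁ hFR₁ (hR₁T.trans hTP) _
          (mul_mem (mul_mem (hMN hm') (inv_mem g.2)) (inv_mem (hMN hm))) ?_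
        intro r hr
        rw [hR₁, mem_map_conj_iff] at hr
        have h6 := hmR' _ ⟨_, hr, rfl⟩
        apply hTP
        have e : m' * ((MulAut.conj (g : G)⁻¹).toMonoidHom (m⁻¹ * r * m)) * m'⁻¹ =
            m' * (g : G)⁻¹ * m⁻¹ * r * (m' * (g : G)⁻¹ * m⁻¹)⁻¹ := by
          simp [MulAut.conj_apply]; group
        rwa [e] at h6
      have h6 : (g : G) ∈ M := by
        have := mul_mem (inv_mem hm') (mul_mem h5 hm)
        have e : m'⁻¹ * (m' * (g : G)⁻¹ * m⁻¹ * m) = (g : G)⁻¹ := by group
        rw [e] at this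
        have := inv_mem this
        rwa [inv_inv] at this
      rw [hMb, hmemM]
      exact h6
  have hdisc := Cfsg.Agent.H275.SylowChain.not_chainConnected_of_se hSE
  obtain ⟨X, h1, h2, h3, h4, h5⟩ := exists_minX hdisc (by
    have h1 : F.relIndex T ∣ F.relIndex (normalizer (F : Set G)) := by
      rw [← Subgroup.relIndex_mul_relIndex F T _ hFT.le hTN]
      exact dvd_mul_right _ _
    exact hcardT.trans h1)
  have hX : EssData p (P : Subgroup G) F X := by
    refine ⟨hlt.le, ?_, hC, ?_, hdisc, h1, h2, h3, h4, h5⟩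
    · rw [← hTdef]
      obtain ⟨T₀, hT₀⟩ := hT.exists_sylow
      have h6 : T.relIndex (normalizer (F : Set G)) =
          (T₀ : Subgroup (normalizer (F : Set G))).index := by
        rw [← hT₀, Subgroup.relIndex, Subgroup.subgroupOf,
          Subgroup.comap_map_eq_self_of_injective (Subgroup.subtype_injective _)]
      rw [h6]
      exact T₀.not_dvd_index
    · rw [← hrad, hL]; rfl
  have hres := hess X hX
  have h6 := h3.map π hπs
  have h7 := Cfsg.Agent.H275.StrongEmb.sup_eq_top hSE
    ((X.subgroupOf (normalizer (F : Set G))).map π) (by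
      have := card_map_mk_subgroupOf (F := F) (N := normalizer (F : Set G)) h2
      rw [← hπ] at this
      rw [this]; exact h4)
  apply hSE.ne_top
  rw [eq_top_iff, ← h7, sup_le_iff]
  refine ⟨le_rfl, ?_⟩
  rw [closure_le]
  rintro gb ⟨⟨x, hx, rfl⟩, hgb⟩
  -- the `p'`-part of `x`
  have hxX : (x : G) ∈ X := hx
  have h8 : (orderOf ((x : G) ^ (p ^ (orderOf (x : G)).factorization p))).Coprime p :=
    NormalPComplement.coprime_orderOf_pow_ordProj (isOfFinOrder_of_finite _)
  have h9 : (x : G) ^ (p ^ (orderOf (x : G)).factorization p) ∈ M := by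
    apply hres
    refine ⟨⟨_, pow_mem hxX _⟩, ?_, rfl⟩
    apply NormalPComplement.mem_pResidual_of_coprime
    rw [← Subgroup.orderOf_coe]
    exact h8
  have h10 : π x ^ (p ^ (orderOf (x : G)).factorization p) ∈ Mb := by
    rw [← map_pow, hMb, hmemM]
    exact h9
  -- `π x` has order prime to `p`
  have h11 : (orderOf (π x)).Coprime (p ^ (orderOf (x : G)).factorization p) :=
    Nat.Coprime.pow_right _ hgb
  obtain ⟨j, hj⟩ := exists_pow_eq_self_of_coprime h11.symm
  have h12 := pow_mem h10 j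
  rw [hj] at h12
  exact h12

end Cfsg.Agent.H278.EssLocal
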