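import Mathlib
import Cfsg.Agent.H278.EssLocal
import Cfsg.Agent.SignalizersComponents.PLayerAut
import Cfsg.Agent.Transfer.Residual

/-!
# Products of elements of `O^p(X)` along chains, and the fusion theorem
-/

set_option autoImplicit false

namespace Cfsg.Agent.H278.EssChain

open Subgroup Cfsg
open Cfsg.Agent.Transfer.FusionBasic
open Cfsg.Agent.Transfer
open Cfsg.Agent.H278.EssLocal
open Cfsg.Agent.H275.SylowChain

variable {G : Type*} [Group G]

theorem se_map_equiv {H : Type*} [Group H] (e : G ≃* H) {p : ℕ} {M : Subgroup G} (h : SE p M) :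
    SE p (M.map e.toMonoidHom) where
  ne_top := by
    intro h1
    apply h.ne_top
    rw [eq_top_iff]
    intro x _
    have : e x ∈ M.map e.toMonoidHom := by rw [h1]; trivial
    obtain ⟨y, hy, hxy⟩ := this
    rwa [← e.injective hxy]
  dvd := by
    rw [Subgroup.card_map_of_injective (f := e.toMonoidHom) e.injective]
    exact h.dvd
  disj := fun g hg => by
    have h1 := h.disj (e.symm g) (fun h2 => hg ⟨_, h2, by simp⟩)
    have h2 : (M.map e.toMonoidHom ⊓ (M.map e.toMonoidHom).map (MulAut.conj g).toMonoidHom) =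
        (M ⊓ M.map (MulAut.conj (e.symm g)).toMonoidHom).map e.toMonoidHom := by
      ext x
      have hm : ∀ (K : Subgroup G) (x : H), x ∈ K.map e.toMonoidHom ↔ e.symm x ∈ K :=
        fun K x => Subgroup.mem_map_equiv
      rw [Subgroup.mem_inf, mem_map_conj_iff, hm, hm, hm, Subgroup.mem_inf, mem_map_conj_iff]
      simp
    rw [h2, Subgroup.card_map_of_injective (f := e.toMonoidHom) e.injective]
    exact h1

theorem not_chainConnected_of_equiv [Finite G] {H : Type*} [Group H] (e : G ≃* H) {p : ℕ}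
    [Fact p.Prime] (h : ¬ IsSylowChainConnected p G) : ¬ IsSylowChainConnected p H := by
  have : Finite H := Finite.of_equiv G e.toEquiv
  obtain ⟨M, hM⟩ := not_chainConnected_iff.1 h
  exact not_chainConnected_iff.2 ⟨_, se_map_equiv e hM⟩

theorem disc_transport [Finite G] {p : ℕ} [Fact p.Prime] {N N' F F' : Subgroup G}
    [hn : (F.subgroupOf N).Normal] [hn' : (F'.subgroupOf N').Normal] (e : N ≃* N')
    (he : (F.subgroupOf N).map e.toMonoidHom = F'.subgroupOf N')
    (h : ¬ IsSylowChainConnected p (N ⧸ F.subgroupOf N)) :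
    ¬ IsSylowChainConnected p (N' ⧸ F'.subgroupOf N') :=
  not_chainConnected_of_equiv (QuotientGroup.congr _ _ e he) h

theorem ppOf_map (p : ℕ) (N : Subgroup G) (y : G) :
    ppOf p (N.map (MulAut.conj y).toMonoidHom) = (ppOf p N).map (MulAut.conj y).toMonoidHom := by
  let e : N ≃* (N.map (MulAut.conj y).toMonoidHom : Subgroup G) := (MulAut.conj y).subgroupMap N
  have h1 := Cfsg.Agent.SignalizersComponents.PLayerAut.map_equiv_pPrimePCore p e
  rw [ppOf_def, ppOf_def, ← h1, Subgroup.map_map, Subgroup.map_map]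
  rfl

theorem normal_subgroupOf_iff' {H K : Subgroup G} (h : H ≤ K) :
    (H.subgroupOf K).Normal ↔ K ≤ normalizer (H : Set G) :=
  normal_subgroupOf_iff_le_normalizer h

theorem centralizer_map_conj (A : Subgroup G) (y : G) :
    centralizer ((A.map (MulAut.conj y).toMonoidHom : Subgroup G) : Set G) =
      (centralizer (A : Set G)).map (MulAut.conj y).toMonoidHom := by
  ext x
  rw [mem_map_conj_iff, Subgroup.mem_centralizer_iff, Subgroup.mem_centralizer_iff]
  constructor
  · intro h a ha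
    have h1 := h (y * a * y⁻¹) ⟨a, ha, by simp⟩
    have e1 : y⁻¹ * (y * a * y⁻¹ * x) * y = a * (y⁻¹ * x * y) := by group
    have e2 : y⁻¹ * (x * (y * a * y⁻¹)) * y = (y⁻¹ * x * y) * a := by group
    rw [← e1, ← e2, h1]
  · rintro h _ ⟨a, ha, rfl⟩
    have h1 := h a ha
    simp only [MulEquiv.toMonoidHom_eq_coe, MonoidHom.coe_coe, MulAut.conj_apply]
    have e1 : y * (a * (y⁻¹ * x * y)) * y⁻¹ = y * a * y⁻¹ * x := by group
    have e2 : y * ((y⁻¹ * x * y) * a) * y⁻¹ = x * (y * a * y⁻¹) := by group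
    rw [← e1, ← e2, h1]

theorem relIndex_map_conj (A B : Subgroup G) (y : G) :
    (A.map (MulAut.conj y).toMonoidHom).relIndex (B.map (MulAut.conj y).toMonoidHom) =
      A.relIndex B :=
  Subgroup.relIndex_map_map_of_injective A B (f := (MulAut.conj y).toMonoidHom)
    (MulAut.conj y).injective

theorem map_conj_mono_iff {A B : Subgroup G} (y : G) :
    A.map (MulAut.conj y).toMonoidHom ≤ B.map (MulAut.conj y).toMonoidHom ↔ A ≤ B :=
  Subgroup.map_le_map_iff_of_injective (f := (MulAut.conj y).toMonoidHom) (MulAut.conj y).injective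

theorem essData_conj [Finite G] {p : ℕ} [Fact p.Prime] {P F X : Subgroup G} {y : G}
    (hy : y ∈ normalizer (P : Set G)) (h : EssData p P F X) :
    EssData p P (F.map (MulAut.conj y).toMonoidHom) (X.map (MulAut.conj y).toMonoidHom) := by
  have hP : P.map (MulAut.conj y).toMonoidHom = P := map_conj_eq_of_mem_normalizer hy
  have hN : normalizer ((F.map (MulAut.conj y).toMonoidHom : Subgroup G) : Set G) =
      (normalizer (F : Set G)).map (MulAut.conj y).toMonoidHom := normalizer_map_conj F y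
  have hC := centralizer_map_conj F y
  have hinf : ∀ A B : Subgroup G, (A ⊓ B).map (MulAut.conj y).toMonoidHom =
      A.map (MulAut.conj y).toMonoidHom ⊓ B.map (MulAut.conj y).toMonoidHom :=
    fun A B => Subgroup.map_inf A B _ (MulAut.conj y).injective
  refine ⟨?_, ?_, ?_, ?_, ?_, ?_, ?_, ?_, ?_, ?_⟩
  · rw [← hP]; exact map_mono h.le
  · rw [hN]
    have e : P ⊓ (normalizer (F : Set G)).map (MulAut.conj y).toMonoidHom =
        (P ⊓ normalizer (F : Set G)).map (MulAut.conj y).toMonoidHom := by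
      rw [hinf, hP]
    rw [e, relIndex_map_conj]
    exact h.syl
  · rw [hC]
    have e : P ⊓ (centralizer (F : Set G)).map (MulAut.conj y).toMonoidHom =
        (P ⊓ centralizer (F : Set G)).map (MulAut.conj y).toMonoidHom := by
      rw [hinf, hP]
    rw [e]
    exact map_mono h.cent
  · change ppOf p (normalizer ((F.map (MulAut.conj y).toMonoidHom : Subgroup G) : Set G)) = _
    rw [hN, ppOf_map, hC, ← Subgroup.map_sup]
    exact congrArg _ h.rad
  · let e : ↥(normalizer (F : Set G)) ≃*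
        ↥(normalizer ((F.map (MulAut.conj y).toMonoidHom : Subgroup G) : Set G)) :=
      ((MulAut.conj y).subgroupMap (normalizer (F : Set G))).trans (MulEquiv.subgroupCongr hN.symm)
    have hev : ∀ z, ((e z : ↥(normalizer ((F.map (MulAut.conj y).toMonoidHom : Subgroup G) : Set G))) : G) =
        y * z * y⁻¹ := fun z => rfl
    refine disc_transport e ?_ h.disc
    ext z
    rw [Subgroup.mem_map_equiv, Subgroup.mem_subgroupOf, Subgroup.mem_subgroupOf, mem_map_conj_iff]
    have h1 := hev (e.symm z)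
    rw [MulEquiv.apply_symm_apply] at h1
    rw [h1]
    have e3 : y⁻¹ * (y * (e.symm z : G) * y⁻¹) * y = (e.symm z : G) := by group
    rw [e3]
  · exact map_mono h.leX
  · rw [hN]; exact map_mono h.Xle
  · rw [normal_subgroupOf_iff' (by rw [hN]; exact map_mono h.Xle), hN, normalizer_map_conj]
    exact map_mono ((normal_subgroupOf_iff' h.Xle).mp h.normX)
  · rw [relIndex_map_conj]; exact h.dvdX
  · intro Y h1 h2 h3 h4
    obtain ⟨Z, hZ⟩ : ∃ Z : Subgroup G, Y = Z.map (MulAut.conj y).toMonoidHom :=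
      ⟨Y.map (MulAut.conj y⁻¹).toMonoidHom, (map_conj_map_conj_inv Y y).symm⟩
    rw [normal_subgroupOf_iff' h2] at h3
    subst hZ
    rw [hN, normalizer_map_conj, map_conj_mono_iff] at h3
    rw [hN, map_conj_mono_iff] at h2
    rw [map_conj_mono_iff] at h1
    rw [relIndex_map_conj] at h4
    exact map_mono (h.minX Z h1 h2 ((normal_subgroupOf_iff' h2).mpr h3) h4)

theorem mem_resid_conj (p : ℕ) {X : Subgroup G} {x : G} (y : G)
    (hx : x ∈ (pResidual p X).map X.subtype) :
    y * x * y⁻¹ ∈ (pResidual p (X.map (MulAut.conj y).toMonoidHom : Subgroup G)).map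
      (X.map (MulAut.conj y).toMonoidHom : Subgroup G).subtype := by
  obtain ⟨z, hz, rfl⟩ := hx
  let e : X ≃* (X.map (MulAut.conj y).toMonoidHom : Subgroup G) := (MulAut.conj y).subgroupMap X
  have h1 := Cfsg.Agent.Transfer.Residual.map_pResidual_equiv p e
  rw [← h1]
  exact ⟨e z, ⟨z, hz, rfl⟩, rfl⟩

/-- A chain of elements `x` of `O^p(X)` starting at `A`. -/
def Chain (p : ℕ) (P : Subgroup G) : Subgroup G → List (Subgroup G × Subgroup G × G) → Prop
  | _, [] => True
  | A, (t :: l) => A ≤ t.1 ∧ EssData p P t.1 t.2.1 ∧ t.2.2 ∈ (pResidual p t.2.1).map (t.2.1).subtype ∧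
      Chain p P (A.map (MulAut.conj t.2.2⁻¹).toMonoidHom) l

/-- The product of the elements of a chain. -/
def prd (l : List (Subgroup G × Subgroup G × G)) : G := (l.map fun t => t.2.2).prod

@[simp] theorem prd_nil : prd ([] : List (Subgroup G × Subgroup G × G)) = 1 := rfl

@[simp] theorem prd_cons (t : Subgroup G × Subgroup G × G) (l : List (Subgroup G × Subgroup G × G)) :
    prd (t :: l) = t.2.2 * prd l := by simp [prd]

@[simp] theorem prd_append (l l' : List (Subgroup G × Subgroup G × G)) :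
    prd (l ++ l') = prd l * prd l' := by simp [prd]

theorem Chain.mono {p : ℕ} {P : Subgroup G} : ∀ {l : List (Subgroup G × Subgroup G × G)}
    {A A' : Subgroup G}, Chain p P A l → A' ≤ A → Chain p P A' l
  | [], _, _, _, _ => trivial
  | (_ :: _), _, _, h, hA => ⟨hA.trans h.1, h.2.1, h.2.2.1, h.2.2.2.mono (map_mono hA)⟩

theorem Chain.append {p : ℕ} {P : Subgroup G} : ∀ {l l' : List (Subgroup G × Subgroup G × G)}
    {A : Subgroup G}, Chain p P A l → Chain p P (A.map (MulAut.conj (prd l)⁻¹).toMonoidHom) l' →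
    Chain p P A (l ++ l')
  | [], l', A, _, h' => by
    have e : A.map (MulAut.conj (prd ([] : List (Subgroup G × Subgroup G × G)))⁻¹).toMonoidHom = A := by
      ext x; rw [mem_map_conj_iff]; simp
    rw [e] at h'
    exact h'
  | (t :: l), l', A, h, h' => by
    refine ⟨h.1, h.2.1, h.2.2.1, h.2.2.2.append ?_⟩
    rw [map_conj_map_conj]
    have e : (prd l)⁻¹ * (t.2.2)⁻¹ = (prd (t :: l))⁻¹ := by rw [prd_cons, mul_inv_rev]
    rw [e]
    exact h'

/-- Conjugate of a chain. -/
def cj (y : G) (l : List (Subgroup G × Subgroup G × G)) : List (Subgroup G × Subgroup G × G) :=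
  l.map fun t => (t.1.map (MulAut.conj y).toMonoidHom, t.2.1.map (MulAut.conj y).toMonoidHom,
    y * t.2.2 * y⁻¹)

theorem prd_cj (y : G) : ∀ l : List (Subgroup G × Subgroup G × G), prd (cj y l) = y * prd l * y⁻¹
  | [] => by simp [cj]
  | (t :: l) => by
    have ih := prd_cj y l
    have e : cj y (t :: l) = (t.1.map (MulAut.conj y).toMonoidHom,
      t.2.1.map (MulAut.conj y).toMonoidHom, y * t.2.2 * y⁻¹) :: cj y l := rfl
    rw [e, prd_cons, ih, prd_cons]
    group

theorem Chain.conj [Finite G] {p : ℕ} [Fact p.Prime] {P : Subgroup G} {y : G}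
    (hy : y ∈ normalizer (P : Set G)) : ∀ {l : List (Subgroup G × Subgroup G × G)}
    {A : Subgroup G}, Chain p P A l → Chain p P (A.map (MulAut.conj y).toMonoidHom) (cj y l)
  | [], _, _ => trivial
  | (t :: l), A, h => by
    refine ⟨map_mono h.1, essData_conj hy h.2.1, mem_resid_conj p y h.2.2.1, ?_⟩
    have h1 := h.2.2.2.conj hy
    rw [map_conj_map_conj] at h1 ⊢
    have e : (y * t.2.2 * y⁻¹)⁻¹ * y = y * (t.2.2)⁻¹ := by group
    rw [e]
    exact h1

theorem Chain.inv [Finite G] {p : ℕ} [Fact p.Prime] {P : Subgroup G} :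
    ∀ {l : List (Subgroup G × Subgroup G × G)} {A : Subgroup G}, Chain p P A l →
      ∃ l', Chain p P (A.map (MulAut.conj (prd l)⁻¹).toMonoidHom) l' ∧ prd l' = (prd l)⁻¹
  | [], A, _ => ⟨[], trivial, by simp⟩
  | (t :: l), A, h => by
    obtain ⟨l', h1, h2⟩ := h.2.2.2.inv
    refine ⟨l' ++ [(t.1, t.2.1, (t.2.2)⁻¹)], ?_, by simp [h2]⟩
    refine Chain.append (l := l') ?_ ⟨?_, h.2.1, inv_mem h.2.2.1, trivial⟩
    · rw [map_conj_map_conj] at h1
      have e : (prd l)⁻¹ * (t.2.2)⁻¹ = (prd (t :: l))⁻¹ := by rw [prd_cons, mul_inv_rev]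
      rw [e] at h1
      exact h1
    · rw [map_conj_map_conj, h2, prd_cons]
      have e : (prd l)⁻¹⁻¹ * (t.2.2 * prd l)⁻¹ = (t.2.2)⁻¹ := by group
      rw [e]
      have hxN : t.2.2 ∈ normalizer (t.1 : Set G) := by
        apply h.2.1.Xle
        exact map_subtype_le _ h.2.2.1
      rintro _ ⟨a, ha, rfl⟩
      have := ((Subgroup.mem_normalizer_iff.mp (inv_mem hxN)) a).mp (h.1 ha)
      simpa using this

/-- The elements `k = c x₁ ⋯ xₙ y`. -/
def NF (p : ℕ) (P A : Subgroup G) (k : G) : Prop :=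
  ∃ c ∈ centralizer (A : Set G), ∃ l, Chain p P A l ∧ ∃ y ∈ normalizer (P : Set G),
    k = c * prd l * y

theorem NF.mono {p : ℕ} {P A A' : Subgroup G} {k : G} (h : NF p P A k) (hA : A' ≤ A) :
    NF p P A' k := by
  obtain ⟨c, hc, l, hl, y, hy, rfl⟩ := h
  exact ⟨c, Subgroup.centralizer_le hA hc, l, hl.mono hA, y, hy, rfl⟩

theorem map_conj_centralizing {A : Subgroup G} {c : G} (hc : c ∈ centralizer (A : Set G)) :
    A.map (MulAut.conj c).toMonoidHom = A := by
  apply map_conj_eq_of_mem_normalizer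
  exact centralizer_le_normalizer _ hc

theorem NF.comp [Finite G] {p : ℕ} [Fact p.Prime] {P A B : Subgroup G} {k k' : G}
    (h : NF p P A k) (h' : NF p P B k') (hAB : ∀ a ∈ A, k⁻¹ * a * k ∈ B) :
    NF p P A (k * k') := by
  obtain ⟨c, hc, l, hl, y, hy, rfl⟩ := h
  obtain ⟨c', hc', l', hl', y', hy', rfl⟩ := h'
  have hAc : ∀ a ∈ A, (prd l * y)⁻¹ * a * (prd l * y) ∈ B := by
    intro a ha
    have h1 := hAB a ha
    have h2 : c * a * c⁻¹ ∈ A := ((Subgroup.mem_normalizer_iff.mp
      (centralizer_le_normalizer _ hc)) a).mp ha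
    have h3 := hAB _ h2
    have e : (c * prd l * y)⁻¹ * (c * a * c⁻¹) * (c * prd l * y) =
      (prd l * y)⁻¹ * a * (prd l * y) := by group
    rwa [e] at h3
  refine ⟨c * ((prd l * y) * c' * (prd l * y)⁻¹), ?_, l ++ cj y l', ?_, y * y', mul_mem hy hy', ?_⟩
  · refine mul_mem hc ?_
    rw [Subgroup.mem_centralizer_iff]
    intro a ha
    have h1 := (Subgroup.mem_centralizer_iff.mp hc') _ (hAc a ha)
    have e1 : (prd l * y) * ((prd l * y)⁻¹ * a * (prd l * y) * c') * (prd l * y)⁻¹ =
      a * ((prd l * y) * c' * (prd l * y)⁻¹) := by group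
    have e2 : (prd l * y) * (c' * ((prd l * y)⁻¹ * a * (prd l * y))) * (prd l * y)⁻¹ =
      ((prd l * y) * c' * (prd l * y)⁻¹) * a := by group
    rw [← e1, ← e2, h1]
  · refine hl.append ?_
    refine (hl'.conj hy).mono ?_
    rintro _ ⟨a, ha, rfl⟩
    rw [mem_map_conj_iff]
    have h1 := hAc a ha
    have e : y⁻¹ * ((MulAut.conj (prd l)⁻¹).toMonoidHom a) * y =
        (prd l * y)⁻¹ * a * (prd l * y) := by
      simp only [MulEquiv.toMonoidHom_eq_coe, MonoidHom.coe_coe, MulAut.conj_apply]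
      group
    rw [e]; exact h1
  · rw [prd_append, prd_cj]
    group

theorem nf_of_centralizer {p : ℕ} {P A : Subgroup G} {c : G} (hc : c ∈ centralizer (A : Set G)) :
    NF p P A c := ⟨c, hc, [], trivial, 1, one_mem _, by simp⟩

theorem nf_of_normalizer {p : ℕ} {P A : Subgroup G} {y : G} (hy : y ∈ normalizer (P : Set G)) :
    NF p P A y := ⟨1, one_mem _, [], trivial, y, hy, by simp⟩

theorem nf_of_chain {p : ℕ} {P A : Subgroup G} {l : List (Subgroup G × Subgroup G × G)}
    (h : Chain p P A l) : NF p P A (prd l) := ⟨1, one_mem _, l, h, 1, one_mem _, by simp⟩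

theorem NF.inv [Finite G] {p : ℕ} [Fact p.Prime] {P A B : Subgroup G} {k : G}
    (h : NF p P A k) (hBA : ∀ b ∈ B, k * b * k⁻¹ ∈ A) : NF p P B k⁻¹ := by
  obtain ⟨c, hc, l, hl, y, hy, rfl⟩ := h
  obtain ⟨l', hl', hl2⟩ := hl.inv
  have h1 : NF p P B y⁻¹ := nf_of_normalizer (inv_mem hy)
  have h2 : NF p P (A.map (MulAut.conj (prd l)⁻¹).toMonoidHom) (prd l)⁻¹ := by
    have := nf_of_chain hl'
    rwa [hl2] at this
  have h3 : NF p P A c⁻¹ := nf_of_centralizer (inv_mem hc)
  have h4 := h2.comp h3 (fun a ha => by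
    rw [mem_map_conj_iff] at ha
    exact ha)
  have h5 := h1.comp h4 (fun b hb => by
    rw [mem_map_conj_iff]
    have h6 := hBA b hb
    have h7 : c⁻¹ * (c * prd l * y * b * (c * prd l * y)⁻¹) * c ∈ A := by
      have := ((Subgroup.mem_normalizer_iff.mp
        (centralizer_le_normalizer _ (inv_mem hc))) _).mp h6
      rwa [inv_inv] at this
    have e : c⁻¹ * (c * prd l * y * b * (c * prd l * y)⁻¹) * c =
      (prd l)⁻¹⁻¹ * (y⁻¹⁻¹ * b * y⁻¹) * (prd l)⁻¹ := by group
    rwa [e] at h7)
  have e : y⁻¹ * ((prd l)⁻¹ * c⁻¹) = (c * prd l * y)⁻¹ := by group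
  rwa [e] at h5

theorem nf_all [Finite G] {p : ℕ} [Fact p.Prime] (P : Sylow p G) (A : Subgroup G) (k : G)
    (hA : A ≤ (P : Subgroup G)) (hk : ∀ a ∈ A, k⁻¹ * a * k ∈ (P : Subgroup G)) :
    NF p (P : Subgroup G) A k := by
  have main := GoodFusion.good_of_fullyNormalized P
    (fun H g => NF p (P : Subgroup G) H g⁻¹)
    (fun H H' g h h' => h.mono h')
    (fun H K g g' h hHK h' => by
      have h1 : NF p (P : Subgroup G) H (g⁻¹ * g'⁻¹) := h.comp h' (fun a ha => by
        rw [inv_inv]; exact hHK a ha)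
      rwa [← mul_inv_rev] at h1)
    (fun H K g h hK => h.inv (fun b hb => by
      rw [inv_inv]; exact hK b hb))
    (fun g hg => nf_of_normalizer (inv_mem hg))
    (fun F hFP hT hIH => by
      have hid : ∀ {g : G}, g ∈ normalizer (F : Set G) → ∀ a ∈ F, g⁻¹ * a * g ∈ F := by
        intro g hg a ha
        have := ((Subgroup.mem_normalizer_iff.mp (inv_mem hg)) a).mp ha
        rwa [inv_inv] at this
      have hid' : ∀ {g : G}, g ∈ normalizer (F : Set G) → ∀ a ∈ F, g * a * g⁻¹ ∈ F := by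
        intro g hg a ha
        exact ((Subgroup.mem_normalizer_iff.mp hg) a).mp ha
      let M : Subgroup G :=
        { carrier := {m | m ∈ normalizer (F : Set G) ∧ NF p (P : Subgroup G) F m}
          mul_mem' := fun {a b} ha hb => ⟨mul_mem ha.1 hb.1, ha.2.comp hb.2 (hid ha.1)⟩
          one_mem' := ⟨one_mem _, nf_of_centralizer (one_mem _)⟩
          inv_mem' := fun {a} ha => ⟨inv_mem ha.1, ha.2.inv (hid' ha.1)⟩ }
      have hM : normalizer (F : Set G) ≤ M := by
        refine local_step P hFP hT M (fun m hm => hm.1)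
          (fun c hc => ⟨centralizer_le_normalizer _ hc, nf_of_centralizer hc⟩) ?_ ?_
        · intro R hR hRP m hm hmR
          have h1 := hIH R hRP (Cfsg.Agent.PLocal.ConjFunctor.card_lt_card_of_lt hR) m hmR
          have h2 : NF p (P : Subgroup G) F m⁻¹ := h1.mono hR.le
          have h3 : m⁻¹ ∈ M := ⟨inv_mem hm, h2⟩
          have := M.inv_mem h3
          rwa [inv_inv] at this
        · intro X hX x hx
          have h1 : x ∈ normalizer (F : Set G) := hX.Xle (map_subtype_le _ hx)
          refine ⟨h1, ?_⟩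
          have h2 : Chain p (P : Subgroup G) F [(F, X, x)] := ⟨le_rfl, hX, hx, trivial⟩
          have h3 := nf_of_chain h2
          simpa using h3
      intro n hn
      exact (hM (inv_mem hn)).2)
  have h1 := main A k⁻¹ hA (fun a ha => by rw [inv_inv]; exact hk a ha)
  simp only [inv_inv] at h1
  exact h1

theorem take_prod_ofFn_cond {p : ℕ} {P : Subgroup G} : ∀ {l : List (Subgroup G × Subgroup G × G)}
    {A : Subgroup G}, Chain p P A l → ∀ i : Fin l.length,
      EssData p P (l.get i).1 (l.get i).2.1 ∧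
      (l.get i).2.2 ∈ (pResidual p (l.get i).2.1).map ((l.get i).2.1).subtype ∧
      ∀ a ∈ A, (((l.map fun t => t.2.2).take i.val).prod)⁻¹ * a *
        ((l.map fun t => t.2.2).take i.val).prod ∈ (l.get i).1
  | [], _, _, i => i.elim0
  | (t :: l), A, h, ⟨0, _⟩ => ⟨h.2.1, h.2.2.1, fun a ha => by simpa using h.1 ha⟩
  | (t :: l), A, h, ⟨i + 1, hi⟩ => by
    have ih := take_prod_ofFn_cond h.2.2.2 ⟨i, by simpa using hi⟩
    refine ⟨ih.1, ih.2.1, fun a ha => ?_⟩
    have h1 := ih.2.2 (t.2.2⁻¹ * a * t.2.2) ⟨a, ha, by simp⟩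
    simp only [List.map_cons, List.take_succ_cons, List.prod_cons, List.get_eq_getElem,
      List.getElem_cons_succ] at h1 ⊢
    have e : (t.2.2 * (List.take i (List.map (fun t => t.2.2) l)).prod)⁻¹ * a *
      (t.2.2 * (List.take i (List.map (fun t => t.2.2) l)).prod) =
      (List.take i (List.map (fun t => t.2.2) l)).prod⁻¹ * (t.2.2⁻¹ * a * t.2.2) *
        (List.take i (List.map (fun t => t.2.2) l)).prod := by group
    rw [e]
    exact h1

end Cfsg.Agent.H278.EssChain
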